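import Mathlib
import Cfsg.Prelude.Def_LocalStructure
import Cfsg.Prelude.Def_LocalEven
import Cfsg.Agent.Lib.LocalY.Kieler

/-!
# Large subgroups and the members of `𝓛_G` over a Sylow subgroup
-/

set_option autoImplicit false

namespace Cfsg.Agent.Lib.LocalY.Large

open Cfsg Subgroup Cfsg.Agent.Lib.LocalY.Kieler Cfsg.Agent.Lib.LocalY.NoChar
open Cfsg.Agent.Lib.LocalY.Transfer

variable {G : Type*} [Group G] [Finite G] {p : ℕ} [Fact p.Prime]

/-- A coprime element commuting with `v⁻¹ x v x⁻¹`, an element of `p`-power exponent, makes it trivial. -/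
theorem comm_eq_one_of_commute' {v x : G} (hx : (orderOf x).Coprime p) {n : ℕ}
    (hp : (v⁻¹ * x * v * x⁻¹) ^ p ^ n = 1) (h : Commute x (v⁻¹ * x * v * x⁻¹)) :
    v⁻¹ * x * v * x⁻¹ = 1 := by
  have h1 := pow_comm_of_commute h (orderOf x)
  rw [pow_orderOf_eq_one] at h1
  have h2 : (v⁻¹ * x * v * x⁻¹) ^ orderOf x = 1 := by
    rw [h1]
    simp
  have h3 := orderOf_dvd_of_pow_eq_one h2
  have h4 := orderOf_dvd_of_pow_eq_one hp
  have h5 := Nat.dvd_gcd h3 h4
  have hc : (orderOf x).Coprime (p ^ n) := Nat.Coprime.pow_right n hx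
  rw [hc.gcd_eq_one] at h5
  exact orderOf_eq_one_iff.mp (Nat.dvd_one.mp h5)

/-- A finite group in which only the identity has order prime to `p` is a `p`-group: subgroup form. -/
theorem isPGroup_of_coprime_eq_one {X : Subgroup G} (h : ∀ y ∈ X, (orderOf y).Coprime p → y = 1) :
    IsPGroup p X := by
  rintro ⟨d, hd⟩
  obtain ⟨a, ha⟩ := exists_pow_coprime (p := p) d
  refine ⟨a, Subtype.ext ?_⟩
  exact h _ (X.pow_mem hd _) ha

variable {Q : Subgroup G}

/-- **Lemma**: `Q` large, `Q` in the Sylow subgroup `S ≤ R` and `O_p(R) ≠ 1`: then `C_G(O_p(R)) ≤ O_p(R)`. -/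
theorem centralizer_pCoreOf_le (hQp : IsPGroup p Q) (hL : IsLarge Q) (S : Sylow p G)
    (hQS : Q ≤ (S : Subgroup G)) {R : Subgroup G} (hSR : (S : Subgroup G) ≤ R) (hne : pCore p ↥R ≠ ⊥) :
    centralizer ((pCoreOf p R : Subgroup G) : Set G) ≤ pCoreOf p R := by
  set U : Subgroup G := pCoreOf p R with hU
  have hUR : U ≤ R := Subgroup.map_subtype_le _
  have hQR : Q ≤ R := hQS.trans hSR
  have hUp : IsPGroup p U := (Cfsg.Agent.Lib.Basic.PCore.pCore_isPGroup (G := ↥R) p).map _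
  have hUn : ∀ r ∈ R, ∀ u ∈ U, r * u * r⁻¹ ∈ U := fun r hr u hu => conj_mem_pCoreOf hr hu
  obtain ⟨u₀, hu₀, hu₀1⟩ : ∃ u₀ ∈ pCore p ↥R, u₀ ≠ 1 := by
    by_contra hcon
    push Not at hcon
    exact hne ((Subgroup.eq_bot_iff_forall _).mpr hcon)
  have hu₀U : (u₀ : G) ∈ U := ⟨u₀, hu₀, rfl⟩
  have hu₀ne : (u₀ : G) ≠ 1 := fun h => hu₀1 (Subtype.ext h)
  obtain ⟨v, hvU, hv1, hvQ⟩ := exists_fixed_conj hQp (fun t ht x hx => hUn t (hQR ht) x hx) hUp hu₀U hu₀ne
  -- `C(U)` normalizes `Q`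
  have hCQ : centralizer (U : Set G) ≤ normalizer (Q : Set G) := by
    have hV : zpowers v ≤ centralizer (Q : Set G) := by
      rw [Subgroup.zpowers_le, mem_centralizer_iff]
      intro q hq
      exact hvQ q hq
    have hVne : zpowers v ≠ ⊥ := by
      intro h
      apply hv1
      rw [Subgroup.zpowers_eq_bot] at h
      exact h
    have hN := hL.2 _ hV hVne
    refine le_trans ?_ hN
    intro x hx
    have hxv : x * v = v * x := (mem_centralizer_iff.mp hx v hvU).symm
    have hxc : x ∈ centralizer ((zpowers v : Subgroup G) : Set G) := by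
      rw [mem_centralizer_iff]
      rintro _ ⟨n, rfl⟩
      have h3 : Commute x v := hxv
      exact ((h3.zpow_right n).eq).symm
    exact Subgroup.centralizer_le_normalizer _ hxc
  -- `Q ∩ C(U) ≤ U`
  have hCn : ((R ⊓ centralizer (U : Set G)).subgroupOf R).Normal :=
    Cfsg.Agent.Lib.LocalY.Subnormal.inf_centralizer_normal hUn
  have hQC : Q ⊓ centralizer (U : Set G) ≤ U := by
    set R₀ : Subgroup ↥R := (Q ⊓ centralizer (U : Set G)).subgroupOf R with hR₀
    set X₀ : Subgroup ↥R := (R ⊓ centralizer (U : Set G)).subgroupOf R with hX₀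
    have h1 : R₀ ≤ X₀ := by
      intro x hx
      rw [hR₀, Subgroup.mem_subgroupOf] at hx
      rw [hX₀, Subgroup.mem_subgroupOf]
      exact ⟨x.2, hx.2⟩
    have h2 : (R₀.subgroupOf X₀).Normal := by
      constructor
      rintro ⟨x, hx⟩ hx2 ⟨g, hg⟩
      rw [Subgroup.mem_subgroupOf] at hx2 ⊢
      rw [hR₀, Subgroup.mem_subgroupOf] at hx2 ⊢
      rw [hX₀, Subgroup.mem_subgroupOf] at hg
      constructor
      · exact (Subgroup.mem_normalizer_iff.mp (hCQ hg.2) _).mp hx2.1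
      · have h3 := Subgroup.mem_subgroupOf.mp (hCn.conj_mem x (hX₀ ▸ hx) ⟨g, hg.1⟩ |> fun h => by
          exact h)
        exact h3.2
    have h4 : R₀.IsSubnormal := IsSubnormal.step R₀ X₀ h1 hCn.isSubnormal h2
    have h5 : IsPGroup p R₀ := (hQp.to_le inf_le_left).comap_subtype
    have h6 := Cfsg.Agent.Lib.Basic.PCore.le_pCore_of_subnormal h4 h5
    intro x hx
    have hxR : x ∈ R := hQR hx.1
    exact ⟨⟨x, hxR⟩, h6 (Subgroup.mem_subgroupOf.mpr hx), rfl⟩
  -- only trivial `p'`-elements in `C(U)`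
  have htriv : ∀ y ∈ centralizer (U : Set G), (orderOf y).Coprime p → y = 1 := by
    intro y hy hc
    have hyQ : y ∈ centralizer (Q : Set G) := by
      rw [mem_centralizer_iff]
      intro q hq
      have h1 : q⁻¹ * y * q * y⁻¹ ∈ Q := by
        have h2 : q⁻¹ * y * q * y⁻¹ = q⁻¹ * (y * q * y⁻¹) := by group
        rw [h2]
        exact Q.mul_mem (Q.inv_mem hq) ((Subgroup.mem_normalizer_iff.mp (hCQ hy) q).mp hq)
      have h3 : q⁻¹ * y * q * y⁻¹ ∈ centralizer (U : Set G) := by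
        have h4 : q⁻¹ * y * q * y⁻¹ = (q⁻¹ * y * q⁻¹⁻¹) * y⁻¹ := by group
        rw [h4]
        refine Subgroup.mul_mem _ ?_ (Subgroup.inv_mem _ hy)
        have h5 := normalizer_le_normalizer_centralizer U
        have h6 : q⁻¹ ∈ normalizer (U : Set G) := by
          apply le_normalizer_of_normal hUR _ (R.inv_mem (hQR hq))
          constructor
          rintro ⟨x, hx⟩ hx2 ⟨g, hg⟩
          rw [Subgroup.mem_subgroupOf] at hx2 ⊢
          exact hUn g hg x hx2
        exact (Subgroup.mem_normalizer_iff.mp (h5 h6) y).mp hy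
      have h7 := hQC ⟨h1, h3⟩
      have hcomm : Commute y (q⁻¹ * y * q * y⁻¹) := (mem_centralizer_iff.mp hy _ h7).symm
      obtain ⟨n, hn⟩ := hUp ⟨_, h7⟩
      have hn' : (q⁻¹ * y * q * y⁻¹) ^ p ^ n = 1 := congrArg Subtype.val hn
      have h8 := comm_eq_one_of_commute' hc hn' hcomm
      have h9 : q * (q⁻¹ * y * q * y⁻¹) * y = q * 1 * y := by rw [h8]
      have h10 : q * (q⁻¹ * y * q * y⁻¹) * y = y * q := by group
      rw [h10] at h9
      simpa using h9.symm
    have hyQ2 : y ∈ Q := hL.1 hyQ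
    obtain ⟨n, hn⟩ := hQp ⟨y, hyQ2⟩
    have hn' : y ^ p ^ n = 1 := congrArg Subtype.val hn
    have h11 := orderOf_dvd_of_pow_eq_one hn'
    have h12 : (orderOf y).Coprime (p ^ n) := Nat.Coprime.pow_right n hc
    exact orderOf_eq_one_iff.mp (Nat.Coprime.eq_one_of_dvd h12 h11)
  have hCp : IsPGroup p (centralizer (U : Set G)) := isPGroup_of_coprime_eq_one htriv
  have hUnorm : R ≤ normalizer (U : Set G) := by
    apply le_normalizer_of_normal hUR
    constructor
    rintro ⟨x, hx⟩ hx2 ⟨g, hg⟩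
    rw [Subgroup.mem_subgroupOf] at hx2 ⊢
    exact hUn g hg x hx2
  have hSN : (S : Subgroup G) ≤ normalizer ((centralizer (U : Set G) : Subgroup G) : Set G) :=
    (hSR.trans hUnorm).trans (normalizer_le_normalizer_centralizer U)
  have hCS : centralizer (U : Set G) ≤ (S : Subgroup G) :=
    Cfsg.Agent.Lib.Components.CharP.le_sylow_of_le_normalizer S hCp hSN
  have hCR : centralizer (U : Set G) ≤ R := hCS.trans hSR
  have hpc : IsPGroup p ↥((R ⊓ centralizer (U : Set G)).subgroupOf R) :=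
    (hCp.to_le (inf_le_right : R ⊓ centralizer (U : Set G) ≤ _)).comap_subtype
  have hle := Cfsg.Agent.Lib.Basic.PCore.le_pCore hCn hpc
  intro x hx
  exact ⟨⟨x, hCR hx⟩, hle (Subgroup.mem_subgroupOf.mpr ⟨hCR hx, hx⟩), rfl⟩

/-- Every member of `𝓛_G` lies in a maximal one. -/
theorem exists_max_of_mem {L : Subgroup G} (hL : L ∈ charPSubgroups p G) :
    ∃ X ∈ maxCharPSubgroups p G, L ≤ X := by
  obtain ⟨X, hLX, hX⟩ := (Set.toFinite (charPSubgroups p G)).exists_le_maximal hL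
  refine ⟨X, ⟨hX.1, fun Y hY hXY => ?_⟩, hLX⟩
  exact le_antisymm (hX.2 hY hXY) hXY

/-- For `M` with the basic property: every member of `𝓛_G` containing `M` lies in `M†`. -/
theorem le_dagger {M : Subgroup G} (hM : IsInFrakM p M) {R : Subgroup G} (hMR : M ≤ R)
    (hR : R ∈ charPSubgroups p G) : R ≤ M ⊔ centralizer (largestPReducedOf p M : Set G) := by
  obtain ⟨X, hX, hRX⟩ := exists_max_of_mem hR
  have h1 := hM.2.2.1 X hX (hMR.trans hRX)
  rw [← h1]
  exact hRX

/-- The overgroups of a Sylow subgroup containing `Q` with `O_p ≠ 1` lie in `𝓛_G`. -/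
theorem mem_charPSubgroups (hQp : IsPGroup p Q) (hL : IsLarge Q) (S : Sylow p G)
    (hQS : Q ≤ (S : Subgroup G)) {R : Subgroup G} (hSR : (S : Subgroup G) ≤ R) (hne : pCore p ↥R ≠ ⊥) :
    R ∈ charPSubgroups p G :=
  ⟨hne, centralizer_pCoreOf_le hQp hL S hQS hSR hne⟩

/-- `N_G(I) ≤ M†` for a nontrivial `p`-subgroup `I` normalized by `M ≥ S`. -/
theorem normalizer_le_dagger (hQp : IsPGroup p Q) (hL : IsLarge Q) (S : Sylow p G)
    (hQS : Q ≤ (S : Subgroup G)) {M : Subgroup G} (hSM : (S : Subgroup G) ≤ M) (hM : IsInFrakM p M)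
    {I : Subgroup G} (hI1 : I ≠ ⊥) (hIp : IsPGroup p I) (hMI : M ≤ normalizer (I : Set G)) :
    normalizer (I : Set G) ≤ M ⊔ centralizer (largestPReducedOf p M : Set G) := by
  apply le_dagger hM hMI
  apply mem_charPSubgroups hQp hL S hQS (hSM.trans hMI)
  intro hbot
  apply hI1
  have hn : (I.subgroupOf (normalizer (I : Set G))).Normal :=
    Subgroup.normal_subgroupOf_iff_le_normalizer (Subgroup.le_normalizer) |>.mpr le_rfl
  have h1 : I.subgroupOf (normalizer (I : Set G)) ≤ pCore p ↥(normalizer (I : Set G)) :=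
    Cfsg.Agent.Lib.Basic.PCore.le_pCore hn hIp.comap_subtype
  rw [hbot, le_bot_iff] at h1
  rw [eq_bot_iff]
  intro x hx
  have h2 : (⟨x, Subgroup.le_normalizer hx⟩ : ↥(normalizer (I : Set G))) ∈ I.subgroupOf (normalizer (I : Set G)) :=
    Subgroup.mem_subgroupOf.mpr hx
  rw [h1, Subgroup.mem_bot] at h2
  exact congrArg Subtype.val h2

end Cfsg.Agent.Lib.LocalY.Large
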