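import Mathlib
import Cfsg.Prelude.Def_LocalStructure
import Cfsg.Prelude.Def_Transfer
import Cfsg.Agent.Lib.Basic.PCore
import Cfsg.Agent.Lib.LocalY.Basic
import Cfsg.Agent.Lib.LocalY.NoChar

/-!
# `p`-closed groups; `O^p` along surjections
-/

set_option autoImplicit false

namespace Cfsg.Agent.Lib.LocalY.PClosed

open Cfsg Subgroup

variable {X Y : Type*} [Group X] [Group Y] {p : ℕ}

/-- `X` is `p`-closed iff it has a normal `p`-subgroup of index prime to `p`. -/
theorem isPClosed_iff [Finite X] [Fact p.Prime] :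
    IsPClosed p X ↔ ∃ S : Subgroup X, S.Normal ∧ IsPGroup p S ∧ ¬ p ∣ S.index := by
  constructor
  · intro h
    obtain ⟨P⟩ : Nonempty (Sylow p X) := inferInstance
    exact ⟨P, h P, P.isPGroup', P.not_dvd_index⟩
  · rintro ⟨S, hSn, hSp, hSi⟩ P
    have h1 : S ≤ (P : Subgroup X) := hSp.le_sylow_of_normal P
    have h2 : (P : Subgroup X) = S := (hSp.toSylow hSi).is_maximal' P.isPGroup' h1
    rw [h2]
    exact hSn

theorem isPClosed_of_surjective [Finite X] [Finite Y] [Fact p.Prime] {f : X →* Y}
    (hf : Function.Surjective f) (h : IsPClosed p X) : IsPClosed p Y := by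
  rw [isPClosed_iff] at h ⊢
  obtain ⟨S, hSn, hSp, hSi⟩ := h
  exact ⟨S.map f, hSn.map f hf, hSp.map f, fun hd => hSi (hd.trans (S.index_map_dvd hf))⟩

theorem isPClosed_of_surjective_of_ker [Finite X] [Finite Y] [Fact p.Prime] {f : X →* Y}
    (hf : Function.Surjective f) (hk : IsPGroup p f.ker) (h : IsPClosed p Y) : IsPClosed p X := by
  rw [isPClosed_iff] at h ⊢
  obtain ⟨S, hSn, hSp, hSi⟩ := h
  refine ⟨S.comap f, hSn.comap f, hSp.comap_of_ker_isPGroup f hk, ?_⟩
  rwa [Subgroup.index_comap_of_surjective _ hf]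

/-- Along a surjection with `p`-group kernel, `p`-closedness is equivalent. -/
theorem isPClosed_iff_of_surjective [Finite X] [Finite Y] [Fact p.Prime] {f : X →* Y}
    (hf : Function.Surjective f) (hk : IsPGroup p f.ker) : IsPClosed p X ↔ IsPClosed p Y :=
  ⟨isPClosed_of_surjective hf, isPClosed_of_surjective_of_ker hf hk⟩

/-- `O^p` is carried onto `O^p` by surjections. -/
theorem map_pResidual_of_surjective [Finite X] [Finite Y] [Fact p.Prime] {f : X →* Y}
    (hf : Function.Surjective f) : (pResidual p X).map f = pResidual p Y := by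
  have hpp : p.Prime := Fact.out
  apply le_antisymm
  · rw [pResidual, MonoidHom.map_closure, Subgroup.closure_le]
    rintro _ ⟨x, hx, rfl⟩
    apply Subgroup.subset_closure
    have h1 : orderOf (f x) ∣ orderOf x := orderOf_map_dvd f x
    exact Nat.Coprime.coprime_dvd_left h1 hx
  · rw [pResidual, Subgroup.closure_le]
    intro y hy
    obtain ⟨x, rfl⟩ := hf y
    obtain ⟨a, ha⟩ := Cfsg.Agent.Lib.LocalY.NoChar.exists_pow_coprime (p := p) x
    have h2 : f x ^ p ^ a ∈ (pResidual p X).map f :=
      ⟨x ^ p ^ a, Subgroup.subset_closure ha, by simp⟩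
    have h3 : f x ^ orderOf (f x) ∈ (pResidual p X).map f := by
      rw [pow_orderOf_eq_one]
      exact one_mem _
    have hcop : (p ^ a).Coprime (orderOf (f x)) := by
      apply Nat.Coprime.pow_left
      rw [Nat.coprime_comm]
      exact hy
    exact Cfsg.Agent.Lib.LocalY.Basic.mem_of_pow_mem_of_coprime h2 h3 hcop

end Cfsg.Agent.Lib.LocalY.PClosed
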