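import Mathlib
import Cfsg.Prelude.Def_LocalStructure
import Cfsg.Prelude.Def_LocalEven
import Cfsg.Agent.Lib.Basic.PCore
import Cfsg.Agent.Lib.Basic.SylowUtil
import Cfsg.Agent.Lib.LocalY.Basic
import Cfsg.Agent.Lib.LocalY.Structure
import Cfsg.Agent.Lib.LocalY.PClosed
import Cfsg.Agent.Lib.LocalY.Large
import Cfsg.Agent.S2802

/-!
# The passage from `𝓛_H` to the basic property `𝔐_H`

`Prd p A V` says, inside the ambient group, that `V` is a `p`-reduced normal subgroup of `A`.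
-/

set_option autoImplicit false

namespace Cfsg.Agent.Lib.LocalY.FrakM

open Cfsg Subgroup Cfsg.Agent.Lib.LocalY.Basic

variable {H : Type*} [Group H] [Finite H] {p : ℕ} [Fact p.Prime]

/-- `V` is a `p`-reduced normal subgroup of `A`, stated inside the ambient group. -/
structure Prd (p : ℕ) (A V : Subgroup H) : Prop where
  le : V ≤ A
  conj : ∀ a ∈ A, ∀ v ∈ V, a * v * a⁻¹ ∈ V
  comm : ∀ a ∈ V, ∀ b ∈ V, a * b = b * a
  pow : ∀ a ∈ V, a ^ p = 1
  core : ∀ D : Subgroup H, D ≤ A → (∀ a ∈ A, ∀ d ∈ D, a * d * a⁻¹ ∈ D) →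
    (∀ d ∈ D, ∃ k : ℕ, d ^ p ^ k ∈ centralizer (V : Set H)) → D ≤ centralizer (V : Set H)

/-- Translating the `p`-reduced condition along an injective homomorphism. -/
theorem prd_iff_comap {K : Type*} [Group K] [Finite K] (f : K →* H) (hf : Function.Injective f)
    {A V : Subgroup H} (hA : f.range = A) (hV : V ≤ A) :
    IsPReducedNormal p (V.comap f) ↔ Prd p A V := by
  have hmem : ∀ a : H, a ∈ A ↔ ∃ k, f k = a := by
    intro a
    rw [← hA]
    exact MonoidHom.mem_range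
  have hcent : ∀ k : K, k ∈ centralizer ((V.comap f : Subgroup K) : Set K) ↔
      f k ∈ centralizer (V : Set H) := by
    intro k
    rw [mem_centralizer_iff, mem_centralizer_iff]
    constructor
    · intro h v hv
      obtain ⟨u, rfl⟩ := (hmem v).mp (hV hv)
      have h1 := h u hv
      rw [← map_mul, ← map_mul, h1]
    · intro h u hu
      apply hf
      rw [map_mul, map_mul]
      exact h _ hu
  constructor
  · intro hP
    have hn := hP.1
    have hc := hP.2.1.1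
    have hpw := hP.2.1.2
    refine ⟨hV, ?_, ?_, ?_, ?_⟩
    · intro a ha v hv
      obtain ⟨g, rfl⟩ := (hmem a).mp ha
      obtain ⟨u, rfl⟩ := (hmem v).mp (hV hv)
      have h1 := hn.conj_mem u hv g
      have h2 : f (g * u * g⁻¹) ∈ V := h1
      simpa using h2
    · intro a ha b hb
      obtain ⟨u, rfl⟩ := (hmem a).mp (hV ha)
      obtain ⟨w, rfl⟩ := (hmem b).mp (hV hb)
      have h1 := hc.is_comm.comm ⟨u, ha⟩ ⟨w, hb⟩
      have h2 : u * w = w * u := congrArg Subtype.val h1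
      rw [← map_mul, ← map_mul, h2]
    · intro a ha
      obtain ⟨u, rfl⟩ := (hmem a).mp (hV ha)
      have h2 : u ^ p = 1 := hpw u ha
      rw [← map_pow, h2, map_one]
    · intro D hDA hDn hDp
      have hM : (D.comap f).Normal := by
        constructor
        intro m hm g
        have h1 : f (g * m * g⁻¹) = f g * f m * (f g)⁻¹ := by simp
        show f (g * m * g⁻¹) ∈ D
        rw [h1]
        exact hDn _ ((hmem _).mpr ⟨g, rfl⟩) _ hm
      have h3 := le_centralizer_of_pElements hP hM (by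
        intro m hm
        obtain ⟨k, hk⟩ := hDp _ hm
        refine ⟨k, (hcent _).mpr ?_⟩
        rwa [map_pow])
      intro d hd
      obtain ⟨m, rfl⟩ := (hmem d).mp (hDA hd)
      exact (hcent m).mp (h3 hd)
  · intro hP
    apply isPReducedNormal_of
    · constructor
      intro u hu g
      have h1 : f (g * u * g⁻¹) = f g * f u * (f g)⁻¹ := by simp
      show f (g * u * g⁻¹) ∈ V
      rw [h1]
      exact hP.conj _ ((hmem _).mpr ⟨g, rfl⟩) _ hu
    · intro a ha b hb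
      apply hf
      rw [map_mul, map_mul]
      exact hP.comm _ ha _ hb
    · intro a ha
      apply hf
      rw [map_pow, map_one]
      exact hP.pow _ ha
    · intro M hM hm
      have h3 := hP.core (M.map f) (by
        rintro _ ⟨m, _, rfl⟩
        exact (hmem _).mpr ⟨m, rfl⟩) (by
        rintro a ha _ ⟨m, hm', rfl⟩
        obtain ⟨g, rfl⟩ := (hmem a).mp ha
        refine ⟨g * m * g⁻¹, hM.conj_mem m hm' g, by simp⟩) (by
        rintro _ ⟨m, hm', rfl⟩
        obtain ⟨k, hk⟩ := hm m hm'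
        refine ⟨k, ?_⟩
        rw [← map_pow]
        exact (hcent _).mp hk)
      intro m hm'
      exact (hcent m).mpr (h3 ⟨m, hm', rfl⟩)

theorem prd_iff {A V : Subgroup H} (hV : V ≤ A) :
    IsPReducedNormal p (V.subgroupOf A) ↔ Prd p A V :=
  prd_iff_comap A.subtype A.subtype_injective (Subgroup.range_subtype A) hV

/-- The characteristic `p` condition for a member of `𝓛_H`, inside the subgroup. -/
theorem hchar_of_mem {X : Subgroup H} (hX : X ∈ charPSubgroups p H) :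
    centralizer (pCore p ↥X : Set ↥X) ≤ pCore p ↥X := by
  intro x hx
  have h1 : (x : H) ∈ centralizer (((pCore p ↥X).map X.subtype : Subgroup H) : Set H) := by
    rw [mem_centralizer_iff]
    rintro _ ⟨o, ho, rfl⟩
    have h2 := mem_centralizer_iff.mp hx o ho
    exact congrArg Subtype.val h2
  obtain ⟨y, hy, hyx⟩ := hX.2 h1
  have h3 : y = x := Subtype.ext hyx
  rwa [← h3]

theorem largest_subgroupOf (A : Subgroup H) :
    (largestPReducedOf p A).subgroupOf A = largestPReduced p ↥A :=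
  Subgroup.comap_map_eq_self_of_injective A.subtype_injective _

theorem largest_le (A : Subgroup H) : largestPReducedOf p A ≤ A := Subgroup.map_subtype_le _

theorem prd_largest {A : Subgroup H} (hA : centralizer (pCore p ↥A : Set ↥A) ≤ pCore p ↥A) :
    Prd p A (largestPReducedOf p A) := by
  rw [← prd_iff (largest_le A), largest_subgroupOf]
  exact isPReducedNormal_largest hA

theorem le_largest {A V : Subgroup H} (hV : Prd p A V) : V ≤ largestPReducedOf p A := by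
  have h1 := (prd_iff hV.le).mpr hV
  have h2 := le_largestPReduced h1
  intro v hv
  exact ⟨⟨v, hV.le hv⟩, h2 (Subgroup.mem_subgroupOf.mpr hv), rfl⟩

/-- Monotonicity of the largest `p`-reduced normal subgroup among overgroups of a Sylow subgroup. -/
theorem le_largest_of_le (T : Sylow p H) {A B V : Subgroup H} (hTA : (T : Subgroup H) ≤ A)
    (hAB : A ≤ B) (hB : centralizer (pCore p ↥B : Set ↥B) ≤ pCore p ↥B) (hV : Prd p A V) :
    V ≤ largestPReducedOf p B := by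
  set T' : Sylow p ↥B := T.subtype (hTA.trans hAB) with hT'
  set R : Subgroup ↥B := A.subgroupOf B with hR
  have hTR : (T' : Subgroup ↥B) ≤ R := by
    rw [hT', Sylow.coe_subtype]
    intro x hx
    rw [hR, Subgroup.mem_subgroupOf]
    exact hTA (Subgroup.mem_subgroupOf.mp hx)
  let f : ↥R →* H := B.subtype.comp R.subtype
  have hf : Function.Injective f :=
    B.subtype_injective.comp R.subtype_injective
  have hfr : f.range = A := by
    ext x
    constructor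
    · rintro ⟨r, rfl⟩
      exact Subgroup.mem_subgroupOf.mp r.2
    · intro hx
      exact ⟨⟨⟨x, hAB hx⟩, Subgroup.mem_subgroupOf.mpr hx⟩, rfl⟩
  have hX : IsPReducedNormal p (V.comap f) := (prd_iff_comap f hf hfr hV.le).mpr hV
  have h1 := Cfsg.Agent.S2802.result hB T' R hTR (V.comap f) hX
  have h2 := le_largestPReduced h1
  intro v hv
  have hvA := hV.le hv
  refine ⟨⟨v, hAB hvA⟩, h2 (Subgroup.le_normalClosure ?_), rfl⟩
  exact ⟨⟨⟨v, hAB hvA⟩, Subgroup.mem_subgroupOf.mpr hvA⟩, hv, rfl⟩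

/-- The largest `p`-reduced normal subgroups are monotone among members over a Sylow subgroup. -/
theorem largest_mono (T : Sylow p H) {A B : Subgroup H} (hTA : (T : Subgroup H) ≤ A)
    (hAB : A ≤ B) (hA : A ∈ charPSubgroups p H) (hB : B ∈ charPSubgroups p H) :
    largestPReducedOf p A ≤ largestPReducedOf p B :=
  le_largest_of_le T hTA hAB (hchar_of_mem hB) (prd_largest (hchar_of_mem hA))

/-- `Y_X` lies in every Sylow subgroup of `H` inside `X`. -/
theorem largest_le_sylow (T : Sylow p H) {X : Subgroup H} (hTX : (T : Subgroup H) ≤ X)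
    (hX : X ∈ charPSubgroups p H) : largestPReducedOf p X ≤ T := by
  have h1 := isPReducedNormal_largest (hchar_of_mem hX)
  have h2 := le_center_pCore (hchar_of_mem hX) h1
  have h3 : pCore p ↥X ≤ (T.subtype hTX : Subgroup ↥X) :=
    Cfsg.Agent.Lib.Basic.PCore.pCore_le_sylow _
  rw [Sylow.coe_subtype] at h3
  rintro _ ⟨y, hy, rfl⟩
  exact Subgroup.mem_subgroupOf.mp (h3 (h2 hy).1)

/-- `Y_X` is nontrivial for a member of `𝓛_H` over a Sylow subgroup. -/
theorem largest_ne_bot (T : Sylow p H) {X : Subgroup H} (hTX : (T : Subgroup H) ≤ X)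
    (hX : X ∈ charPSubgroups p H) : largestPReducedOf p X ≠ ⊥ := by
  intro hbot
  have hch := hchar_of_mem hX
  have h0 : largestPReduced p ↥X = ⊥ := by
    rw [← largest_subgroupOf, hbot]
    exact Subgroup.bot_subgroupOf X
  set T' : Sylow p ↥X := T.subtype hTX with hT'
  obtain ⟨-, -, h1⟩ := Cfsg.Agent.Lib.LocalY.Structure.structure_main hch T'
    (largestPReduced p ↥X) (isPReducedNormal_largest hch) (fun V hV => le_largestPReduced hV) _ rfl
  have h2 : (T' : Subgroup ↥X) ⊓ centralizer ((largestPReduced p ↥X : Subgroup ↥X) : Set ↥X) = T' := by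
    rw [h0]
    refine le_antisymm inf_le_left (le_inf le_rfl ?_)
    intro x _
    rw [mem_centralizer_iff]
    intro y hy
    have hy1 : y = 1 := Subgroup.mem_bot.mp hy
    rw [hy1, one_mul, mul_one]
  rw [h2, h0] at h1
  -- `T'` is a nontrivial `p`-group
  have hT1 : (T' : Subgroup ↥X) ≠ ⊥ := by
    intro h
    apply hX.1
    have h3 : pCore p ↥X ≤ (T' : Subgroup ↥X) := Cfsg.Agent.Lib.Basic.PCore.pCore_le_sylow _
    rw [h, le_bot_iff] at h3
    exact h3
  haveI : Nontrivial ↥(T' : Subgroup ↥X) := (Subgroup.nontrivial_iff_ne_bot _).mpr hT1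
  have hct := T'.isPGroup'.center_nontrivial
  obtain ⟨z, hz⟩ := exists_ne (1 : ↥(center ↥(T' : Subgroup ↥X)))
  obtain ⟨k, hk⟩ := T'.isPGroup' (z : ↥(T' : Subgroup ↥X))
  have hz1 : ((z : ↥(T' : Subgroup ↥X)) : ↥X) ≠ 1 := by
    intro h
    apply hz
    apply Subtype.ext
    apply Subtype.ext
    exact h
  -- an element of order `p` in `Z(T')`
  obtain ⟨m, hm⟩ : ∃ m : ℕ, ((z : ↥(T' : Subgroup ↥X)) : ↥X) ^ p ^ m ≠ 1 ∧
      (((z : ↥(T' : Subgroup ↥X)) : ↥X) ^ p ^ m) ^ p = 1 := by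
    have hk' : ((z : ↥(T' : Subgroup ↥X)) : ↥X) ^ p ^ k = 1 := congrArg Subtype.val hk
    classical
    have hex : ∃ n, ((z : ↥(T' : Subgroup ↥X)) : ↥X) ^ p ^ n = 1 := ⟨k, hk'⟩
    have hfind := Nat.find_spec hex
    have hmin := fun m => Nat.find_min hex (m := m)
    have hpos : Nat.find hex ≠ 0 := by
      intro h0
      rw [h0, pow_zero, pow_one] at hfind
      exact hz1 hfind
    obtain ⟨m, hm⟩ := Nat.exists_eq_succ_of_ne_zero hpos
    refine ⟨m, hmin m (by omega), ?_⟩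
    rw [hm, Nat.succ_eq_add_one, pow_succ, pow_mul] at hfind
    exact hfind
  apply hm.1
  have hmem : ((z : ↥(T' : Subgroup ↥X)) : ↥X) ^ p ^ m ∈
      omegaOne p ((T' : Subgroup ↥X) ⊓ centralizer ((T' : Subgroup ↥X) : Set ↥X)) := by
    apply Subgroup.subset_closure
    refine ⟨⟨Subgroup.pow_mem _ (z : ↥(T' : Subgroup ↥X)).2 _, ?_⟩, hm.2⟩
    apply Subgroup.pow_mem
    rw [mem_centralizer_iff]
    intro t ht
    have h5 := (Subgroup.mem_center_iff.mp z.2) ⟨t, ht⟩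
    exact congrArg Subtype.val h5
  rw [← h1] at hmem
  exact Subgroup.mem_bot.mp hmem


/-! ### Elementary factorization facts -/

omit [Finite H] [Fact p.Prime] in
theorem mem_normalizer_of_forall {A S : Subgroup H} (h : ∀ a ∈ A, ∀ s ∈ S, a * s * a⁻¹ ∈ S) {a : H}
    (ha : a ∈ A) : a ∈ normalizer (S : Set H) := by
  rw [mem_normalizer_iff]
  intro x
  constructor
  · exact h a ha x
  · intro hx
    have h1 := h a⁻¹ (A.inv_mem ha) _ hx
    have h2 : a⁻¹ * (a * x * a⁻¹) * a⁻¹⁻¹ = x := by group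
    rwa [h2] at h1

omit [Finite H] [Fact p.Prime] in
theorem mul_pow_mem {C : Subgroup H} {d c : H} (hd : d ∈ normalizer (C : Set H)) (hc : c ∈ C) (n : ℕ) :
    ∃ c' ∈ C, (d * c) ^ n = d ^ n * c' := by
  induction n with
  | zero => exact ⟨1, one_mem _, by simp⟩
  | succ n ih =>
    obtain ⟨c', hc', h⟩ := ih
    refine ⟨d⁻¹ * c' * d * c, C.mul_mem ?_ hc, ?_⟩
    · have h1 := (mem_normalizer_iff.mp (inv_mem hd) c').mp hc'
      simpa using h1
    · rw [pow_succ, h, pow_succ]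
      group

omit [Finite H] [Fact p.Prime] in
theorem exists_mul_of_mem_sup {D C : Subgroup H} (h : D ≤ normalizer (C : Set H)) {x : H}
    (hx : x ∈ D ⊔ C) : ∃ d ∈ D, ∃ c ∈ C, x = d * c := by
  rw [← SetLike.mem_coe, coe_mul_of_left_le_normalizer_right D C h] at hx
  obtain ⟨d, hd, c, hc, rfl⟩ := Set.mem_mul.mp hx
  exact ⟨d, hd, c, hc, rfl⟩

omit [Finite H] [Fact p.Prime] in
theorem conj_mem_centralizer {V : Subgroup H} {a c : H} (ha : ∀ v ∈ V, a⁻¹ * v * a ∈ V)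
    (hc : c ∈ centralizer (V : Set H)) : a * c * a⁻¹ ∈ centralizer (V : Set H) := by
  rw [mem_centralizer_iff]
  intro v hv
  have h1 := mem_centralizer_iff.mp hc _ (ha v hv)
  calc v * (a * c * a⁻¹) = a * ((a⁻¹ * v * a) * c) * a⁻¹ := by group
    _ = a * (c * (a⁻¹ * v * a)) * a⁻¹ := by rw [h1]
    _ = a * c * a⁻¹ * v := by group

/-- Elements `d * c`, `d` a `p`-element modulo `C` normalizing `C`, are `p`-elements modulo `C`. -/
theorem Prd.sup_pelt {A D C V : Subgroup H} (hconj : ∀ a ∈ A, ∀ v ∈ V, a * v * a⁻¹ ∈ V)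
    (hDA : D ≤ A) (hCA : C ≤ A) (hCV : C ≤ centralizer (V : Set H))
    (hD : ∀ d ∈ D, ∃ k : ℕ, d ^ p ^ k ∈ centralizer (V : Set H))
    (hAC : ∀ a ∈ A, ∀ c ∈ C, a * c * a⁻¹ ∈ C) :
    ∀ x ∈ D ⊔ C, ∃ k : ℕ, x ^ p ^ k ∈ centralizer (V : Set H) := by
  have hDN : D ≤ normalizer (C : Set H) := fun d hd => mem_normalizer_of_forall hAC (hDA hd)
  have hcN : ∀ a ∈ A, a ∈ normalizer ((centralizer (V : Set H) : Subgroup H) : Set H) := by
    intro a ha
    refine mem_normalizer_of_forall (A := A) ?_ ha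
    intro b hb c hc
    apply conj_mem_centralizer _ hc
    intro v hv
    have h1 := hconj b⁻¹ (A.inv_mem hb) v hv
    simpa using h1
  intro x hx
  obtain ⟨d, hd, c, hc, rfl⟩ := exists_mul_of_mem_sup hDN hx
  obtain ⟨k, hk⟩ := hD d hd
  refine ⟨k, ?_⟩
  obtain ⟨c', hc', h⟩ := mul_pow_mem (hcN d (hDA hd)) (hCV hc) (p ^ k)
  rw [h]
  exact mul_mem hk hc'

/-- Descent along a factorization `A = B C_A(V)`. -/
theorem Prd.of_factor {A B V : Subgroup H} (hV : Prd p A V) (hBA : B ≤ A) (hVB : V ≤ B)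
    (hfac : ∀ g ∈ A, ∃ a ∈ B, ∃ c ∈ centralizer (V : Set H), g = a * c) : Prd p B V := by
  refine ⟨hVB, fun a ha v hv => hV.conj a (hBA ha) v hv, hV.comm, hV.pow, ?_⟩
  intro D hDB hDn hDp
  set C : Subgroup H := A ⊓ centralizer (V : Set H) with hC
  have hAC : ∀ a ∈ A, ∀ c ∈ C, a * c * a⁻¹ ∈ C := by
    intro a ha c hc
    refine ⟨A.mul_mem (A.mul_mem ha hc.1) (A.inv_mem ha), ?_⟩
    apply conj_mem_centralizer _ hc.2
    intro v hv
    have h1 := hV.conj a⁻¹ (A.inv_mem ha) v hv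
    simpa using h1
  have hDA : D ≤ A := hDB.trans hBA
  have hDN : D ≤ normalizer (C : Set H) := fun d hd => mem_normalizer_of_forall hAC (hDA hd)
  have hD₂ := hV.core (D ⊔ C) (sup_le hDA inf_le_left) (by
    intro g hg x hx
    obtain ⟨d, hd, c, hc, rfl⟩ := exists_mul_of_mem_sup hDN hx
    obtain ⟨a, ha, c', hc', rfl⟩ := hfac g hg
    have hc'A : c' ∈ A := by
      have h1 : c' = a⁻¹ * (a * c') := by group
      rw [h1]
      exact A.mul_mem (A.inv_mem (hBA ha)) hg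
    have hc'C : c' ∈ C := ⟨hc'A, hc'⟩
    have h2 : a * c' * (d * c) * (a * c')⁻¹ =
        (a * (c' * (d * c'⁻¹ * d⁻¹)) * a⁻¹) * (a * d * a⁻¹) * ((a * c') * c * (a * c')⁻¹) := by group
    rw [h2]
    refine mul_mem (mul_mem ?_ ?_) ?_
    · apply (le_sup_right : C ≤ D ⊔ C)
      apply hAC a (hBA ha)
      refine C.mul_mem hc'C ?_
      exact hAC d (hDA hd) _ (C.inv_mem hc'C)
    · exact (le_sup_left : D ≤ D ⊔ C) (hDn a ha d hd)
    · exact (le_sup_right : C ≤ D ⊔ C) (hAC _ hg c hc))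
    (Prd.sup_pelt hV.conj hDA inf_le_left inf_le_right hDp hAC)
  exact le_sup_left.trans hD₂

/-- Ascent along a factorization `A = B C_A(V)`. -/
theorem Prd.of_factor_up {A B V : Subgroup H} (hV : Prd p B V) (hBA : B ≤ A)
    (hfac : ∀ g ∈ A, ∃ a ∈ B, ∃ c ∈ centralizer (V : Set H), g = a * c) : Prd p A V := by
  have hconj : ∀ a ∈ A, ∀ v ∈ V, a * v * a⁻¹ ∈ V := by
    intro g hg v hv
    obtain ⟨a, ha, c, hc, rfl⟩ := hfac g hg
    have h1 : c * v = v * c := (mem_centralizer_iff.mp hc v hv).symm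
    have h2 : a * c * v * (a * c)⁻¹ = a * v * a⁻¹ := by
      calc a * c * v * (a * c)⁻¹ = a * (c * v) * c⁻¹ * a⁻¹ := by group
        _ = a * (v * c) * c⁻¹ * a⁻¹ := by rw [h1]
        _ = a * v * a⁻¹ := by group
    rw [h2]
    exact hV.conj a ha v hv
  refine ⟨hV.le.trans hBA, hconj, hV.comm, hV.pow, ?_⟩
  intro D hDA hDn hDp
  set C : Subgroup H := A ⊓ centralizer (V : Set H) with hC
  have hAC : ∀ a ∈ A, ∀ c ∈ C, a * c * a⁻¹ ∈ C := by
    intro a ha c hc
    refine ⟨A.mul_mem (A.mul_mem ha hc.1) (A.inv_mem ha), ?_⟩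
    apply conj_mem_centralizer _ hc.2
    intro v hv
    have h1 := hconj a⁻¹ (A.inv_mem ha) v hv
    simpa using h1
  have hDN : D ≤ normalizer (C : Set H) := fun d hd => mem_normalizer_of_forall hAC (hDA hd)
  have hpelt := Prd.sup_pelt hconj hDA (inf_le_left : C ≤ A) inf_le_right hDp hAC
  have hD₃ := hV.core ((D ⊔ C) ⊓ B) inf_le_right (by
    intro b hb x hx
    refine ⟨?_, B.mul_mem (B.mul_mem hb hx.2) (B.inv_mem hb)⟩
    obtain ⟨d, hd, c, hc, hx1⟩ := exists_mul_of_mem_sup hDN hx.1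
    have h2 : b * x * b⁻¹ = (b * d * b⁻¹) * (b * c * b⁻¹) := by
      rw [hx1]
      group
    rw [h2]
    exact mul_mem ((le_sup_left : D ≤ D ⊔ C) (hDn b (hBA hb) d hd))
      ((le_sup_right : C ≤ D ⊔ C) (hAC b (hBA hb) c hc))) (fun x hx => hpelt x hx.1)
  intro d hd
  obtain ⟨a, ha, c, hc, rfl⟩ := hfac d (hDA hd)
  have hcA : c ∈ A := by
    have h1 : c = a⁻¹ * (a * c) := by group
    rw [h1]
    exact A.mul_mem (A.inv_mem (hBA ha)) (hDA hd)
  have haD : a ∈ (D ⊔ C) ⊓ B := by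
    refine ⟨?_, ha⟩
    have h1 : a = (a * c) * c⁻¹ := by group
    rw [h1]
    exact mul_mem ((le_sup_left : D ≤ D ⊔ C) hd)
      ((le_sup_right : C ≤ D ⊔ C) (C.inv_mem ⟨hcA, hc⟩))
  exact mul_mem (hD₃ haD) hc

/-- Transfer between two subgroups with the same product with a subgroup centralizing `U`. -/
theorem Prd.transfer {B₁ B₂ B K₀ U : Subgroup H} (h : Prd p B₁ U) (hB₁ : B₁ ≤ B) (hB₂ : B₂ ≤ B)
    (hUB₂ : U ≤ B₂) (hK₀ : K₀ ≤ centralizer (U : Set H))
    (f₁ : ∀ g ∈ B, ∃ a ∈ B₁, ∃ c ∈ K₀, g = a * c)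
    (f₂ : ∀ g ∈ B, ∃ a ∈ B₂, ∃ c ∈ K₀, g = a * c) : Prd p B₂ U := by
  have h1 : Prd p B U := h.of_factor_up hB₁ (fun g hg => by
    obtain ⟨a, ha, c, hc, e⟩ := f₁ g hg
    exact ⟨a, ha, c, hK₀ hc, e⟩)
  exact h1.of_factor hB₂ hUB₂ (fun g hg => by
    obtain ⟨a, ha, c, hc, e⟩ := f₂ g hg
    exact ⟨a, ha, c, hK₀ hc, e⟩)

/-! ### Members of `𝓛_H` for parabolic characteristic -/

theorem charP_of (hH : IsOfParabolicCharacteristic p H) (T : Sylow p H) {X : Subgroup H}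
    (hTX : (T : Subgroup H) ≤ X) (hne : pCore p ↥X ≠ ⊥) : X ∈ charPSubgroups p H := by
  refine ⟨hne, ?_⟩
  set R : Subgroup H := (pCore p ↥X).map X.subtype with hR
  have hRp : IsPGroup p R := (Cfsg.Agent.Lib.Basic.PCore.pCore_isPGroup p).map _
  have hR1 : R ≠ ⊥ := by
    rw [hR, Ne, Subgroup.map_eq_bot_iff_of_injective _ X.subtype_injective]
    exact hne
  have hXn : ∀ x ∈ X, ∀ r ∈ R, x * r * x⁻¹ ∈ R := by
    rintro x hx _ ⟨q, hq, rfl⟩
    have hn : (pCore p ↥X).Normal := Cfsg.Agent.Lib.Basic.PCore.pCore_normal p _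
    exact ⟨⟨x, hx⟩ * q * ⟨x, hx⟩⁻¹, hn.conj_mem q hq _, rfl⟩
  set N : Subgroup H := normalizer (R : Set H) with hN
  have hXN : X ≤ N := fun x hx => mem_normalizer_of_forall hXn hx
  have hTN : (T : Subgroup H) ≤ N := hTX.trans hXN
  have hch := hH R hRp hR1 ⟨T, hTN⟩
  have hOT : pCore p ↥N ≤ (T.subtype hTN : Subgroup ↥N) :=
    Cfsg.Agent.Lib.Basic.PCore.pCore_le_sylow _
  rw [Sylow.coe_subtype] at hOT
  have hONn : (pCore p ↥N).Normal := Cfsg.Agent.Lib.Basic.PCore.pCore_normal p _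
  have hONp : IsPGroup p (pCore p ↥N) := Cfsg.Agent.Lib.Basic.PCore.pCore_isPGroup p
  have h1 : (pCore p ↥N).map N.subtype ≤ R := by
    have hnorm : (((pCore p ↥N).map N.subtype).subgroupOf X).Normal := by
      constructor
      rintro ⟨y, hyX⟩ hy ⟨g, hg⟩
      rw [Subgroup.mem_subgroupOf] at hy ⊢
      obtain ⟨o, ho, ho2⟩ := hy
      refine ⟨⟨g, hXN hg⟩ * o * ⟨g, hXN hg⟩⁻¹, hONn.conj_mem o ho _, ?_⟩
      show g * (o : H) * g⁻¹ = g * y * g⁻¹
      have ho3 : (o : H) = y := ho2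
      rw [ho3]
    have hpg : IsPGroup p (((pCore p ↥N).map N.subtype).subgroupOf X) :=
      (hONp.map N.subtype).comap_subtype
    have h2 := Cfsg.Agent.Lib.Basic.PCore.le_pCore hnorm hpg
    rintro _ ⟨o, ho, rfl⟩
    have hoT : (o : H) ∈ (T : Subgroup H) := Subgroup.mem_subgroupOf.mp (hOT ho)
    exact ⟨⟨o, hTX hoT⟩, h2 (Subgroup.mem_subgroupOf.mpr ⟨o, ho, rfl⟩), rfl⟩
  intro x hx
  have hxN : x ∈ N := Subgroup.centralizer_le_normalizer _ hx
  have hx2 : (⟨x, hxN⟩ : ↥N) ∈ centralizer (pCore p ↥N : Set ↥N) := by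
    rw [mem_centralizer_iff]
    intro o ho
    have h3 : (o : H) ∈ R := h1 ⟨o, ho, rfl⟩
    apply Subtype.ext
    exact mem_centralizer_iff.mp hx _ h3
  exact h1 ⟨_, hch hx2, rfl⟩

theorem charP_of_normal (hH : IsOfParabolicCharacteristic p H) (T : Sylow p H) {X U : Subgroup H}
    (hTX : (T : Subgroup H) ≤ X) (hUX : U ≤ X) (hUp : IsPGroup p U) (hU1 : U ≠ ⊥)
    (hXU : ∀ x ∈ X, ∀ u ∈ U, x * u * x⁻¹ ∈ U) : X ∈ charPSubgroups p H := by
  apply charP_of hH T hTX
  intro hbot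
  apply hU1
  have hn : (U.subgroupOf X).Normal := by
    constructor
    rintro ⟨y, hyX⟩ hy ⟨g, hg⟩
    rw [Subgroup.mem_subgroupOf] at hy ⊢
    exact hXU g hg y hy
  have h1 := Cfsg.Agent.Lib.Basic.PCore.le_pCore hn hUp.comap_subtype
  rw [hbot, le_bot_iff] at h1
  rw [eq_bot_iff]
  intro u hu
  have h2 : (⟨u, hUX hu⟩ : ↥X) ∈ U.subgroupOf X := Subgroup.mem_subgroupOf.mpr hu
  rw [h1, Subgroup.mem_bot] at h2
  exact congrArg Subtype.val h2

/-- The normalizer of `Y_X` is `X` for maximal members of `𝓛_H` over a Sylow subgroup. -/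
theorem normalizer_largest_eq (hH : IsOfParabolicCharacteristic p H) (T : Sylow p H) {X : Subgroup H}
    (hTX : (T : Subgroup H) ≤ X) (hX : X ∈ maxCharPSubgroups p H) :
    normalizer (largestPReducedOf p X : Set H) = X := by
  have hV := prd_largest (hchar_of_mem hX.1)
  have hVT := largest_le_sylow T hTX hX.1
  have hV1 := largest_ne_bot T hTX hX.1
  have hXN : X ≤ normalizer (largestPReducedOf p X : Set H) :=
    fun x hx => mem_normalizer_of_forall hV.conj hx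
  apply hX.2 _ _ hXN
  apply charP_of_normal hH T (hTX.trans hXN) Subgroup.le_normalizer (T.isPGroup'.to_le hVT) hV1
  intro x hx u hu
  exact (mem_normalizer_iff.mp hx u).mp hu

/-! ### Frattini arguments -/

/-- Frattini factorization in a subgroup over a Sylow subgroup, inside the ambient group. -/
theorem exists_factor_of_le (T : Sylow p H) {A V : Subgroup H} (hTA : (T : Subgroup H) ≤ A)
    (hVA : V ≤ A) (hV : ∀ a ∈ A, ∀ v ∈ V, a * v * a⁻¹ ∈ V) {g : H} (hg : g ∈ A) :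
    ∃ a ∈ A, a ∈ normalizer (((T : Subgroup H) ⊓ centralizer (V : Set H) : Subgroup H) : Set H) ∧
      ∃ c ∈ A, c ∈ centralizer (V : Set H) ∧ g = a * c := by
  set T' : Sylow p ↥A := T.subtype hTA with hT'
  set Y' : Subgroup ↥A := V.subgroupOf A with hY'
  have hYn : Y'.Normal := by
    constructor
    rintro ⟨y, hyA⟩ hy ⟨b, hb⟩
    rw [hY', Subgroup.mem_subgroupOf] at hy ⊢
    exact hV b hb y hy
  have hcent : ∀ b : ↥A, b ∈ centralizer (Y' : Set ↥A) ↔ (b : H) ∈ centralizer (V : Set H) := by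
    intro b
    rw [mem_centralizer_iff, mem_centralizer_iff]
    constructor
    · intro h v hv
      have h1 := h ⟨v, hVA hv⟩ (Subgroup.mem_subgroupOf.mpr hv)
      exact congrArg Subtype.val h1
    · intro h v hv
      apply Subtype.ext
      exact h _ (Subgroup.mem_subgroupOf.mp hv)
  obtain ⟨a, ha, c, hc, hgac⟩ :=
    Cfsg.Agent.Lib.LocalY.Structure.exists_factor T' Y' hYn ⟨g, hg⟩
  refine ⟨a, a.2, ?_, c, c.2, (hcent c).mp hc, congrArg Subtype.val hgac⟩
  have key : ∀ b : ↥A, b ∈ normalizer (((T' : Subgroup ↥A) ⊓ centralizer (Y' : Set ↥A) : Subgroup ↥A) : Set ↥A) →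
      ∀ x ∈ (T : Subgroup H) ⊓ centralizer (V : Set H), (b : H) * x * (b : H)⁻¹ ∈
        (T : Subgroup H) ⊓ centralizer (V : Set H) := by
    intro b hb x hx
    have hxA : x ∈ A := hTA hx.1
    have h1 : (⟨x, hxA⟩ : ↥A) ∈ (T' : Subgroup ↥A) ⊓ centralizer (Y' : Set ↥A) := by
      refine ⟨?_, (hcent _).mpr hx.2⟩
      rw [hT', Sylow.coe_subtype]
      exact Subgroup.mem_subgroupOf.mpr hx.1
    have h2 := (mem_normalizer_iff.mp hb _).mp h1
    refine ⟨?_, (hcent _).mp h2.2⟩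
    have h3 := h2.1
    rw [hT', Sylow.coe_subtype] at h3
    exact Subgroup.mem_subgroupOf.mp h3
  rw [mem_normalizer_iff]
  intro x
  constructor
  · exact key a ha x
  · intro hx
    have h1 := key a⁻¹ (inv_mem ha) _ hx
    have h2 : ((a⁻¹ : ↥A) : H) * ((a : H) * x * (a : H)⁻¹) * ((a⁻¹ : ↥A) : H)⁻¹ = x := by
      simp only [InvMemClass.coe_inv]
      group
    rwa [h2] at h1

theorem not_dvd_relIndex_inf {L : Type*} [Group L] [Finite L] (T : Sylow p L) (K : Subgroup L)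
    [K.Normal] : ¬ p ∣ ((T : Subgroup L) ⊓ K).relIndex K := by
  obtain ⟨Q, hQ⟩ := Cfsg.Agent.Lib.Basic.SylowUtil.exists_sylow_inf_normal T K
  have h1 : (Q : Subgroup ↥K) = ((T : Subgroup L) ⊓ K).subgroupOf K := by
    rw [← hQ]
    exact (Subgroup.comap_map_eq_self_of_injective K.subtype_injective _).symm
  rw [Subgroup.relIndex, ← h1]
  exact Q.not_dvd_index

/-- A normal subgroup `K` having no proper supplement over `T` maps into the Frattini subgroup of `L/O`,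
when `T ∩ K ≤ O`. -/
theorem le_frattini_of_minimal {L : Type*} [Group L] [Finite L] (T : Sylow p L) (K O : Subgroup L)
    [hK : K.Normal] [hO : O.Normal] (hTK : (T : Subgroup L) ⊓ K ≤ O)
    (hmin : ∀ D : Subgroup L, (T : Subgroup L) ≤ D → D ⊔ K = ⊤ → D = ⊤) :
    K.map (QuotientGroup.mk' O) ≤ frattini (L ⧸ O) := by
  unfold frattini Order.radical
  refine le_iInf₂ ?_
  intro Dq hDq
  by_contra hnot
  set D₀ : Subgroup L := Dq.comap (QuotientGroup.mk' O) with hD₀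
  have hsurj : Function.Surjective (QuotientGroup.mk' O) := QuotientGroup.mk'_surjective O
  have hmap : D₀.map (QuotientGroup.mk' O) = Dq := Subgroup.map_comap_eq_self_of_surjective hsurj Dq
  have hOD : O ≤ D₀ := by
    intro x hx
    rw [hD₀, Subgroup.mem_comap]
    have h1 : QuotientGroup.mk' O x = 1 := (QuotientGroup.eq_one_iff x).mpr hx
    rw [h1]
    exact one_mem _
  have hD₀ne : D₀ ≠ ⊤ := by
    intro h
    apply hDq.1
    rw [← hmap, h, ← MonoidHom.range_eq_map, MonoidHom.range_eq_top]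
    exact hsurj
  have hsup : D₀ ⊔ K = ⊤ := by
    have h1 : Dq ⊔ K.map (QuotientGroup.mk' O) = ⊤ :=
      hDq.2 _ (lt_of_le_of_ne le_sup_left (fun h => hnot (by
        rw [h]
        exact le_sup_right)))
    have h2 : (D₀ ⊔ K).map (QuotientGroup.mk' O) = ⊤ := by
      rw [Subgroup.map_sup, hmap, h1]
    rw [eq_top_iff]
    intro x _
    have h3 : QuotientGroup.mk' O x ∈ (D₀ ⊔ K).map (QuotientGroup.mk' O) := by
      rw [h2]
      trivial
    obtain ⟨y, hy, hyx⟩ := h3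
    have h4 : y⁻¹ * x ∈ O := by
      rw [← QuotientGroup.eq_one_iff]
      have h5 : ((y⁻¹ * x : L) : L ⧸ O) = (y : L ⧸ O)⁻¹ * (x : L ⧸ O) := by
        rw [QuotientGroup.mk_mul, QuotientGroup.mk_inv]
      rw [h5]
      have h6 : (y : L ⧸ O) = (x : L ⧸ O) := hyx
      rw [h6, inv_mul_cancel]
    have h7 : x = y * (y⁻¹ * x) := by group
    rw [h7]
    exact mul_mem hy ((le_sup_left : D₀ ≤ D₀ ⊔ K) (hOD h4))
  -- the index
  have hidx : ¬ p ∣ D₀.index := by
    intro hdvd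
    have hrel : K.index = K.relIndex D₀ := by
      have h1 := Subgroup.relIndex_sup_right (H := D₀) (K := K)
      rw [hsup, Subgroup.relIndex_top_right] at h1
      exact h1
    set I : Subgroup L := K ⊓ D₀ with hI
    have h2 : I.relIndex K * K.index = I.index :=
      Subgroup.relIndex_mul_index inf_le_left
    have h3 : I.relIndex D₀ * D₀.index = I.index :=
      Subgroup.relIndex_mul_index inf_le_right
    have h4 : I.relIndex D₀ = K.relIndex D₀ := Subgroup.inf_relIndex_right K D₀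
    have hKpos : K.index ≠ 0 := Subgroup.index_ne_zero_of_finite
    have h5 : D₀.index = I.relIndex K := by
      rw [h4, ← hrel] at h3
      have h6 : K.index * D₀.index = K.index * I.relIndex K := by
        rw [h3, ← h2, mul_comm]
      exact Nat.eq_of_mul_eq_mul_left (Nat.pos_of_ne_zero hKpos) h6
    have h7 : I.relIndex K ∣ ((T : Subgroup L) ⊓ K).relIndex K :=
      Subgroup.relIndex_dvd_of_le_left K (le_inf inf_le_right (hTK.trans hOD))
    exact not_dvd_relIndex_inf T K (dvd_trans hdvd (h5 ▸ h7))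
  obtain ⟨U⟩ : Nonempty (Sylow p ↥D₀) := inferInstance
  obtain ⟨P, hP⟩ := Cfsg.Agent.Lib.Basic.SylowUtil.sylow_map_of_not_dvd_index hidx U
  have hPD : (P : Subgroup L) ≤ D₀ := by
    rw [hP]
    exact Subgroup.map_subtype_le _
  obtain ⟨g, hg⟩ := MulAction.exists_smul_eq L T P
  -- `g • T = P`
  have hTP : ∀ t ∈ (T : Subgroup L), g * t * g⁻¹ ∈ D₀ := by
    intro t ht
    apply hPD
    rw [← hg]
    rw [Sylow.smul_def, Sylow.pointwise_smul_def, Subgroup.mem_pointwise_smul_iff_inv_smul_mem]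
    simpa [MulAut.smul_def, MulAut.conj_inv_apply, mul_assoc] using ht
  have hgfac : g⁻¹ ∈ K ⊔ D₀ := by
    rw [sup_comm, hsup]
    trivial
  rw [← SetLike.mem_coe, Subgroup.normal_mul] at hgfac
  obtain ⟨k, hkK, d, hdD, hkd⟩ := Set.mem_mul.mp hgfac
  -- `g⁻¹ = k d`; `D' = k D₀ k⁻¹` contains `T`.
  set D' : Subgroup L := D₀.map (MulAut.conj k).toMonoidHom with hD'
  have hTD' : (T : Subgroup L) ≤ D' := by
    intro t ht
    refine ⟨k⁻¹ * t * k, ?_, ?_⟩
    · have h1 := hTP t ht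
      have h2 : k⁻¹ * t * k = d * (g * t * g⁻¹) * d⁻¹ := by
        have h3 : g = d⁻¹ * k⁻¹ := by
          have h4 : g⁻¹⁻¹ = (k * d)⁻¹ := by rw [hkd]
          simpa using h4
        rw [h3]
        group
      show k⁻¹ * t * k ∈ D₀
      rw [h2]
      exact D₀.mul_mem (D₀.mul_mem hdD h1) (D₀.inv_mem hdD)
    · simp [MulAut.conj_apply]
      group
  have hD'sup : D' ⊔ K = ⊤ := by
    rw [eq_top_iff]
    intro x _
    have h1 : k⁻¹ * x * k ∈ D₀ ⊔ K := by
      rw [hsup]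
      trivial
    rw [← SetLike.mem_coe, Subgroup.mul_normal] at h1
    obtain ⟨d₁, hd₁, k₁, hk₁, h2⟩ := Set.mem_mul.mp h1
    have h3 : x = (k * d₁ * k⁻¹) * (k * k₁ * k⁻¹) := by
      have h4 : x = k * (k⁻¹ * x * k) * k⁻¹ := by group
      rw [h4, ← h2]
      group
    rw [h3]
    refine mul_mem ((le_sup_left : D' ≤ D' ⊔ K) ⟨d₁, hd₁, ?_⟩)
      ((le_sup_right : K ≤ D' ⊔ K) (hK.conj_mem k₁ hk₁ k))
    simp [MulAut.conj_apply]
  have hD'top := hmin D' hTD' hD'sup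
  apply hD₀ne
  rw [eq_top_iff]
  intro x _
  have h1 : k * x * k⁻¹ ∈ D' := by
    rw [hD'top]
    trivial
  obtain ⟨d₁, hd₁, h2⟩ := h1
  have h3 : k * d₁ * k⁻¹ = k * x * k⁻¹ := by
    simpa [MulAut.conj_apply] using h2
  have h4 : d₁ = x := by
    have h5 := mul_right_cancel h3
    exact mul_left_cancel h5
  rwa [← h4]


/-! ### The minimal supplement -/

theorem exists_min_supplement (T : Sylow p H) {Ms V : Subgroup H} (hTMs : (T : Subgroup H) ≤ Ms)
    (hVMs : V ≤ Ms) (hV : ∀ a ∈ Ms, ∀ v ∈ V, a * v * a⁻¹ ∈ V) :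
    ∃ M : Subgroup H, (T : Subgroup H) ≤ M ∧ M ≤ Ms ∧
      M ≤ normalizer (((T : Subgroup H) ⊓ centralizer (V : Set H) : Subgroup H) : Set H) ∧
      (∀ g ∈ Ms, ∃ a ∈ M, ∃ c ∈ Ms ⊓ centralizer (V : Set H), g = a * c) ∧
      (∀ M₂ : Subgroup H, (T : Subgroup H) ≤ M₂ → M₂ ≤ M →
        (∀ g ∈ M, ∃ a ∈ M₂, ∃ c ∈ M ⊓ centralizer (V : Set H), g = a * c) → M₂ = M) := by
  set T₀ : Subgroup H := (T : Subgroup H) ⊓ centralizer (V : Set H) with hT₀
  let S : Set (Subgroup H) := {X | (T : Subgroup H) ≤ X ∧ X ≤ Ms ∧ X ≤ normalizer (T₀ : Set H) ∧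
    ∀ g ∈ Ms, ∃ a ∈ X, ∃ c ∈ Ms ⊓ centralizer (V : Set H), g = a * c}
  have hconjinv : ∀ a ∈ Ms, ∀ v ∈ V, a⁻¹ * v * a ∈ V := by
    intro a ha v hv
    have h1 := hV a⁻¹ (Ms.inv_mem ha) v hv
    simpa using h1
  have hTN : (T : Subgroup H) ≤ normalizer (T₀ : Set H) := by
    apply fun t ht => mem_normalizer_of_forall (A := T) ?_ ht
    intro t ht x hx
    exact ⟨T.1.mul_mem (T.1.mul_mem ht hx.1) (T.1.inv_mem ht),
      conj_mem_centralizer (hconjinv t (hTMs ht)) hx.2⟩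
  have hne : S.Nonempty := by
    refine ⟨Ms ⊓ normalizer (T₀ : Set H), le_inf hTMs hTN, inf_le_left, inf_le_right, ?_⟩
    intro g hg
    obtain ⟨a, ha, ha2, c, hc, hc2, e⟩ := exists_factor_of_le T hTMs hVMs hV hg
    exact ⟨a, ⟨ha, ha2⟩, c, ⟨hc, hc2⟩, e⟩
  obtain ⟨M, hM⟩ := (Set.toFinite S).exists_minimal hne
  obtain ⟨h1, h2, h3, h4⟩ := hM.prop
  refine ⟨M, h1, h2, h3, h4, ?_⟩
  intro M₂ hTM₂ hM₂ hfac
  apply le_antisymm hM₂
  apply hM.2 (y := M₂) ⟨hTM₂, hM₂.trans h2, hM₂.trans h3, ?_⟩ hM₂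
  intro g hg
  obtain ⟨a, ha, c, hc, rfl⟩ := h4 g hg
  obtain ⟨a₂, ha₂, c₂, hc₂, rfl⟩ := hfac a ha
  refine ⟨a₂, ha₂, c₂ * c, ⟨Ms.mul_mem (h2 hc₂.1) hc.1, mul_mem hc₂.2 hc.2⟩, ?_⟩
  group

/-- The Frattini condition for the minimal supplement. -/
theorem map_le_frattini_of_min (T : Sylow p H) {M V : Subgroup H} (hTM : (T : Subgroup H) ≤ M)
    (hVM : V ≤ M) (hV : ∀ a ∈ M, ∀ v ∈ V, a * v * a⁻¹ ∈ V)
    (hN : M ≤ normalizer (((T : Subgroup H) ⊓ centralizer (V : Set H) : Subgroup H) : Set H))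
    (hmin : ∀ M₂ : Subgroup H, (T : Subgroup H) ≤ M₂ → M₂ ≤ M →
      (∀ g ∈ M, ∃ a ∈ M₂, ∃ c ∈ M ⊓ centralizer (V : Set H), g = a * c) → M₂ = M) :
    ((M ⊓ centralizer (V : Set H)).subgroupOf M).map (QuotientGroup.mk' (pCore p ↥M)) ≤
      frattini (↥M ⧸ pCore p ↥M) := by
  set T' : Sylow p ↥M := T.subtype hTM with hT'
  set K' : Subgroup ↥M := (M ⊓ centralizer (V : Set H)).subgroupOf M with hK'
  have hconjinv : ∀ a ∈ M, ∀ v ∈ V, a⁻¹ * v * a ∈ V := by
    intro a ha v hv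
    have h1 := hV a⁻¹ (M.inv_mem ha) v hv
    simpa using h1
  haveI hK'n : K'.Normal := by
    constructor
    rintro ⟨y, hyM⟩ hy ⟨g, hg⟩
    rw [hK', Subgroup.mem_subgroupOf] at hy ⊢
    exact ⟨M.mul_mem (M.mul_mem hg hy.1) (M.inv_mem hg), conj_mem_centralizer (hconjinv g hg) hy.2⟩
  haveI hOn : (pCore p ↥M).Normal := Cfsg.Agent.Lib.Basic.PCore.pCore_normal p _
  apply le_frattini_of_minimal T' K' (pCore p ↥M)
  · -- `T' ∩ K'` is a normal `p`-subgroup
    have hle : (T' : Subgroup ↥M) ⊓ K' ≤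
        ((T : Subgroup H) ⊓ centralizer (V : Set H)).subgroupOf M := by
      intro x hx
      have h1 : x ∈ (T' : Subgroup ↥M) := hx.1
      rw [hT', Sylow.coe_subtype] at h1
      have h2 : x ∈ K' := hx.2
      rw [hK', Subgroup.mem_subgroupOf] at h2
      exact Subgroup.mem_subgroupOf.mpr ⟨Subgroup.mem_subgroupOf.mp h1, h2.2⟩
    refine hle.trans (Cfsg.Agent.Lib.Basic.PCore.le_pCore ?_ ?_)
    · constructor
      rintro ⟨y, hyM⟩ hy ⟨g, hg⟩
      rw [Subgroup.mem_subgroupOf] at hy ⊢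
      exact (mem_normalizer_iff.mp (hN hg) y).mp hy
    · exact (T.isPGroup'.to_le inf_le_left).comap_subtype
  · intro D hTD hsup
    have h1 := hmin (D.map M.subtype) (by
      intro t ht
      have hD : (⟨t, hTM ht⟩ : ↥M) ∈ D := by
        apply hTD
        rw [hT', Sylow.coe_subtype]
        exact Subgroup.mem_subgroupOf.mpr ht
      exact ⟨_, hD, rfl⟩) (Subgroup.map_subtype_le _) (by
      intro g hg
      have h2 : (⟨g, hg⟩ : ↥M) ∈ D ⊔ K' := by
        rw [hsup]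
        trivial
      rw [← SetLike.mem_coe, Subgroup.mul_normal] at h2
      obtain ⟨d, hd, k, hk, e⟩ := Set.mem_mul.mp h2
      refine ⟨d, ⟨d, hd, rfl⟩, k, Subgroup.mem_subgroupOf.mp hk, ?_⟩
      exact (congrArg Subtype.val e).symm)
    rw [eq_top_iff]
    intro x _
    have h3 : (x : H) ∈ D.map M.subtype := by
      rw [h1]
      exact x.2
    obtain ⟨y, hy, e⟩ := h3
    have h4 : y = x := Subtype.ext e
    rwa [← h4]

theorem isPClosed_of_min (T : Sylow p H) {M V : Subgroup H} (hTM : (T : Subgroup H) ≤ M)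
    (hV : ∀ a ∈ M, ∀ v ∈ V, a * v * a⁻¹ ∈ V)
    (hN : M ≤ normalizer (((T : Subgroup H) ⊓ centralizer (V : Set H) : Subgroup H) : Set H)) :
    IsPClosed p ↥(M ⊓ centralizer (V : Set H)) := by
  set T' : Sylow p ↥M := T.subtype hTM with hT'
  set K' : Subgroup ↥M := (M ⊓ centralizer (V : Set H)).subgroupOf M with hK'
  have hconjinv : ∀ a ∈ M, ∀ v ∈ V, a⁻¹ * v * a ∈ V := by
    intro a ha v hv
    have h1 := hV a⁻¹ (M.inv_mem ha) v hv
    simpa using h1
  haveI hK'n : K'.Normal := by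
    constructor
    rintro ⟨y, hyM⟩ hy ⟨g, hg⟩
    rw [hK', Subgroup.mem_subgroupOf] at hy ⊢
    exact ⟨M.mul_mem (M.mul_mem hg hy.1) (M.inv_mem hg), conj_mem_centralizer (hconjinv g hg) hy.2⟩
  have h1 := not_dvd_relIndex_inf T' K'
  have h2 : (T' : Subgroup ↥M) ⊓ K' = ((T : Subgroup H) ⊓ centralizer (V : Set H)).subgroupOf M := by
    ext x
    rw [Subgroup.mem_inf, hT', Sylow.coe_subtype, hK', Subgroup.mem_subgroupOf, Subgroup.mem_subgroupOf,
      Subgroup.mem_subgroupOf]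
    constructor
    · rintro ⟨a, b⟩
      exact ⟨a, b.2⟩
    · rintro ⟨a, b⟩
      exact ⟨a, x.2, b⟩
  rw [h2, hK', Subgroup.subgroupOf, Subgroup.relIndex_comap,
    Subgroup.map_subgroupOf_eq_of_le (inf_le_left : M ⊓ centralizer (V : Set H) ≤ M)] at h1
  rw [Cfsg.Agent.Lib.LocalY.PClosed.isPClosed_iff]
  refine ⟨((T : Subgroup H) ⊓ centralizer (V : Set H)).subgroupOf (M ⊓ centralizer (V : Set H)), ?_, ?_, h1⟩
  · constructor
    rintro ⟨y, hyM⟩ hy ⟨g, hg⟩
    rw [Subgroup.mem_subgroupOf] at hy ⊢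
    exact (mem_normalizer_iff.mp (hN hg.1) y).mp hy
  · exact (T.isPGroup'.to_le inf_le_left).comap_subtype

/-! ### The main construction -/

theorem core_step (hH : IsOfParabolicCharacteristic p H) (T : Sylow p H) {Ms Ls₀ : Subgroup H}
    (hMs : Ms ∈ maxCharPSubgroups p H) (hLs₀ : Ls₀ ∈ charPSubgroups p H)
    (hT : (T : Subgroup H) ≤ Ls₀) (hLM : Ls₀ ≤ Ms) :
    ∃ M Ls : Subgroup H, (T : Subgroup H) ≤ M ∧ (T : Subgroup H) ≤ Ls ∧ Ls ≤ M ∧
      M ∈ charPSubgroups p H ∧ Ls ∈ charPSubgroups p H ∧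
      M ⊔ centralizer (largestPReducedOf p Ms : Set H) = Ms ∧
      largestPReducedOf p M = largestPReducedOf p Ms ∧
      largestPReducedOf p Ls = largestPReducedOf p Ls₀ ∧
      Ls ⊔ centralizer (largestPReducedOf p Ms : Set H) =
        Ls₀ ⊔ centralizer (largestPReducedOf p Ms : Set H) ∧
      IsPClosed p ↥(M ⊓ centralizer (largestPReducedOf p Ms : Set H)) ∧
      ((M ⊓ centralizer (largestPReducedOf p Ms : Set H)).subgroupOf M).map
        (QuotientGroup.mk' (pCore p ↥M)) ≤ frattini (↥M ⧸ pCore p ↥M) := by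
  have hTMs : (T : Subgroup H) ≤ Ms := hT.trans hLM
  set V : Subgroup H := largestPReducedOf p Ms with hVdef
  have hVprd : Prd p Ms V := prd_largest (hchar_of_mem hMs.1)
  have hVT : V ≤ T := largest_le_sylow T hTMs hMs.1
  have hV1 : V ≠ ⊥ := largest_ne_bot T hTMs hMs.1
  have hVp : IsPGroup p V := T.isPGroup'.to_le hVT
  have hNMs : normalizer (V : Set H) = Ms := normalizer_largest_eq hH T hTMs hMs
  have hCMs : centralizer (V : Set H) ≤ Ms := by
    rw [← hNMs]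
    exact Subgroup.centralizer_le_normalizer _
  set C₀ : Subgroup H := centralizer (V : Set H) with hC₀
  set T₀ : Subgroup H := (T : Subgroup H) ⊓ C₀ with hT₀
  have hVC₀ : V ≤ C₀ := by
    intro v hv
    rw [hC₀, mem_centralizer_iff]
    intro w hw
    exact hVprd.comm w hw v hv
  have hVT₀ : V ≤ T₀ := le_inf hVT hVC₀
  have hT₀1 : T₀ ≠ ⊥ := by
    intro h
    rw [h, le_bot_iff] at hVT₀
    exact hV1 hVT₀
  have hT₀p : IsPGroup p T₀ := T.isPGroup'.to_le inf_le_left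
  obtain ⟨M, hTM, hMMs, hMN, hfac, hmin⟩ := exists_min_supplement T hTMs hVprd.le hVprd.conj
  have hMn : ∀ m ∈ M, ∀ t ∈ T₀, m * t * m⁻¹ ∈ T₀ := fun m hm t ht =>
    (mem_normalizer_iff.mp (hMN hm) t).mp ht
  have hMchar : M ∈ charPSubgroups p H :=
    charP_of_normal hH T hTM (inf_le_left.trans hTM) hT₀p hT₀1 hMn
  have hVM : V ≤ M := hVT.trans hTM
  have hfac' : ∀ g ∈ Ms, ∃ a ∈ M, ∃ c ∈ C₀, g = a * c := by
    intro g hg
    obtain ⟨a, ha, c, hc, e⟩ := hfac g hg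
    exact ⟨a, ha, c, hc.2, e⟩
  have hVMprd : Prd p M V := hVprd.of_factor hMMs hVM hfac'
  have hYM : largestPReducedOf p M = V :=
    le_antisymm (largest_mono T hTM hMMs hMchar hMs.1) (le_largest hVMprd)
  have hsup : M ⊔ C₀ = Ms := by
    apply le_antisymm (sup_le hMMs hCMs)
    intro g hg
    obtain ⟨a, ha, c, hc, rfl⟩ := hfac' g hg
    exact mul_mem ((le_sup_left : M ≤ M ⊔ C₀) ha) ((le_sup_right : C₀ ≤ M ⊔ C₀) hc)
  have hMsC : ∀ a ∈ Ms, ∀ c ∈ C₀, a * c * a⁻¹ ∈ C₀ := by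
    intro a ha c hc
    apply conj_mem_centralizer _ hc
    intro v hv
    have h1 := hVprd.conj a⁻¹ (Ms.inv_mem ha) v hv
    simpa using h1
  -- the subgroup `Ls`
  set R : Subgroup H := Ls₀ ⊔ C₀ with hR
  have hRMs : R ≤ Ms := sup_le hLM hCMs
  have hLs₀N : Ls₀ ≤ normalizer (C₀ : Set H) := fun a ha =>
    mem_normalizer_of_forall hMsC (hLM ha)
  set Ls : Subgroup H := R ⊓ M with hLs
  have hTLs : (T : Subgroup H) ≤ Ls := le_inf (hT.trans le_sup_left) hTM
  have hLsM : Ls ≤ M := inf_le_right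
  have hLschar : Ls ∈ charPSubgroups p H :=
    charP_of_normal hH T hTLs (inf_le_left.trans hTLs) hT₀p hT₀1 (fun a ha => hMn a ha.2)
  have hLssup : Ls ⊔ C₀ = R := by
    apply le_antisymm (sup_le inf_le_left le_sup_right)
    intro g hg
    obtain ⟨a, ha, c, hc, rfl⟩ := hfac' g (hRMs hg)
    refine mul_mem ((le_sup_left : Ls ≤ Ls ⊔ C₀) ⟨?_, ha⟩) ((le_sup_right : C₀ ≤ Ls ⊔ C₀) hc)
    have h1 : a = (a * c) * c⁻¹ := by group
    rw [h1]
    exact mul_mem hg ((le_sup_right : C₀ ≤ R) (inv_mem hc))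
  -- the comparison of `Y_{Ls}` and `Y_{Ls₀}`
  set W : Subgroup H := largestPReducedOf p Ls₀ with hW
  have hWV : W ≤ V := largest_mono T hT hLM hLs₀ hMs.1
  have hWT : W ≤ T := largest_le_sylow T hT hLs₀
  have hC₀W : C₀ ≤ centralizer (W : Set H) := Subgroup.centralizer_le (SetLike.coe_subset_coe.mpr hWV)
  have hWprd : Prd p Ls₀ W := prd_largest (hchar_of_mem hLs₀)
  have hTN : (T : Subgroup H) ≤ normalizer (T₀ : Set H) := by
    apply fun t ht => mem_normalizer_of_forall (A := T) ?_ ht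
    intro t ht x hx
    exact ⟨T.1.mul_mem (T.1.mul_mem ht hx.1) (T.1.inv_mem ht), hMsC t (hTMs ht) x hx.2⟩
  set L₂ : Subgroup H := Ls₀ ⊓ normalizer (T₀ : Set H) with hL₂
  have hTL₂ : (T : Subgroup H) ≤ L₂ := le_inf hT hTN
  have hVLs₀ : V ≤ Ls₀ := hVT.trans hT
  have hL₂fac : ∀ g ∈ Ls₀, ∃ a ∈ L₂, ∃ c ∈ C₀, g = a * c := by
    intro g hg
    obtain ⟨a, ha, ha2, c, _, hc2, e⟩ := exists_factor_of_le T hT hVLs₀
      (fun a ha v hv => hVprd.conj a (hLM ha) v hv) hg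
    exact ⟨a, ⟨ha, ha2⟩, c, hc2, e⟩
  have hWprd₂ : Prd p L₂ W := hWprd.of_factor inf_le_left (hWT.trans hTL₂) (by
    intro g hg
    obtain ⟨a, ha, c, hc, e⟩ := hL₂fac g hg
    exact ⟨a, ha, c, hC₀W hc, e⟩)
  have hL₂max : ∀ U : Subgroup H, Prd p L₂ U → U ≤ W := fun U hU =>
    le_largest_of_le T hTL₂ inf_le_left (hchar_of_mem hLs₀) hU
  set K₀ : Subgroup H := C₀ ⊓ normalizer (T₀ : Set H) with hK₀
  set B : Subgroup H := R ⊓ normalizer (T₀ : Set H) with hB
  have hL₂B : L₂ ≤ B := inf_le_inf_right _ le_sup_left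
  have hLsB : Ls ≤ B := le_inf inf_le_left (hLsM.trans hMN)
  have hBL₂ : ∀ g ∈ B, ∃ a ∈ L₂, ∃ c ∈ K₀, g = a * c := by
    intro g hg
    obtain ⟨a, ha, c, hc, e⟩ := exists_mul_of_mem_sup hLs₀N hg.1
    obtain ⟨b, hb, c', hc', e'⟩ := hL₂fac a ha
    refine ⟨b, hb, c' * c, ⟨mul_mem hc' hc, ?_⟩, ?_⟩
    · have h1 : c' * c = b⁻¹ * g := by
        rw [e, e']
        group
      rw [h1]
      exact (normalizer (T₀ : Set H)).mul_mem ((normalizer (T₀ : Set H)).inv_mem hb.2) hg.2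
    · rw [e, e']
      group
  have hBLs : ∀ g ∈ B, ∃ a ∈ Ls, ∃ c ∈ K₀, g = a * c := by
    intro g hg
    obtain ⟨a, ha, c, hc, e⟩ := hfac' g (hRMs hg.1)
    have h1 : c = a⁻¹ * g := by
      rw [e]
      group
    have h2 : a = g * c⁻¹ := by
      rw [e]
      group
    refine ⟨a, ⟨?_, ha⟩, c, ⟨hc, ?_⟩, e⟩
    · rw [h2]
      exact R.mul_mem hg.1 ((le_sup_right : C₀ ≤ R) (inv_mem hc))
    · rw [h1]
      exact (normalizer (T₀ : Set H)).mul_mem ((normalizer (T₀ : Set H)).inv_mem (hMN ha)) hg.2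
  have hK₀C : K₀ ≤ C₀ := inf_le_left
  have hYLseq : largestPReducedOf p Ls = W := by
    apply le_antisymm
    · -- `Y_{Ls} ≤ W`
      have hU := prd_largest (hchar_of_mem hLschar)
      have hUV : largestPReducedOf p Ls ≤ V := by
        rw [← hYM]
        exact largest_mono T hTLs hLsM hLschar hMchar
      have hUT : largestPReducedOf p Ls ≤ T := largest_le_sylow T hTLs hLschar
      apply hL₂max
      exact hU.transfer hLsB hL₂B (hUT.trans hTL₂)
        (hK₀C.trans (Subgroup.centralizer_le (SetLike.coe_subset_coe.mpr hUV))) hBLs hBL₂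
    · apply le_largest
      exact hWprd₂.transfer hL₂B hLsB (hWT.trans hTLs) (hK₀C.trans hC₀W) hBL₂ hBLs
  refine ⟨M, Ls, hTM, hTLs, hLsM, hMchar, hLschar, hsup, hYM, hYLseq, hLssup, ?_, ?_⟩
  · exact isPClosed_of_min T hTM hVMprd.conj hMN
  · exact map_le_frattini_of_min T hTM hVM hVMprd.conj hMN hmin

/-- **The passage to the basic property**: the common core of the statements. -/
theorem exists_frak (hH : IsOfParabolicCharacteristic p H) (T : Sylow p H) (L : Subgroup H)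
    (hTL : (T : Subgroup H) ≤ L) (hL : L ∈ charPSubgroups p H) :
    ∃ M Ls : Subgroup H, (T : Subgroup H) ≤ M ∧ IsInFrakM p M ∧ (T : Subgroup H) ≤ Ls ∧ Ls ≤ M ∧
      Ls ∈ charPSubgroups p H ∧ largestPReducedOf p L = largestPReducedOf p Ls ∧
      largestPReducedOf p L ≤ largestPReducedOf p M ∧
      L ⊔ centralizer (largestPReducedOf p L : Set H) =
        Ls ⊔ centralizer (largestPReducedOf p L : Set H) := by
  classical
  set YL : Subgroup H := largestPReducedOf p L with hYL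
  let PP : Set (Subgroup H) := {R | R ∈ charPSubgroups p H ∧ (T : Subgroup H) ≤ R ∧
    largestPReducedOf p R = YL ∧ R ⊔ centralizer (YL : Set H) = L ⊔ centralizer (YL : Set H)}
  let QQ : Set (Subgroup H) := {X | X ∈ charPSubgroups p H ∧ ∃ R ∈ PP, R ≤ X}
  have hLPP : L ∈ PP := ⟨hL, hTL, rfl, rfl⟩
  have hLQQ : L ∈ QQ := ⟨hL, L, hLPP, le_rfl⟩
  obtain ⟨X₀, hX₀, hX₀max⟩ := Set.exists_max_image QQ
    (fun X => Nat.card ↥(largestPReducedOf p X)) (Set.toFinite _) ⟨L, hLQQ⟩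
  obtain ⟨Ms, hMs, hX₀Ms⟩ := Cfsg.Agent.Lib.LocalY.Large.exists_max_of_mem hX₀.1
  obtain ⟨Ls₀, hLs₀P, hLs₀X⟩ := hX₀.2
  have hTX₀ : (T : Subgroup H) ≤ X₀ := hLs₀P.2.1.trans hLs₀X
  have hTMs : (T : Subgroup H) ≤ Ms := hTX₀.trans hX₀Ms
  have hcardMs : ∀ X ∈ QQ, Nat.card ↥(largestPReducedOf p X) ≤ Nat.card ↥(largestPReducedOf p Ms) := by
    intro X hX
    refine (hX₀max X hX).trans ?_
    exact Subgroup.card_le_of_le (largest_mono T hTX₀ hX₀Ms hX₀.1 hMs.1)
  obtain ⟨M, Ls, hTM, hTLs, hLsM, hMchar, hLschar, hsup, hYM, hYLs, hLssup, hpc, hfr⟩ :=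
    core_step hH T hMs hLs₀P.1 hLs₀P.2.1 (hLs₀X.trans hX₀Ms)
  have hYLs₀ : largestPReducedOf p Ls₀ = YL := hLs₀P.2.2.1
  set V : Subgroup H := largestPReducedOf p Ms with hV
  have hYLV : YL ≤ V := by
    rw [← hYLs₀]
    exact largest_mono T hLs₀P.2.1 (hLs₀X.trans hX₀Ms) hLs₀P.1 hMs.1
  have hCC : centralizer (V : Set H) ≤ centralizer (YL : Set H) :=
    Subgroup.centralizer_le (SetLike.coe_subset_coe.mpr hYLV)
  have hLssup2 : Ls ⊔ centralizer (YL : Set H) = L ⊔ centralizer (YL : Set H) := by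
    rw [← hLs₀P.2.2.2]
    calc Ls ⊔ centralizer (YL : Set H)
        = (Ls ⊔ centralizer (V : Set H)) ⊔ centralizer (YL : Set H) := by
          rw [sup_assoc, sup_eq_right.mpr hCC]
      _ = (Ls₀ ⊔ centralizer (V : Set H)) ⊔ centralizer (YL : Set H) := by rw [hLssup]
      _ = Ls₀ ⊔ centralizer (YL : Set H) := by
          rw [sup_assoc, sup_eq_right.mpr hCC]
  have hLsPP : Ls ∈ PP := ⟨hLschar, hTLs, hYLs.trans hYLs₀, hLssup2⟩
  refine ⟨M, Ls, hTM, ?_, hTLs, hLsM, hLschar, (hYLs.trans hYLs₀).symm, ?_, hLssup2.symm⟩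
  · refine ⟨hMchar, ?_, ?_, ?_, ?_, ?_⟩
    · rw [hYM, hsup]
      exact hMs
    · intro X hX hMX
      rw [hYM, hsup]
      have hXQ : X ∈ QQ := ⟨hX.1, Ls, hLsPP, hLsM.trans hMX⟩
      have hle : V ≤ largestPReducedOf p X := by
        rw [← hYM]
        exact largest_mono T hTM hMX hMchar hX.1
      have hYX : largestPReducedOf p X = V :=
        (Subgroup.eq_of_le_of_card_ge hle (hcardMs X hXQ)).symm
      have hTX : (T : Subgroup H) ≤ X := hTM.trans hMX
      have h1 := normalizer_largest_eq hH T hTX hX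
      have h2 := normalizer_largest_eq hH T hTMs hMs
      rw [hYX] at h1
      rw [← h1]
      exact h2
    · rw [hYM, hsup]
    · rw [hYM]
      exact hpc
    · rw [hYM]
      exact hfr
  · rw [hYM]
    exact hYLV

end Cfsg.Agent.Lib.LocalY.FrakM
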