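import Mathlib
import Cfsg.Prelude.Def_LocalStructure
import Cfsg.Prelude.Def_LocalEven
import Cfsg.Prelude.Def_Transfer
import Cfsg.Agent.Lib.LocalY.FrakM
import Cfsg.Agent.Lib.PGroup.LargeSub
import Cfsg.Agent.Lib.LocalY.Large
import Cfsg.Agent.S2845
import Cfsg.Agent.S2848

/-!
# Asymmetric `Y`: the weak closure of `P` from the graph of mutually normalizing conjugates

Abstract form: `P` a `p`-subgroup, `Y ≤ P` centralized by `P`, `N(P) ≤ N(Y)`, `P` maximal among the `p`-subgroups of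
`C(Y)`, `Y` asymmetric, and `N(D) ≤ N(Y)` for every nontrivial `p`-subgroup `D` normalized by `N(P)`. Then `P` is the only conjugate
of itself in any `p`-subgroup containing it.
-/

set_option autoImplicit false

namespace Cfsg.Agent.Lib.LocalY.Asym

open Cfsg Subgroup Cfsg.Agent.Lib.PGroup.WeaklyClosed Cfsg.Agent.Lib.PGroup.LargeSub
open scoped commutatorElement

variable {G : Type*} [Group G]

/-- Two subgroups normalizing each other. -/
def Mut (A B : Subgroup G) : Prop := A ≤ normalizer (B : Set G) ∧ B ≤ normalizer (A : Set G)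

theorem Mut.symm {A B : Subgroup G} (h : Mut A B) : Mut B A := ⟨h.2, h.1⟩

theorem Mut.cj {A B : Subgroup G} (x : G) (h : Mut A B) : Mut (cj x A) (cj x B) := by
  constructor
  · rw [normalizer_cj]
    exact cj_mono h.1
  · rw [normalizer_cj]
    exact cj_mono h.2

/-- The relation on group elements: the conjugates of `P` normalize each other. -/
def Rel (P : Subgroup G) (g h : G) : Prop := Mut (cj g P) (cj h P)

theorem Rel.left {P : Subgroup G} {g h : G} (x : G) (H : Rel P g h) : Rel P (x * g) (x * h) := by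
  unfold Rel at *
  rw [cj_mul, cj_mul]
  exact H.cj x

/-- Paths of given length in the graph of `Rel`. -/
def Path (P : Subgroup G) : ℕ → G → G → Prop
  | 0, g, h => g = h
  | n + 1, g, h => ∃ k, Rel P g k ∧ Path P n k h

theorem Path.left {P : Subgroup G} (x : G) : ∀ {n : ℕ} {g h : G}, Path P n g h → Path P n (x * g) (x * h)
  | 0, _, _, H => by
    have e : _ = _ := H
    rw [e]
    rfl
  | _ + 1, _, _, ⟨k, h1, h2⟩ => ⟨x * k, h1.left x, Path.left x h2⟩

theorem Path.snoc {P : Subgroup G} : ∀ {n : ℕ} {g k h : G}, Path P n g k → Rel P k h → Path P (n + 1) g h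
  | 0, g, k, h, H, r => by
    have e : g = k := H
    exact ⟨h, e ▸ r, rfl⟩
  | _ + 1, _, _, _, ⟨j, h1, h2⟩, r => ⟨j, h1, Path.snoc h2 r⟩

theorem Path.unsnoc {P : Subgroup G} : ∀ {n : ℕ} {g h : G}, Path P (n + 1) g h → ∃ k, Path P n g k ∧ Rel P k h
  | 0, g, h, ⟨k, h1, h2⟩ => by
    have e : k = h := h2
    exact ⟨g, rfl, e ▸ h1⟩
  | _ + 1, _, _, ⟨j, h1, h2⟩ => by
    obtain ⟨k, h3, h4⟩ := Path.unsnoc h2
    exact ⟨k, ⟨j, h1, h3⟩, h4⟩

theorem Path.trans {P : Subgroup G} {m : ℕ} : ∀ {n : ℕ} {g k h : G}, Path P m g k → Path P n k h → Path P (m + n) g h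
  | 0, g, k, h, H1, H2 => by
    have e : k = h := H2
    exact e ▸ H1
  | n + 1, _, _, _, H1, ⟨j, h1, h2⟩ => by
    have h3 := Path.snoc H1 h1
    have h4 := Path.trans h3 h2
    have e : m + 1 + n = m + (n + 1) := by omega
    exact e ▸ h4

theorem Path.symm {P : Subgroup G} : ∀ {n : ℕ} {g h : G}, Path P n g h → Path P n h g
  | 0, _, _, H => by
    have e : _ = _ := H
    exact e.symm
  | _ + 1, _, _, ⟨_, h1, h2⟩ => Path.snoc (Path.symm h2) (Mut.symm h1)

/-- The stabilizer of the connected component of `P`. -/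
def compStab (P : Subgroup G) : Subgroup G where
  carrier := {g | ∃ n, Path P n 1 g}
  one_mem' := ⟨0, rfl⟩
  mul_mem' := by
    rintro a b ⟨m, hm⟩ ⟨n, hn⟩
    have h1 := Path.left a hn
    rw [mul_one] at h1
    exact ⟨m + n, Path.trans hm h1⟩
  inv_mem' := by
    rintro a ⟨n, hn⟩
    have h1 := Path.left a⁻¹ hn
    rw [mul_one, inv_mul_cancel] at h1
    exact ⟨n, Path.symm h1⟩

theorem normalizer_le_compStab (P : Subgroup G) : normalizer (P : Set G) ≤ compStab P := by
  intro n hn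
  refine ⟨1, n, ?_, rfl⟩
  unfold Rel Mut
  rw [cj_eq_self_iff.2 hn, cj_one]
  exact ⟨Subgroup.le_normalizer, Subgroup.le_normalizer⟩

section main

variable {P Y : Subgroup G}

/-- Asymmetry: a conjugate of `Y` normalizing `Y` and normalized by `Y` centralizes `Y`. -/
theorem asym_comm (hasym : ¬ IsSymmetricIn Y) (x : G)
    (h1 : Y ≤ normalizer ((cj x Y : Subgroup G) : Set G)) (h2 : cj x Y ≤ normalizer (Y : Set G)) :
    Y ≤ centralizer ((cj x Y : Subgroup G) : Set G) := by
  have hle : ⁅Y, cj x Y⁆ ≤ Y ⊓ cj x Y := by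
    rw [Subgroup.commutator_le]
    intro a ha b hb
    constructor
    · have h3 : ⁅a, b⁆ = a * (b * a⁻¹ * b⁻¹) := by
        simp only [commutatorElement_def]
        group
      rw [h3]
      exact Y.mul_mem ha ((mem_normalizer_iff.mp (h2 hb) _).mp (Y.inv_mem ha))
    · have h3 : ⁅a, b⁆ = (a * b * a⁻¹) * b⁻¹ := by
        simp only [commutatorElement_def]
      rw [h3]
      exact (cj x Y).mul_mem ((mem_normalizer_iff.mp (h1 ha) _).mp hb) ((cj x Y).inv_mem hb)
  have hbot : ⁅Y, cj x Y⁆ = ⊥ := by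
    by_contra hne
    exact hasym ⟨x, hne, hle⟩
  intro a ha
  rw [mem_centralizer_iff]
  intro b hb
  have h3 : ⁅a, b⁆ ∈ ⁅Y, cj x Y⁆ := Subgroup.commutator_mem_commutator ha hb
  rw [hbot, Subgroup.mem_bot, commutatorElement_eq_one_iff_mul_comm] at h3
  exact h3.symm

variable [Finite G] {p : ℕ} [Fact p.Prime]

/-- The hypotheses of the abstract theorem. -/
structure Hyp (p : ℕ) (P Y : Subgroup G) : Prop where
  pgroup : IsPGroup p P
  le : Y ≤ P
  ne : Y ≠ ⊥
  cent : P ≤ centralizer (Y : Set G)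
  norm : normalizer (P : Set G) ≤ normalizer (Y : Set G)
  syl : ∀ R : Subgroup G, IsPGroup p R → R ≤ centralizer (Y : Set G) → P ≤ R → R = P
  asym : ¬ IsSymmetricIn Y
  max : ∀ D : Subgroup G, D ≠ ⊥ → IsPGroup p D → normalizer (P : Set G) ≤ normalizer (D : Set G) →
    normalizer (D : Set G) ≤ normalizer (Y : Set G)

theorem Hyp.le_of_norm (h : Hyp p P Y) {A : Subgroup G} (hAp : IsPGroup p A)
    (hAC : A ≤ centralizer (Y : Set G)) (hAN : A ≤ normalizer (P : Set G)) : A ≤ P := by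
  have h1 : A ⊔ P = P := by
    apply h.syl
    · exact IsPGroup.to_sup_of_normal_right' hAp h.pgroup hAN
    · exact sup_le hAC h.cent
    · exact le_sup_right
  rw [← h1]
  exact le_sup_left

/-- The distance induction. -/
theorem Hyp.path_le (h : Hyp p P Y) : ∀ (n : ℕ) (g : G), Path P n 1 g → cj g Y ≤ P ∧ Y ≤ cj g P := by
  intro n
  induction n with
  | zero =>
    intro g hg
    have e : (1 : G) = g := hg
    subst e
    simpa using h.le
  | succ n ih =>
    intro g hg
    obtain ⟨k, hp, hk⟩ := Path.unsnoc hg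
    obtain ⟨k₁, hk₁, hp₁⟩ := hg
    have h1 := ih k hp
    have h2 := Path.left k₁⁻¹ hp₁
    rw [inv_mul_cancel] at h2
    have h3 := ih _ h2
    -- `cj g Y ≤ cj k₁ P ≤ N(P)`
    have h4 : cj g Y ≤ cj k₁ P := by
      have h5 := cj_mono (g := k₁) h3.1
      rwa [← cj_mul, mul_inv_cancel_left] at h5
    have h5 : cj k₁ P ≤ normalizer (P : Set G) := by
      have h6 := hk₁.2
      rwa [cj_one] at h6
    have h6 : cj g Y ≤ normalizer (P : Set G) := h4.trans h5
    -- `Y ≤ cj k P ≤ N(cj g P)`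
    have h7 : Y ≤ normalizer ((cj g P : Subgroup G) : Set G) := h1.2.trans hk.1
    have h8 : Y ≤ normalizer ((cj g Y : Subgroup G) : Set G) := by
      rw [normalizer_cj] at h7 ⊢
      exact h7.trans (cj_mono h.norm)
    have h9 := asym_comm h.asym g h8 (h6.trans h.norm)
    have hYp : IsPGroup p Y := h.pgroup.to_le h.le
    constructor
    · refine h.le_of_norm (isPGroup_cj hYp) ?_ h6
      intro a ha
      rw [mem_centralizer_iff]
      intro y hy
      exact (mem_centralizer_iff.mp (h9 hy) a ha).symm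
    · have h10 : cj g⁻¹ Y ≤ P := by
        refine h.le_of_norm (isPGroup_cj hYp) ?_ ?_
        · rw [centralizer_cj] at h9
          have h11 := cj_mono (g := g⁻¹) h9
          rwa [cj_inv_cj] at h11
        · rw [normalizer_cj] at h7
          have h11 := cj_mono (g := g⁻¹) h7
          rwa [cj_inv_cj] at h11
      have h11 := cj_mono (g := g) h10
      rwa [cj_cj_inv] at h11

/-- The stabilizer of the component normalizes `Y`. -/
theorem Hyp.compStab_le (h : Hyp p P Y) : compStab P ≤ normalizer (Y : Set G) := by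
  set D : Subgroup G := ⨆ x : ↥(compStab P), cj (x : G) Y with hD
  have hYD : Y ≤ D := by
    have h1 := le_iSup (fun x : ↥(compStab P) => cj (x : G) Y) 1
    simpa using h1
  have hDP : D ≤ P := by
    apply iSup_le
    rintro ⟨x, n, hn⟩
    exact (h.path_le n x hn).1
  have hD1 : D ≠ ⊥ := by
    intro hbot
    apply h.ne
    rw [hbot, le_bot_iff] at hYD
    exact hYD
  have hDp : IsPGroup p D := h.pgroup.to_le hDP
  have hle : ∀ x ∈ compStab P, cj x D ≤ D := by
    intro x hx
    rw [hD]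
    show Subgroup.map _ _ ≤ _
    rw [Subgroup.map_iSup]
    apply iSup_le
    intro y
    have h2 := le_iSup (fun z : ↥(compStab P) => cj (z : G) Y) (⟨x, hx⟩ * y)
    have h3 : cj (((⟨x, hx⟩ : ↥(compStab P)) * y : ↥(compStab P)) : G) Y = cj x (cj (y : G) Y) := by
      rw [← cj_mul]
      rfl
    rw [h3] at h2
    exact h2
  have hN : compStab P ≤ normalizer (D : Set G) := by
    intro x hx
    rw [← cj_eq_self_iff]
    apply le_antisymm (hle x hx)
    have h1 := cj_mono (g := x) (hle x⁻¹ ((compStab P).inv_mem hx))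
    rwa [cj_cj_inv] at h1
  exact hN.trans (h.max D hD1 hDp ((normalizer_le_compStab P).trans hN))

/-- **Mutually normalizing conjugates are equal.** -/
theorem Hyp.eq_of_rel (h : Hyp p P Y) {a : G} (ha : Rel P 1 a) : cj a P = P := by
  have h1 : a ∈ compStab P := ⟨1, a, ha, rfl⟩
  have h2 : cj a Y = Y := cj_eq_self_iff.2 (h.compStab_le h1)
  have h3 : cj a P ≤ centralizer (Y : Set G) := by
    have h4 := cj_mono (g := a) h.cent
    rwa [← centralizer_cj, h2] at h4
  have h5 : cj a P ≤ normalizer (P : Set G) := by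
    have h6 := ha.2
    rwa [cj_one] at h6
  have h7 := h.le_of_norm (isPGroup_cj h.pgroup) h3 h5
  exact Subgroup.eq_of_le_of_card_ge h7 (by rw [card_cj])

/-- A `p`-subgroup containing `P` normalizes `P`, given the statement for smaller subgroups. -/
theorem Hyp.le_normalizer_of_ih (h : Hyp p P Y) {L : Subgroup G} (hL : IsPGroup p L) (hPL : P ≤ L)
    (ih : ∀ L₁ : Subgroup G, Nat.card L₁ < Nat.card L → IsPGroup p L₁ → P ≤ L₁ →
      ∀ g : G, cj g P ≤ L₁ → cj g P = P) : L ≤ normalizer (P : Set G) := by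
  by_contra hnot
  set L₁ : Subgroup G := L ⊓ normalizer (P : Set G) with hL₁
  have hlt : L₁ < L := by
    apply lt_of_le_of_ne inf_le_left
    intro e
    apply hnot
    rw [← e]
    exact inf_le_right
  haveI : Group.IsNilpotent ↥L := hL.isNilpotent
  have hcond := Group.normalizerCondition_of_isNilpotent (G := ↥L)
  have hne : L₁.subgroupOf L < ⊤ := by
    apply lt_top_iff_ne_top.mpr
    intro e
    apply hlt.ne
    apply le_antisymm inf_le_left
    intro x hx
    have h1 : (⟨x, hx⟩ : ↥L) ∈ L₁.subgroupOf L := by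
      rw [e]
      trivial
    exact Subgroup.mem_subgroupOf.mp h1
  have h2 := hcond _ hne
  obtain ⟨y, hy1, hy2⟩ := SetLike.exists_of_lt h2
  have hyL₁ : (y : G) ∉ L₁ := fun hmem => hy2 (Subgroup.mem_subgroupOf.mpr hmem)
  have hPL₁ : P ≤ L₁ := le_inf hPL Subgroup.le_normalizer
  have h3 : cj (y : G) P ≤ L₁ := by
    rintro _ ⟨q, hq, rfl⟩
    have h4 : (⟨q, hPL hq⟩ : ↥L) ∈ L₁.subgroupOf L := Subgroup.mem_subgroupOf.mpr (hPL₁ hq)
    have h5 := (mem_normalizer_iff.mp hy1 _).mp h4
    exact Subgroup.mem_subgroupOf.mp h5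
  have hcard : Nat.card L₁ < Nat.card L := by
    by_contra hge
    exact hlt.ne (Subgroup.eq_of_le_of_card_ge hlt.le (not_lt.mp hge))
  have h6 := ih L₁ hcard (hL.to_le inf_le_left) hPL₁ _ h3
  exact hyL₁ ⟨y.2, cj_eq_self_iff.1 h6⟩

/-- **Weak closure.** -/
theorem Hyp.weak (h : Hyp p P Y) : ∀ (L : Subgroup G), IsPGroup p L → P ≤ L → ∀ g : G, cj g P ≤ L → cj g P = P := by
  intro L
  induction' hn : Nat.card L using Nat.strong_induction_on with n ih generalizing L
  intro hL hPL g hg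
  have ih' : ∀ L₁ : Subgroup G, Nat.card L₁ < Nat.card L → IsPGroup p L₁ → P ≤ L₁ →
      ∀ g : G, cj g P ≤ L₁ → cj g P = P := by
    intro L₁ hlt
    exact ih _ (hn ▸ hlt) L₁ rfl
  have h1 := h.le_normalizer_of_ih hL hPL ih'
  -- the conjugate
  have hL₂p : IsPGroup p (cj g⁻¹ L) := isPGroup_cj hL
  have hPL₂ : P ≤ cj g⁻¹ L := by
    have h2 := cj_mono (g := g⁻¹) hg
    rwa [cj_inv_cj] at h2
  have h2 := h.le_normalizer_of_ih hL₂p hPL₂ (by
    intro L₁ hlt
    rw [card_cj] at hlt
    exact ih' L₁ hlt)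
  have h3 : L ≤ normalizer ((cj g P : Subgroup G) : Set G) := by
    have h4 := cj_mono (g := g) h2
    rwa [cj_cj_inv, ← normalizer_cj] at h4
  apply h.eq_of_rel
  constructor
  · rw [cj_one]
    exact hPL.trans h3
  · rw [cj_one]
    exact hg.trans h1

end main

section concrete

open Cfsg.Agent.Lib.LocalY.FrakM Cfsg.Agent.Lib.LocalY.Basic

variable [Finite G] {p : ℕ} [Fact p.Prime]

/-- `M† = N_G(Y_M)`. -/
theorem normalizer_eq_dagger {S : Sylow p G} {Q M : Subgroup G} (hQp : IsPGroup p ↥Q) (hQ1 : Q ≠ ⊥)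
    (hQ : IsLarge Q) (hSM : (S : Subgroup G) ≤ M) (hM : IsInFrakM p M) :
    normalizer (largestPReducedOf p M : Set G) = M ⊔ centralizer (largestPReducedOf p M : Set G) := by
  have hpar := (Cfsg.Agent.S2845.result Q hQp hQ1 hQ).2.2
  have h1 := normalizer_largest_eq hpar S (hSM.trans le_sup_left) hM.2.1
  rwa [← hM.2.2.2.1] at h1

theorem pCoreOf_le_centralizer {M : Subgroup G} (hM : M ∈ charPSubgroups p G) :
    pCoreOf p M ≤ centralizer (largestPReducedOf p M : Set G) := by
  have hV := prd_largest (hchar_of_mem hM)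
  apply hV.core _ (Subgroup.map_subtype_le _)
  · intro a ha v hv
    exact Cfsg.Agent.Lib.LocalY.Kieler.conj_mem_pCoreOf ha hv
  · intro d hd
    obtain ⟨k, hk⟩ := ((Cfsg.Agent.Lib.Basic.PCore.pCore_isPGroup (G := ↥M) p).map M.subtype) ⟨d, hd⟩
    refine ⟨k, ?_⟩
    have h2 : d ^ p ^ k = 1 := congrArg Subtype.val hk
    rw [h2]
    exact one_mem _

theorem largest_le_pCoreOf {M : Subgroup G} (hM : M ∈ charPSubgroups p G) :
    largestPReducedOf p M ≤ pCoreOf p M := by
  have h1 := le_center_pCore (hchar_of_mem hM) (isPReducedNormal_largest (hchar_of_mem hM))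
  rintro _ ⟨y, hy, rfl⟩
  exact ⟨y, (h1 hy).1, rfl⟩

/-- `P = O_p(M)` is `S ∩ C(Y_M)`. -/
theorem pCoreOf_eq_inf {S : Sylow p G} {M : Subgroup G} (hSM : (S : Subgroup G) ≤ M) (hM : IsInFrakM p M) :
    pCoreOf p M = (S : Subgroup G) ⊓ centralizer (largestPReducedOf p M : Set G) := by
  have hV := prd_largest (hchar_of_mem hM.1)
  have hSi : ¬ p ∣ (S : Subgroup G).relIndex M := by
    intro h
    apply S.not_dvd_index
    rw [← Subgroup.relIndex_mul_index hSM]
    exact Dvd.dvd.mul_right h _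
  apply le_antisymm
  · exact le_inf (Cfsg.Agent.Lib.LocalY.Kieler.pCoreOf_le_of_not_dvd hSM S.isPGroup' hSi)
      (pCoreOf_le_centralizer hM.1)
  · refine Cfsg.Agent.S2848.inf_centralizer_le_pCoreOf M _ S hV.le ?_ hSM S.isPGroup' hSi hM.2.2.2.2.1
    constructor
    rintro ⟨y, hyM⟩ hy ⟨g, hg⟩
    rw [Subgroup.mem_subgroupOf] at hy ⊢
    exact hV.conj g hg y hy

theorem hyp_of {S : Sylow p G} {Q M : Subgroup G} (hQp : IsPGroup p ↥Q) (hQ1 : Q ≠ ⊥)
    (hQS : Q ≤ (S : Subgroup G)) (hQ : IsLarge Q) (hSM : (S : Subgroup G) ≤ M) (hM : IsInFrakM p M)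
    (hasym : ¬ IsSymmetricIn (largestPReducedOf p M)) :
    Hyp p (pCoreOf p M) (largestPReducedOf p M) := by
  have hN := normalizer_eq_dagger (S := S) hQp hQ1 hQ hSM hM
  have hle := largest_le_pCoreOf hM.1
  have hne := largest_ne_bot S hSM hM.1
  have hPp : IsPGroup p (pCoreOf p M) := (Cfsg.Agent.Lib.Basic.PCore.pCore_isPGroup (G := ↥M) p).map _
  have hP1 : pCoreOf p M ≠ ⊥ := by
    intro h
    rw [h, le_bot_iff] at hle
    exact hne hle
  have hMP : M ≤ normalizer ((pCoreOf p M : Subgroup G) : Set G) := fun m hm =>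
    mem_normalizer_of_forall (fun a ha v hv => Cfsg.Agent.Lib.LocalY.Kieler.conj_mem_pCoreOf ha hv) hm
  refine ⟨hPp, hle, hne, pCoreOf_le_centralizer hM.1, ?_, ?_, hasym, ?_⟩
  · rw [hN]
    exact Cfsg.Agent.Lib.LocalY.Large.normalizer_le_dagger hQp hQ S hQS hSM hM hP1 hPp hMP
  · intro R hRp hRC hPR
    -- `P` is a Sylow subgroup of `C(Y)`
    set Y : Subgroup G := largestPReducedOf p M with hY
    set C : Subgroup G := centralizer (Y : Set G) with hC
    have hSN : (S : Subgroup G) ≤ normalizer (C : Set G) := by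
      rw [hC]
      refine le_trans ?_ (Cfsg.Agent.Lib.LocalY.Transfer.normalizer_le_normalizer_centralizer Y)
      rw [hN]
      exact hSM.trans le_sup_left
    have hnd := Cfsg.Agent.Lib.LocalY.Transfer.not_dvd_relIndex_of_le_normalizer S C hSN
    have hPeq := pCoreOf_eq_inf hSM hM
    have hP2 : IsPGroup p ((pCoreOf p M).subgroupOf C) := hPp.comap_subtype
    have hP3 : ¬ p ∣ ((pCoreOf p M).subgroupOf C).index := by
      rw [hPeq]
      exact hnd
    let T : Sylow p ↥C := hP2.toSylow hP3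
    have hT : (T : Subgroup ↥C) = (pCoreOf p M).subgroupOf C := rfl
    have hR2 : IsPGroup p (R.subgroupOf C) := hRp.comap_subtype
    have h4 : (T : Subgroup ↥C) ≤ R.subgroupOf C := by
      rw [hT]
      intro x hx
      exact Subgroup.mem_subgroupOf.mpr (hPR (Subgroup.mem_subgroupOf.mp hx))
    have h5 := T.is_maximal' hR2 h4
    apply le_antisymm _ hPR
    intro r hr
    have h6 : (⟨r, hRC hr⟩ : ↥C) ∈ R.subgroupOf C := Subgroup.mem_subgroupOf.mpr hr
    rw [h5, hT] at h6
    exact Subgroup.mem_subgroupOf.mp h6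
  · intro D hD1 hDp hND
    rw [hN]
    exact Cfsg.Agent.Lib.LocalY.Large.normalizer_le_dagger hQp hQ S hQS hSM hM hD1 hDp (hMP.trans hND)

end concrete

end Cfsg.Agent.Lib.LocalY.Asym
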