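import Mathlib
import Cfsg.Agent.Lib.LocalY.Asym

/-!
# The family `ℌ_G(O_p(M))` for asymmetric `Y_M`
-/

set_option autoImplicit false

namespace Cfsg.Agent.Lib.LocalY.FrakH

open Cfsg Subgroup Cfsg.Agent.Lib.PGroup.WeaklyClosed Cfsg.Agent.Lib.PGroup.LargeSub
open Cfsg.Agent.Lib.LocalY.FrakM Cfsg.Agent.Lib.LocalY.Asym
open Cfsg.Agent.Lib.LocalY.Kieler (conj_mem_pCoreOf)

variable {G : Type*} [Group G] [Finite G] {p : ℕ} [Fact p.Prime]

theorem pCoreOf_le (L : Subgroup G) : pCoreOf p L ≤ L := Subgroup.map_subtype_le _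

theorem isPGroup_pCoreOf (L : Subgroup G) : IsPGroup p (pCoreOf p L) :=
  (Cfsg.Agent.Lib.Basic.PCore.pCore_isPGroup (G := ↥L) p).map _

/-- A normal `p`-subgroup of `L`, in the ambient group, lies in `O_p(L)`. -/
theorem le_pCoreOf {L U : Subgroup G} (hUL : U ≤ L) (hUp : IsPGroup p U)
    (hUn : ∀ l ∈ L, ∀ u ∈ U, l * u * l⁻¹ ∈ U) : U ≤ pCoreOf p L := by
  have hn : (U.subgroupOf L).Normal := by
    constructor
    rintro ⟨y, hyL⟩ hy ⟨g, hg⟩
    rw [Subgroup.mem_subgroupOf] at hy ⊢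
    exact hUn g hg y hy
  have h1 := Cfsg.Agent.Lib.Basic.PCore.le_pCore hn hUp.comap_subtype
  intro u hu
  exact ⟨⟨u, hUL hu⟩, h1 (Subgroup.mem_subgroupOf.mpr hu), rfl⟩

theorem pCoreOf_cj_le (c : G) (L : Subgroup G) : cj c (pCoreOf p L) ≤ pCoreOf p (cj c L) := by
  apply le_pCoreOf (cj_mono (pCoreOf_le L)) (isPGroup_cj (isPGroup_pCoreOf L))
  rintro _ ⟨l, hl, rfl⟩ _ ⟨u, hu, rfl⟩
  refine ⟨l * u * l⁻¹, conj_mem_pCoreOf hl hu, ?_⟩
  show c * (l * u * l⁻¹) * c⁻¹ = (c * l * c⁻¹) * (c * u * c⁻¹) * (c * l * c⁻¹)⁻¹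
  group

theorem pCoreOf_cj (c : G) (L : Subgroup G) : pCoreOf p (cj c L) = cj c (pCoreOf p L) := by
  apply le_antisymm _ (pCoreOf_cj_le c L)
  have h1 := pCoreOf_cj_le (p := p) c⁻¹ (cj c L)
  rw [cj_inv_cj] at h1
  have h2 := cj_mono (g := c) h1
  rwa [cj_cj_inv] at h2

/-- Characteristic `p`, in the ambient group. -/
theorem charP_iff {L : Subgroup G} :
    centralizer (pCore p ↥L : Set ↥L) ≤ pCore p ↥L ↔
      L ⊓ centralizer ((pCoreOf p L : Subgroup G) : Set G) ≤ pCoreOf p L := by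
  constructor
  · rintro h x ⟨hxL, hxC⟩
    have h1 : (⟨x, hxL⟩ : ↥L) ∈ centralizer (pCore p ↥L : Set ↥L) := by
      rw [mem_centralizer_iff]
      intro o ho
      apply Subtype.ext
      exact mem_centralizer_iff.mp hxC _ ⟨o, ho, rfl⟩
    exact ⟨_, h h1, rfl⟩
  · intro h x hx
    have h1 : (x : G) ∈ L ⊓ centralizer ((pCoreOf p L : Subgroup G) : Set G) := by
      refine ⟨x.2, ?_⟩
      show (x : G) ∈ centralizer ((pCoreOf p L : Subgroup G) : Set G)
      rw [mem_centralizer_iff]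
      rintro _ ⟨o, ho, rfl⟩
      have h2 := mem_centralizer_iff.mp hx o ho
      exact congrArg Subtype.val h2
    obtain ⟨y, hy, e⟩ := h h1
    have h3 : y = x := Subtype.ext e
    rwa [← h3]

theorem charP_cj {L : Subgroup G} (c : G)
    (h : L ⊓ centralizer ((pCoreOf p L : Subgroup G) : Set G) ≤ pCoreOf p L) :
    cj c L ⊓ centralizer ((pCoreOf p (cj c L) : Subgroup G) : Set G) ≤ pCoreOf p (cj c L) := by
  rw [pCoreOf_cj, centralizer_cj]
  intro x hx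
  have h1 : cj c (L ⊓ centralizer ((pCoreOf p L : Subgroup G) : Set G)) ≤ cj c (pCoreOf p L) := cj_mono h
  apply h1
  rw [mem_cj] at *
  exact ⟨mem_cj.mp hx.1, mem_cj.mp hx.2⟩

/-- A normal subgroup of a group of characteristic `p` has characteristic `p`. -/
theorem charP_of_normal_sub {H K : Subgroup G}
    (hH : H ⊓ centralizer ((pCoreOf p H : Subgroup G) : Set G) ≤ pCoreOf p H) (hKH : K ≤ H)
    (hK : ∀ h ∈ H, ∀ k ∈ K, h * k * h⁻¹ ∈ K) :
    K ⊓ centralizer ((pCoreOf p K : Subgroup G) : Set G) ≤ pCoreOf p K := by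
  set R : Subgroup G := pCoreOf p H with hR
  set O : Subgroup G := pCoreOf p K with hO
  -- `O` is normalized by `H`
  have hHO : ∀ h ∈ H, cj h O = O := by
    intro h hh
    rw [hO, ← pCoreOf_cj]
    congr 1
    apply le_antisymm
    · rintro _ ⟨k, hk, rfl⟩
      exact hK h hh k hk
    · intro k hk
      refine ⟨h⁻¹ * k * h, ?_, ?_⟩
      · have h1 := hK h⁻¹ (H.inv_mem hh) k hk
        simpa using h1
      · show h * (h⁻¹ * k * h) * h⁻¹ = k
        group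
  have hOH : ∀ h ∈ H, ∀ o ∈ O, h * o * h⁻¹ ∈ O := by
    intro h hh o ho
    rw [← hHO h hh]
    exact conj_mem_cj ho
  have hOR : O ≤ R := le_pCoreOf ((pCoreOf_le K).trans hKH) (isPGroup_pCoreOf K) hOH
  have hRK : R ⊓ K ≤ O := by
    apply le_pCoreOf inf_le_right ((isPGroup_pCoreOf H).to_le inf_le_left)
    intro k hk u hu
    exact ⟨conj_mem_pCoreOf (hKH hk) hu.1, K.mul_mem (K.mul_mem hk hu.2) (K.inv_mem hk)⟩
  set E : Subgroup G := K ⊓ centralizer ((O : Subgroup G) : Set G) with hE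
  have hEp : IsPGroup p E := by
    apply Cfsg.Agent.Lib.LocalY.Large.isPGroup_of_coprime_eq_one
    intro y hy hc
    have hyH : y ∈ H := hKH hy.1
    have hyC : y ∈ centralizer ((R : Subgroup G) : Set G) := by
      rw [mem_centralizer_iff]
      intro r hr
      set u : G := r⁻¹ * y * r * y⁻¹ with hu
      have hu1 : u ∈ R := by
        have h1 : u = r⁻¹ * (y * r * y⁻¹) := by rw [hu]; group
        rw [h1]
        exact R.mul_mem (R.inv_mem hr) (conj_mem_pCoreOf hyH hr)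
      have hu2 : u ∈ K := by
        have h1 : u = (r⁻¹ * y * r⁻¹⁻¹) * y⁻¹ := by rw [hu]; group
        rw [h1]
        exact K.mul_mem (hK _ (H.inv_mem ((pCoreOf_le H) hr)) y hy.1) (K.inv_mem hy.1)
      have hu3 : u ∈ O := hRK ⟨hu1, hu2⟩
      have hcomm : Commute y u := (mem_centralizer_iff.mp hy.2 u hu3).symm
      obtain ⟨n, hn⟩ := isPGroup_pCoreOf (p := p) K ⟨u, hu3⟩
      have hn' : u ^ p ^ n = 1 := congrArg Subtype.val hn
      have h8 := Cfsg.Agent.Lib.LocalY.Large.comm_eq_one_of_commute' hc hn' hcomm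
      have h9 : r * (r⁻¹ * y * r * y⁻¹) * y = r * 1 * y := by rw [h8]
      have h10 : r * (r⁻¹ * y * r * y⁻¹) * y = y * r := by group
      rw [h10] at h9
      have h11 : y * r = r * y := by simpa using h9
      exact h11.symm
    have hyR : y ∈ R := hH ⟨hyH, hyC⟩
    obtain ⟨n, hn⟩ := isPGroup_pCoreOf (p := p) H ⟨y, hyR⟩
    have hn' : y ^ p ^ n = 1 := congrArg Subtype.val hn
    have h11 := orderOf_dvd_of_pow_eq_one hn'
    have h12 : (orderOf y).Coprime (p ^ n) := Nat.Coprime.pow_right n hc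
    exact orderOf_eq_one_iff.mp (Nat.Coprime.eq_one_of_dvd h12 h11)
  apply le_pCoreOf inf_le_left hEp
  intro k hk e he
  refine ⟨K.mul_mem (K.mul_mem hk he.1) (K.inv_mem hk), ?_⟩
  apply conj_mem_centralizer _ he.2
  intro o ho
  have h1 := hOH k⁻¹ (H.inv_mem (hKH hk)) o ho
  simpa using h1

/-- The setting: the facts used in the construction of `ℌ_G(O_p(M))`. -/
theorem exists_frakH_of {P Y : Subgroup G} (hA : Hyp p P Y)
    {L₀ : Subgroup G} (hPL₀ : P ≤ L₀)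
    (hL₀ : L₀ ⊓ centralizer ((pCoreOf p L₀ : Subgroup G) : Set G) ≤ pCoreOf p L₀)
    (hYL₀ : ¬ Y ≤ pCoreOf p L₀) :
    ∃ H : Subgroup G, H ⊓ centralizer ((pCoreOf p H : Subgroup G) : Set G) ≤ pCoreOf p H ∧ P ≤ H ∧
      ¬ Y ≤ pCoreOf p H ∧ ∀ P₁ : Subgroup G, P ≤ P₁ → P₁ < H → Y ≤ pCoreOf p P₁ := by
  let F : Set (Subgroup G) := {X | P ≤ X ∧
    X ⊓ centralizer ((pCoreOf p X : Subgroup G) : Set G) ≤ pCoreOf p X ∧ ¬ Y ≤ pCoreOf p X}
  have hne : F.Nonempty := ⟨L₀, hPL₀, hL₀, hYL₀⟩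
  obtain ⟨H, hH⟩ := (Set.toFinite F).exists_minimal hne
  obtain ⟨hPH, hHc, hYH⟩ := hH.prop
  have hmin : ∀ X : Subgroup G, P ≤ X → X < H →
      X ⊓ centralizer ((pCoreOf p X : Subgroup G) : Set G) ≤ pCoreOf p X → Y ≤ pCoreOf p X := by
    intro X hPX hXH hXc
    by_contra hcon
    exact hXH.not_ge (hH.2 (y := X) ⟨hPX, hXc, hcon⟩ hXH.le)
  refine ⟨H, hHc, hPH, hYH, ?_⟩
  intro P₁ hPP₁ hP₁H
  set R : Subgroup G := pCoreOf p H with hR
  have hRp : IsPGroup p R := isPGroup_pCoreOf H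
  have hRH : R ≤ H := pCoreOf_le H
  have hHR : ∀ h ∈ H, ∀ r ∈ R, h * r * h⁻¹ ∈ R := fun h hh r hr => conj_mem_pCoreOf hh hr
  have hHNR : H ≤ normalizer ((R : Subgroup G) : Set G) := fun h hh => mem_normalizer_of_forall hHR hh
  -- `R` normalizes `P`
  have hRN : R ≤ normalizer (P : Set G) := by
    intro r hr
    have hp : IsPGroup p ↥(P ⊔ R) :=
      IsPGroup.to_sup_of_normal_right' hA.pgroup hRp (hPH.trans hHNR)
    have h1 := hA.weak (P ⊔ R) hp le_sup_left r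
      (cj_le_of_mem ((le_sup_right : R ≤ P ⊔ R) hr) le_sup_left)
    exact cj_eq_self_iff.1 h1
  have hP₁N : P₁ ≤ normalizer ((R : Subgroup G) : Set G) := hP₁H.le.trans hHNR
  set P₂ : Subgroup G := P₁ ⊔ R with hP₂
  have hP₂H : P₂ ≤ H := sup_le hP₁H.le hRH
  by_cases hcase : P₂ = H
  · -- the normal closure of `P` in `H` lies in `P₁`
    exfalso
    set K₀ : Subgroup G := ⨆ h : ↥H, cj (h : G) P with hK₀
    have hPK₀ : P ≤ K₀ := by
      have h1 := le_iSup (fun h : ↥H => cj (h : G) P) 1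
      simpa using h1
    have hK₀P₁ : K₀ ≤ P₁ := by
      apply iSup_le
      rintro ⟨h, hh⟩
      have hh2 : h ∈ P₁ ⊔ R := by
        rw [← hP₂, hcase]
        exact hh
      obtain ⟨a, ha, r, hr, rfl⟩ := exists_mul_of_mem_sup hP₁N hh2
      show cj (a * r) P ≤ P₁
      rw [cj_mul, cj_eq_self_iff.2 (hRN hr)]
      exact cj_le_of_mem ha hPP₁
    have hK₀H : K₀ ≤ H := hK₀P₁.trans hP₁H.le
    have hcjle : ∀ h ∈ H, cj h K₀ ≤ K₀ := by
      intro h hh
      rw [hK₀]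
      show Subgroup.map _ _ ≤ _
      rw [Subgroup.map_iSup]
      apply iSup_le
      intro y
      have h2 := le_iSup (fun z : ↥H => cj (z : G) P) (⟨h, hh⟩ * y)
      have h3 : cj (((⟨h, hh⟩ : ↥H) * y : ↥H) : G) P = cj h (cj (y : G) P) := by
        rw [← cj_mul]
        rfl
      rw [h3] at h2
      exact h2
    have hK₀n : ∀ h ∈ H, ∀ k ∈ K₀, h * k * h⁻¹ ∈ K₀ := fun h hh k hk => hcjle h hh (conj_mem_cj hk)
    have hK₀c := charP_of_normal_sub hHc hK₀H hK₀n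
    have hY₂ := hmin K₀ hPK₀ (lt_of_le_of_lt hK₀P₁ hP₁H) hK₀c
    apply hYH
    refine hY₂.trans (le_pCoreOf ((pCoreOf_le K₀).trans hK₀H) (isPGroup_pCoreOf K₀) ?_)
    intro h hh o ho
    have h4 : cj h K₀ = K₀ := by
      apply le_antisymm (hcjle h hh)
      have h5 := cj_mono (g := h) (hcjle h⁻¹ (H.inv_mem hh))
      rwa [cj_cj_inv] at h5
    have h6 := conj_mem_cj (g := h) ho
    rwa [← pCoreOf_cj, h4] at h6
  · have hlt : P₂ < H := lt_of_le_of_ne hP₂H hcase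
    have hRO : R ≤ pCoreOf p P₂ := by
      apply le_pCoreOf le_sup_right hRp
      intro x hx r hr
      exact hHR x (hP₂H hx) r hr
    have hP₂c : P₂ ⊓ centralizer ((pCoreOf p P₂ : Subgroup G) : Set G) ≤ pCoreOf p P₂ := by
      rintro x ⟨hx1, hx2⟩
      apply hRO
      apply hHc
      refine ⟨hP₂H hx1, ?_⟩
      exact Subgroup.centralizer_le (SetLike.coe_subset_coe.mpr hRO) hx2
    have hY₂ := hmin P₂ (hPP₁.trans le_sup_left) hlt hP₂c
    have hYP₁ : Y ≤ P₁ := hA.le.trans hPP₁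
    have h1 : pCoreOf p P₂ ⊓ P₁ ≤ pCoreOf p P₁ := by
      apply le_pCoreOf inf_le_right ((isPGroup_pCoreOf P₂).to_le inf_le_left)
      intro l hl u hu
      exact ⟨conj_mem_pCoreOf ((le_sup_left : P₁ ≤ P₂) hl) hu.1, P₁.mul_mem (P₁.mul_mem hl hu.2) (P₁.inv_mem hl)⟩
    exact (le_inf hY₂ hYP₁).trans h1

end Cfsg.Agent.Lib.LocalY.FrakH
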