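import Mathlib
import Cfsg.Agent.Lib.LocalY.FrakH
import Cfsg.Agent.Lib.Components.FStar

/-!
# `p`-subgroups normalized by `F*` when `O_p = 1`, and factorizations `E = T K`
-/

set_option autoImplicit false

namespace Cfsg.Agent.Lib.LocalY.FStarDagger

open Cfsg Subgroup Cfsg.Agent.Lib.PGroup.WeaklyClosed
open Cfsg.Agent.Lib.LocalY.FrakM Cfsg.Agent.Lib.LocalY.FrakH Cfsg.Agent.Lib.Components.FStar
open scoped commutatorElement

variable {p : ℕ} [Fact p.Prime]

/-- With `O_p(A) = 1`, a `p`-subgroup normalized by `F*(A)` is trivial. -/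
theorem eq_bot_of_fstar_le_normalizer {A : Type*} [Group A] [Finite A] (h0 : pCore p A = ⊥)
    {R : Subgroup A} (hRp : IsPGroup p R)
    (hN : generalizedFittingSubgroup A ≤ normalizer (R : Set A)) : R = ⊥ := by
  set Fs : Subgroup A := generalizedFittingSubgroup A with hFs
  have hFsn : Fs.Normal := inferInstance
  set X : Subgroup A := Fs ⊓ R with hX
  have hXp : IsPGroup p X := hRp.to_le inf_le_right
  have hXF : X ≤ pCoreOf p Fs := by
    apply le_pCoreOf inf_le_left hXp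
    intro l hl u hu
    exact ⟨hFsn.conj_mem _ hu.1 _, (mem_normalizer_iff.mp (hN hl) _).mp hu.2⟩
  have hcoreN : (pCoreOf p Fs).Normal := by
    constructor
    intro o ho a
    have h1 : cj a Fs = Fs := by
      apply cj_eq_self_iff.2
      rw [mem_normalizer_iff]
      intro x
      constructor
      · exact fun hx => hFsn.conj_mem x hx a
      · intro hx
        have h2 := hFsn.conj_mem _ hx a⁻¹
        simpa [mul_assoc] using h2
    have h2 := conj_mem_cj (g := a) ho
    rwa [← pCoreOf_cj, h1] at h2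
  have hc : pCoreOf p Fs ≤ pCore p A :=
    Cfsg.Agent.Lib.Basic.PCore.le_pCore hcoreN (isPGroup_pCoreOf Fs)
  have hXb : X = ⊥ := by
    rw [h0, le_bot_iff] at hc
    rw [hc, le_bot_iff] at hXF
    exact hXF
  have hRC : R ≤ centralizer (Fs : Set A) := by
    intro r hr
    rw [mem_centralizer_iff]
    intro f hf
    have h1 : f * r * f⁻¹ * r⁻¹ ∈ X := by
      constructor
      · have h2 : f * r * f⁻¹ * r⁻¹ = f * (r * f⁻¹ * r⁻¹) := by group
        rw [h2]
        exact Fs.mul_mem hf (hFsn.conj_mem _ (Fs.inv_mem hf) r)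
      · exact R.mul_mem ((mem_normalizer_iff.mp (hN hf) _).mp hr) (R.inv_mem hr)
    rw [hXb, Subgroup.mem_bot] at h1
    have h3 : f * r = r * f := by
      have h4 : f * r * f⁻¹ = r := by
        have := mul_eq_one_iff_eq_inv.mp h1
        simpa using this
      calc f * r = f * r * f⁻¹ * f := by group
        _ = r * f := by rw [h4]
    exact h3
  have hRF : R ≤ Fs := hRC.trans centralizer_generalizedFitting_le
  rw [eq_bot_iff, ← hXb]
  exact le_inf hRF le_rfl

/-- The transfer to an ambient group: `D` with `C ⊴ D`, `O_p(D/C) = 1`, `F` the preimage of `F*(D/C)`;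
a subgroup `R ≤ D` normalized by `F`, all of whose elements are `p`-elements modulo `C`, lies in `C`. -/
theorem le_of_le_normalizer {G : Type*} [Group G] [Finite G] {D C F R : Subgroup G}
    [hn : (C.subgroupOf D).Normal] (hcore : pCore p (↥D ⧸ C.subgroupOf D) = ⊥)
    (hF : F = ((generalizedFittingSubgroup (↥D ⧸ C.subgroupOf D)).comap
      (QuotientGroup.mk' (C.subgroupOf D))).map D.subtype)
    (hRD : R ≤ D) (hRp : ∀ r ∈ R, ∃ k : ℕ, r ^ p ^ k ∈ C) (hN : F ≤ normalizer (R : Set G)) :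
    R ≤ C := by
  set Cb : Subgroup ↥D := C.subgroupOf D with hCb
  set Rb : Subgroup (↥D ⧸ Cb) := (R.subgroupOf D).map (QuotientGroup.mk' Cb) with hRb
  have hRbp : IsPGroup p Rb := by
    rintro ⟨_, r, hr, rfl⟩
    have hr' : (r : G) ∈ R := Subgroup.mem_subgroupOf.mp hr
    obtain ⟨k, hk⟩ := hRp _ hr'
    refine ⟨k, Subtype.ext ?_⟩
    show (QuotientGroup.mk' Cb r) ^ p ^ k = 1
    rw [← map_pow]
    apply (QuotientGroup.eq_one_iff _).mpr
    rw [hCb, Subgroup.mem_subgroupOf]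
    exact_mod_cast hk
  have hNb : generalizedFittingSubgroup (↥D ⧸ Cb) ≤ normalizer (Rb : Set (↥D ⧸ Cb)) := by
    intro f hf
    apply mem_normalizer_of_forall (A := generalizedFittingSubgroup (↥D ⧸ Cb)) _ hf
    intro a ha s hs
    obtain ⟨d, rfl⟩ := QuotientGroup.mk'_surjective Cb a
    obtain ⟨r, hr, rfl⟩ := hs
    refine ⟨d * r * d⁻¹, Subgroup.mem_subgroupOf.mpr ?_, by simp⟩
    have hdF : (d : G) ∈ F := by
      rw [hF]
      exact ⟨d, ha, rfl⟩
    have h1 := (mem_normalizer_iff.mp (hN hdF) _).mp (Subgroup.mem_subgroupOf.mp hr)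
    simpa using h1
  have hbot := eq_bot_of_fstar_le_normalizer hcore hRbp hNb
  intro r hr
  have h1 : QuotientGroup.mk' Cb (⟨r, hRD hr⟩ : ↥D) ∈ Rb :=
    ⟨⟨r, hRD hr⟩, Subgroup.mem_subgroupOf.mpr hr, rfl⟩
  rw [hbot, Subgroup.mem_bot] at h1
  have h2 := (QuotientGroup.eq_one_iff _).mp h1
  exact Subgroup.mem_subgroupOf.mp h2

/-- `E = T K` when `K ⊴ E`, `E/K` is a `p`-group and `T ≤ E` has index prime to `p`. -/
theorem sup_eq_of_not_dvd {G : Type*} [Group G] [Finite G] {E T K : Subgroup G} (hTE : T ≤ E)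
    (hKE : K ≤ E) (hKn : ∀ e ∈ E, ∀ k ∈ K, e * k * e⁻¹ ∈ K) (hE : ∀ e ∈ E, ∃ k : ℕ, e ^ p ^ k ∈ K)
    (hTi : ¬ p ∣ T.relIndex E) : T ⊔ K = E := by
  have hn : (K.subgroupOf E).Normal := by
    constructor
    rintro ⟨y, hyE⟩ hy ⟨g, hg⟩
    rw [Subgroup.mem_subgroupOf] at hy ⊢
    exact hKn g hg y hy
  have hq : IsPGroup p (↥E ⧸ K.subgroupOf E) := by
    intro x
    obtain ⟨e, rfl⟩ := QuotientGroup.mk'_surjective (K.subgroupOf E) x
    obtain ⟨k, hk⟩ := hE e e.2
    refine ⟨k, ?_⟩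
    rw [← map_pow]
    apply (QuotientGroup.eq_one_iff _).mpr
    rw [Subgroup.mem_subgroupOf]
    exact_mod_cast hk
  obtain ⟨n, hcard⟩ := IsPGroup.iff_card.mp hq
  have hK1 : K.relIndex E = p ^ n := by
    rw [Subgroup.relIndex]
    rw [Subgroup.index_eq_card]
    exact hcard
  set B : Subgroup G := T ⊔ K with hB
  have hBE : B ≤ E := sup_le hTE hKE
  have hd1 : B.relIndex E ∣ p ^ n := by
    rw [← hK1]
    exact Subgroup.relIndex_dvd_of_le_left E le_sup_right
  have hd2 : B.relIndex E ∣ T.relIndex E := Subgroup.relIndex_dvd_of_le_left E le_sup_left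
  obtain ⟨m, -, hm⟩ := (Nat.dvd_prime_pow (Fact.out : p.Prime)).mp hd1
  have hm0 : m = 0 := by
    by_contra h0
    apply hTi
    refine dvd_trans ?_ hd2
    rw [hm]
    exact dvd_pow_self p h0
  have h1 : B.relIndex E = 1 := by
    rw [hm, hm0, pow_zero]
  apply le_antisymm hBE
  exact Subgroup.relIndex_eq_one.mp h1

end Cfsg.Agent.Lib.LocalY.FStarDagger
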