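import Mathlib
import Cfsg.Agent.Lib.LocalY.FrakH
import Cfsg.Agent.Lib.Transfer.Basic

/-!
# Structure of the members of `ℌ_G(O_p(M))`
-/

set_option autoImplicit false

namespace Cfsg.Agent.Lib.LocalY.FrakH2

open Cfsg Subgroup Cfsg.Agent.Lib.PGroup.WeaklyClosed Cfsg.Agent.Lib.PGroup.LargeSub
open Cfsg.Agent.Lib.LocalY.FrakM Cfsg.Agent.Lib.LocalY.Asym Cfsg.Agent.Lib.LocalY.FrakH
open Cfsg.Agent.Lib.LocalY.Kieler (conj_mem_pCoreOf)
open scoped commutatorElement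

variable {G : Type*} [Group G]

/-- The normal closure of `A` under `H`, in the ambient group. -/
def ncl (H A : Subgroup G) : Subgroup G := ⨆ x : ↥H, cj (x : G) A

theorem cj_le_ncl {H : Subgroup G} (A : Subgroup G) {h : G} (hh : h ∈ H) : cj h A ≤ ncl H A :=
  le_iSup (fun x : ↥H => cj (x : G) A) ⟨h, hh⟩

theorem le_ncl (H A : Subgroup G) : A ≤ ncl H A := by
  have h1 := cj_le_ncl (H := H) A (one_mem _)
  simpa using h1

theorem ncl_le {H A B : Subgroup G} (h : ∀ x ∈ H, cj x A ≤ B) : ncl H A ≤ B :=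
  iSup_le fun x => h x x.2

theorem ncl_le_self {H A : Subgroup G} (hA : A ≤ H) : ncl H A ≤ H :=
  ncl_le fun _ hx => cj_le_of_mem hx hA

theorem ncl_cj_le {H A : Subgroup G} {h : G} (hh : h ∈ H) : cj h (ncl H A) ≤ ncl H A := by
  unfold ncl
  show Subgroup.map _ _ ≤ _
  rw [Subgroup.map_iSup]
  apply iSup_le
  intro y
  have h2 := cj_le_ncl (H := H) A (H.mul_mem hh y.2)
  rwa [cj_mul] at h2

theorem ncl_normal {H A : Subgroup G} : ∀ h ∈ H, ∀ k ∈ ncl H A, h * k * h⁻¹ ∈ ncl H A :=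
  fun _ hh _ hk => ncl_cj_le hh (conj_mem_cj hk)

theorem map_normalClosure_eq {H A : Subgroup G} (hA : A ≤ H) :
    (normalClosure ((A.subgroupOf H : Subgroup ↥H) : Set ↥H)).map H.subtype = ncl H A := by
  apply le_antisymm
  · have hn : ((ncl H A).subgroupOf H).Normal := by
      constructor
      rintro ⟨y, hyH⟩ hy ⟨g, hg⟩
      rw [Subgroup.mem_subgroupOf] at hy ⊢
      exact ncl_normal g hg y hy
    have h1 : normalClosure ((A.subgroupOf H : Subgroup ↥H) : Set ↥H) ≤ (ncl H A).subgroupOf H := by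
      apply Subgroup.normalClosure_le_normal
      intro x hx
      exact Subgroup.mem_subgroupOf.mpr (le_ncl H A (Subgroup.mem_subgroupOf.mp hx))
    rintro _ ⟨x, hx, rfl⟩
    exact Subgroup.mem_subgroupOf.mp (h1 hx)
  · apply ncl_le
    rintro x hx _ ⟨a, ha, rfl⟩
    have h2 : (⟨a, hA ha⟩ : ↥H) ∈ normalClosure ((A.subgroupOf H : Subgroup ↥H) : Set ↥H) :=
      Subgroup.subset_normalClosure (Subgroup.mem_subgroupOf.mpr ha)
    have h3 : (⟨x, hx⟩ * ⟨a, hA ha⟩ * (⟨x, hx⟩ : ↥H)⁻¹ : ↥H) ∈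
        normalClosure ((A.subgroupOf H : Subgroup ↥H) : Set ↥H) :=
      (Subgroup.normalClosure_normal).conj_mem _ h2 _
    exact ⟨_, h3, rfl⟩

variable [Finite G] {p : ℕ} [Fact p.Prime]

theorem conj_mem_pCoreOf_of_normal {K H : Subgroup G} (hK : ∀ h ∈ H, ∀ k ∈ K, h * k * h⁻¹ ∈ K) :
    ∀ h ∈ H, ∀ o ∈ pCoreOf p K, h * o * h⁻¹ ∈ pCoreOf p K := by
  intro h hh o ho
  have hc : cj h K = K := by
    apply le_antisymm
    · rintro _ ⟨k, hk, rfl⟩
      exact hK h hh k hk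
    · intro k hk
      refine ⟨h⁻¹ * k * h, ?_, ?_⟩
      · have h1 := hK h⁻¹ (H.inv_mem hh) k hk
        simpa using h1
      · show h * (h⁻¹ * k * h) * h⁻¹ = k
        group
  have h6 := conj_mem_cj (g := h) ho
  rwa [← pCoreOf_cj, hc] at h6

theorem pCoreOf_le_of_normal {K H : Subgroup G} (hKH : K ≤ H) (hK : ∀ h ∈ H, ∀ k ∈ K, h * k * h⁻¹ ∈ K) :
    pCoreOf p K ≤ pCoreOf p H :=
  le_pCoreOf ((pCoreOf_le K).trans hKH) (isPGroup_pCoreOf K) (conj_mem_pCoreOf_of_normal hK)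

theorem inf_pCoreOf_le {X K : Subgroup G} (hKX : K ≤ X) (hK : ∀ x ∈ X, ∀ k ∈ K, x * k * x⁻¹ ∈ K) :
    pCoreOf p X ⊓ K ≤ pCoreOf p K := by
  apply le_pCoreOf inf_le_right ((isPGroup_pCoreOf X).to_le inf_le_left)
  intro k hk u hu
  exact ⟨conj_mem_pCoreOf (hKX hk) hu.1, K.mul_mem (K.mul_mem hk hu.2) (K.inv_mem hk)⟩

/-- A `p'`-element in `B N₀` with `B` a `p`-group normalizing `N₀` lies in `N₀`. -/
theorem mem_of_coprime_of_sup {B N₀ : Subgroup G} (hBp : IsPGroup p B)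
    (hN : B ≤ normalizer (N₀ : Set G)) {x : G} (hx : x ∈ B ⊔ N₀) (hc : (orderOf x).Coprime p) : x ∈ N₀ := by
  obtain ⟨q, hq, n, hn, rfl⟩ := exists_mul_of_mem_sup hN hx
  obtain ⟨k, hk⟩ := hBp ⟨q, hq⟩
  have hk' : q ^ p ^ k = 1 := congrArg Subtype.val hk
  obtain ⟨n', hn', e⟩ := mul_pow_mem (hN hq) hn (p ^ k)
  have h1 : (q * n) ^ p ^ k ∈ N₀ := by
    rw [e, hk', one_mul]
    exact hn'
  have h2 : (q * n) ^ orderOf (q * n) ∈ N₀ := by
    rw [pow_orderOf_eq_one]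
    exact one_mem _
  have hcop : (p ^ k).Coprime (orderOf (q * n)) := Nat.Coprime.pow_left k hc.symm
  exact Cfsg.Agent.Lib.LocalY.Basic.mem_of_pow_mem_of_coprime h1 h2 hcop

/-- `O^p(H)`, as a subgroup of the ambient group. -/
abbrev res (p : ℕ) (H : Subgroup G) : Subgroup G := (pResidual p ↥H).map H.subtype

theorem res_le_self (H : Subgroup G) : res p H ≤ H := Subgroup.map_subtype_le _

theorem mem_res {H : Subgroup G} {x : G} (hx : x ∈ H) (hc : (orderOf x).Coprime p) : x ∈ res p H := by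
  refine ⟨⟨x, hx⟩, Subgroup.subset_closure ?_, rfl⟩
  show Nat.Coprime (orderOf (⟨x, hx⟩ : ↥H)) p
  rwa [Subgroup.orderOf_mk]

theorem res_le {H N₀ : Subgroup G} (h : ∀ x ∈ H, (orderOf x).Coprime p → x ∈ N₀) : res p H ≤ N₀ := by
  rw [res, pResidual, MonoidHom.map_closure, Subgroup.closure_le]
  rintro _ ⟨x, hx, rfl⟩
  apply h _ x.2
  have hx' : Nat.Coprime (orderOf x) p := hx
  show (orderOf (x : G)).Coprime p
  rwa [Subgroup.orderOf_coe]

theorem res_normal {H : Subgroup G} : ∀ h ∈ H, ∀ r ∈ res p H, h * r * h⁻¹ ∈ res p H := by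
  rintro h hh _ ⟨r, hr, rfl⟩
  have hn := Cfsg.Agent.Lib.Transfer.Basic.pResidual_normal p ↥H
  exact ⟨_, hn.conj_mem r hr ⟨h, hh⟩, rfl⟩

/-- In a group with `p`-group quotient `L/R`, a proper subgroup over `R` lies in a proper normal subgroup. -/
theorem exists_normal_of_ne_top {L : Type*} [Group L] [Finite L] (R : Subgroup L) [R.Normal]
    (hp : IsPGroup p (L ⧸ R)) {X : Subgroup L} (hRX : R ≤ X) (hX : X ≠ ⊤) :
    ∃ N : Subgroup L, N.Normal ∧ X ≤ N ∧ N ≠ ⊤ := by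
  haveI : Group.IsNilpotent (L ⧸ R) := hp.isNilpotent
  have hnc := Group.normalizerCondition_of_isNilpotent (G := L ⧸ R)
  have hne : X.map (QuotientGroup.mk' R) ≠ ⊤ := by
    intro h
    apply hX
    rw [eq_top_iff]
    intro x _
    have h1 : QuotientGroup.mk' R x ∈ X.map (QuotientGroup.mk' R) := by
      rw [h]
      trivial
    obtain ⟨y, hy, e⟩ := h1
    have h2 : y⁻¹ * x ∈ R := QuotientGroup.eq.mp e
    have h3 : x = y * (y⁻¹ * x) := by group
    rw [h3]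
    exact X.mul_mem hy (hRX h2)
  obtain h | ⟨C, hC, hle⟩ := eq_top_or_exists_le_coatom (X.map (QuotientGroup.mk' R))
  · exact absurd h hne
  haveI hCn : C.Normal := Subgroup.NormalizerCondition.normal_of_coatom C hnc hC
  refine ⟨C.comap (QuotientGroup.mk' R), hCn.comap _, ?_, ?_⟩
  · intro x hx
    exact hle ⟨x, hx, rfl⟩
  · intro h
    apply hC.1
    rw [eq_top_iff]
    intro q _
    obtain ⟨y, rfl⟩ := QuotientGroup.mk'_surjective R q
    have h1 : y ∈ C.comap (QuotientGroup.mk' R) := by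
      rw [h]
      trivial
    exact h1

/-- The members of `ℌ_G(P)`, in the abstract setting. -/
structure HH (p : ℕ) (P Y H : Subgroup G) : Prop where
  hyp : Hyp p P Y
  char : H ⊓ centralizer ((pCoreOf p H : Subgroup G) : Set G) ≤ pCoreOf p H
  le : P ≤ H
  not_le : ¬ Y ≤ pCoreOf p H
  min : ∀ P₁ : Subgroup G, P ≤ P₁ → P₁ < H → Y ≤ pCoreOf p P₁

variable {P Y H : Subgroup G}

theorem HH.pcore_norm (h : HH p P Y H) : pCoreOf p H ≤ normalizer (P : Set G) := by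
  intro r hr
  have hHNR : H ≤ normalizer ((pCoreOf p H : Subgroup G) : Set G) := fun x hx =>
    mem_normalizer_of_forall (fun a ha b hb => conj_mem_pCoreOf ha hb) hx
  have hp : IsPGroup p ↥(P ⊔ pCoreOf p H) :=
    IsPGroup.to_sup_of_normal_right' h.hyp.pgroup (isPGroup_pCoreOf H) (h.le.trans hHNR)
  have h1 := h.hyp.weak (P ⊔ pCoreOf p H) hp le_sup_left r
    (cj_le_of_mem ((le_sup_right : pCoreOf p H ≤ P ⊔ pCoreOf p H) hr) le_sup_left)
  exact cj_eq_self_iff.1 h1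

theorem HH.Y_le (h : HH p P Y H) : Y ≤ H := h.hyp.le.trans h.le

/-- `H` is the normal closure of `P` in `H`. -/
theorem HH.ncl_P (h : HH p P Y H) : ncl H P = H := by
  by_contra hne
  have hle := ncl_le_self (H := H) h.le
  have hlt : ncl H P < H := lt_of_le_of_ne hle hne
  have h1 := h.min _ (le_ncl H P) hlt
  exact h.not_le (h1.trans (pCoreOf_le_of_normal hle ncl_normal))

/-- `H` is `V P`, with `V` the normal closure of `Y`. -/
theorem HH.ncl_Y_sup (h : HH p P Y H) : ncl H Y ⊔ P = H := by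
  by_contra hne
  have hVH : ncl H Y ≤ H := ncl_le_self h.Y_le
  have hle : ncl H Y ⊔ P ≤ H := sup_le hVH h.le
  have hlt : ncl H Y ⊔ P < H := lt_of_le_of_ne hle hne
  have h1 := h.min _ le_sup_right hlt
  have h2 : Y ≤ pCoreOf p (ncl H Y ⊔ P) ⊓ ncl H Y := le_inf h1 (le_ncl H Y)
  have h3 := inf_pCoreOf_le (X := ncl H Y ⊔ P) (K := ncl H Y) (p := p) le_sup_left
    (fun x hx k hk => ncl_normal x (hle hx) k hk)
  exact h.not_le ((h2.trans h3).trans (pCoreOf_le_of_normal hVH ncl_normal))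

theorem HH.P_le_norm (h : HH p P Y H) {N₀ : Subgroup G} (hN : ∀ x ∈ H, ∀ k ∈ N₀, x * k * x⁻¹ ∈ N₀) :
    P ≤ normalizer (N₀ : Set G) := fun q hq => mem_normalizer_of_forall hN (h.le hq)

/-- `O^p(H) ≤ V`. -/
theorem HH.res_le_ncl (h : HH p P Y H) : res p H ≤ ncl H Y := by
  apply res_le
  intro x hx hc
  have hx2 : x ∈ P ⊔ ncl H Y := by
    rw [sup_comm, h.ncl_Y_sup]
    exact hx
  exact mem_of_coprime_of_sup h.hyp.pgroup (h.P_le_norm ncl_normal) hx2 hc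

/-- `H = O^p(H) O_p(M)`. -/
theorem HH.res_sup (h : HH p P Y H) : res p H ⊔ P = H := by
  haveI hRn := Cfsg.Agent.Lib.Transfer.Basic.pResidual_normal p ↥H
  have hq : IsPGroup p (↥H ⧸ pResidual p ↥H) := Cfsg.Agent.Lib.Transfer.Basic.isPGroup_quotient_pResidual
  have hX : pResidual p ↥H ⊔ P.subgroupOf H = ⊤ := by
    by_contra hne
    obtain ⟨N, hNn, hle, hNt⟩ := exists_normal_of_ne_top (pResidual p ↥H) hq le_sup_left hne
    apply hNt
    have hPN : ncl H P ≤ N.map H.subtype := by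
      apply ncl_le
      rintro x hx _ ⟨q, hq, rfl⟩
      have h1 : (⟨q, h.le hq⟩ : ↥H) ∈ N :=
        hle ((le_sup_right : P.subgroupOf H ≤ _) (Subgroup.mem_subgroupOf.mpr hq))
      exact ⟨_, hNn.conj_mem _ h1 ⟨x, hx⟩, rfl⟩
    rw [h.ncl_P] at hPN
    rw [eq_top_iff]
    intro x _
    obtain ⟨y, hy, e⟩ := hPN x.2
    have h2 : y = x := Subtype.ext e
    rwa [← h2]
  apply le_antisymm (sup_le (res_le_self H) h.le)
  intro x hx
  have h1 : (⟨x, hx⟩ : ↥H) ∈ pResidual p ↥H ⊔ P.subgroupOf H := by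
    rw [hX]
    trivial
  rw [← SetLike.mem_coe, Subgroup.normal_mul] at h1
  obtain ⟨a, ha, b, hb, e⟩ := Set.mem_mul.mp h1
  have e' : x = (a : G) * b := (congrArg Subtype.val e).symm
  rw [e']
  exact mul_mem ((le_sup_left : res p H ≤ _) ⟨a, ha, rfl⟩)
    ((le_sup_right : P ≤ _) (Subgroup.mem_subgroupOf.mp hb))

/-- `[H, Y] ≤ [O^p(H), Y]`, elementwise. -/
theorem HH.comm_mem (h : HH p P Y H) {x y : G} (hx : x ∈ H) (hy : y ∈ Y) :
    x * y * x⁻¹ * y⁻¹ ∈ ⁅res p H, Y⁆ := by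
  have hPN : P ≤ normalizer ((res p H : Subgroup G) : Set G) := h.P_le_norm res_normal
  have hx2 : x⁻¹ ∈ P ⊔ res p H := by
    rw [sup_comm, h.res_sup]
    exact H.inv_mem hx
  obtain ⟨q, hq, r, hr, e⟩ := exists_mul_of_mem_sup hPN hx2
  have e2 : x = r⁻¹ * q⁻¹ := by
    have h1 : x = (x⁻¹)⁻¹ := by simp
    rw [h1, e]
    group
  have hqy : q⁻¹ * y = y * q⁻¹ := by
    have h1 := mem_centralizer_iff.mp (h.hyp.cent (P.inv_mem hq)) y hy
    exact h1.symm
  have h3 : x * y * x⁻¹ * y⁻¹ = ⁅r⁻¹, y⁆ := by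
    rw [e2]
    simp only [commutatorElement_def]
    calc r⁻¹ * q⁻¹ * y * (r⁻¹ * q⁻¹)⁻¹ * y⁻¹ = r⁻¹ * (q⁻¹ * y) * q * r⁻¹⁻¹ * y⁻¹ := by group
      _ = r⁻¹ * (y * q⁻¹) * q * r⁻¹⁻¹ * y⁻¹ := by rw [hqy]
      _ = r⁻¹ * y * r⁻¹⁻¹ * y⁻¹ := by group
  rw [h3]
  exact Subgroup.commutator_mem_commutator ((res p H).inv_mem hr) hy

/-- `P` normalizes `[O^p(H), Y]`. -/
theorem HH.Y_le_norm_comm (h : HH p P Y H) : Y ≤ normalizer ((⁅res p H, Y⁆ : Subgroup G) : Set G) := by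
  intro q hq
  rw [← cj_eq_self_iff]
  have hq2 : q ∈ P := h.hyp.le hq
  have h1 : cj q (res p H) = res p H := by
    apply cj_eq_self_iff.2
    exact h.P_le_norm res_normal hq2
  have h2 : cj q Y = Y := by
    apply cj_eq_self_iff.2
    exact Subgroup.centralizer_le_normalizer _ (h.hyp.cent hq2)
  show Subgroup.map _ _ = _
  rw [Subgroup.map_commutator]
  show ⁅cj q (res p H), cj q Y⁆ = _
  rw [h1, h2]

/-- `[O^p(H), Y] = O^p(H)`. -/
theorem HH.comm_eq (h : HH p P Y H) : ⁅res p H, Y⁆ = res p H := by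
  apply le_antisymm
  · rw [Subgroup.commutator_le]
    intro r hr y hy
    have h1 : ⁅r, y⁆ = r * (y * r⁻¹ * y⁻¹) := by
      simp only [commutatorElement_def]
      group
    rw [h1]
    exact mul_mem hr (res_normal y (h.Y_le hy) _ (inv_mem hr))
  · apply res_le
    intro x hx hc
    have hY : IsPGroup p Y := h.hyp.pgroup.to_le h.hyp.le
    have hV : ncl H Y ≤ Y ⊔ ⁅res p H, Y⁆ := by
      apply ncl_le
      rintro z hz _ ⟨y, hy, rfl⟩
      have h1 : z * y * z⁻¹ = (z * y * z⁻¹ * y⁻¹) * y := by group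
      show z * y * z⁻¹ ∈ _
      rw [h1]
      exact mul_mem ((le_sup_right : _ ≤ Y ⊔ _) (h.comm_mem hz hy)) ((le_sup_left : Y ≤ _) hy)
    have hx2 : x ∈ Y ⊔ ⁅res p H, Y⁆ := hV (h.res_le_ncl (mem_res hx hc))
    exact mem_of_coprime_of_sup hY h.Y_le_norm_comm hx2 hc

/-- `O^p(H) Y` is the normal closure of `Y` in `H`. -/
theorem HH.ncl_Y_eq (h : HH p P Y H) : res p H ⊔ Y = ncl H Y := by
  apply le_antisymm
  · exact sup_le h.res_le_ncl (le_ncl H Y)
  · apply ncl_le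
    rintro z hz _ ⟨y, hy, rfl⟩
    have h1 : z * y * z⁻¹ = (z * y * z⁻¹ * y⁻¹) * y := by group
    show z * y * z⁻¹ ∈ _
    rw [h1]
    have h2 := h.comm_mem hz hy
    rw [h.comm_eq] at h2
    exact mul_mem ((le_sup_left : _ ≤ res p H ⊔ Y) h2) ((le_sup_right : Y ≤ _) hy)

end Cfsg.Agent.Lib.LocalY.FrakH2
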