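import Mathlib
import Cfsg.Agent.Lib.LocalY.FrakH2
import Cfsg.Agent.Lib.Basic.PCore

/-!
# `ℌ_G(O_p(M))`: extension by a normalized `p`-subgroup
-/

set_option autoImplicit false

namespace Cfsg.Agent.Lib.LocalY.FrakH3

open Cfsg Subgroup Cfsg.Agent.Lib.PGroup.WeaklyClosed Cfsg.Agent.Lib.PGroup.LargeSub
open Cfsg.Agent.Lib.LocalY.FrakM Cfsg.Agent.Lib.LocalY.Asym Cfsg.Agent.Lib.LocalY.FrakH
open Cfsg.Agent.Lib.LocalY.FrakH2
open Cfsg.Agent.Lib.LocalY.Kieler (conj_mem_pCoreOf)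

section general

variable {X : Type*} [Group X] [Finite X] {p : ℕ} [Fact p.Prime]

/-- Central-by-`p` modulo `O_p(X)`: then `O_p(X)` has index prime to `p`. -/
theorem not_dvd_index_pCore (A : Subgroup X) [hA : A.Normal]
    (hcomm : ∀ a ∈ A, ∀ x : X, x * a * x⁻¹ * a⁻¹ ∈ pCore p X) (hq : IsPGroup p (X ⧸ A)) :
    ¬ p ∣ (pCore p X).index := by
  haveI hOn : (pCore p X).Normal := Cfsg.Agent.Lib.Basic.PCore.pCore_normal p X
  set O : Subgroup X := pCore p X with hO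
  let W := X ⧸ O
  have hAbar : (A.map (QuotientGroup.mk' O)).Normal := hA.map _ (QuotientGroup.mk'_surjective O)
  have hcent : A.map (QuotientGroup.mk' O) ≤ center W := by
    rintro _ ⟨a, ha, rfl⟩
    rw [Subgroup.mem_center_iff]
    intro w
    obtain ⟨x, rfl⟩ := QuotientGroup.mk'_surjective O w
    have h1 := hcomm a ha x
    rw [← map_mul, ← map_mul]
    apply QuotientGroup.eq.mpr
    have h2 : (x * a)⁻¹ * (a * x) = (x * a)⁻¹ * (x * a * x⁻¹ * a⁻¹)⁻¹ * ((x * a)⁻¹)⁻¹ := by group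
    rw [h2]
    exact hOn.conj_mem _ (O.inv_mem h1) (x * a)⁻¹
  have hq2 : IsPGroup p (W ⧸ A.map (QuotientGroup.mk' O)) := by
    intro w
    obtain ⟨u, rfl⟩ := QuotientGroup.mk'_surjective _ w
    obtain ⟨x, rfl⟩ := QuotientGroup.mk'_surjective O u
    obtain ⟨k, hk⟩ := hq (x : X ⧸ A)
    refine ⟨k, ?_⟩
    rw [← map_pow, ← map_pow]
    have h1 : x ^ p ^ k ∈ A := by
      rw [← QuotientGroup.eq_one_iff, QuotientGroup.mk_pow]
      exact hk
    show ((QuotientGroup.mk' O (x ^ p ^ k) : W) : W ⧸ A.map (QuotientGroup.mk' O)) = 1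
    rw [QuotientGroup.eq_one_iff]
    exact ⟨_, h1, rfl⟩
  haveI hnil : Group.IsNilpotent W := by
    haveI : Group.IsNilpotent (W ⧸ A.map (QuotientGroup.mk' O)) := hq2.isNilpotent
    exact _root_.isNilpotent_of_ker_le_center (QuotientGroup.mk' (A.map (QuotientGroup.mk' O))) (by
      rw [QuotientGroup.ker_mk']
      exact hcent)
  obtain ⟨T⟩ : Nonempty (Sylow p W) := inferInstance
  have hTn : (T : Subgroup W).Normal := by
    have h1 := (Group.isNilpotent_of_finite_tfae (G := W)).out 0 3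
    exact h1.mp hnil p ‹Fact p.Prime› T
  have hT1 : (T : Subgroup W) ≤ pCore p W := Cfsg.Agent.Lib.Basic.PCore.le_pCore hTn T.isPGroup'
  have hTb : (T : Subgroup W) = ⊥ := by
    rw [le_bot_iff.mp (hT1.trans (le_of_eq Cfsg.Agent.Lib.Basic.PCore.pCore_quotient_eq_bot))]
  have h2 := T.not_dvd_index
  rw [hTb, Subgroup.index_bot] at h2
  rw [Subgroup.index_eq_card]
  exact h2

theorem isPClosed_of_pelts (T : Subgroup X) (hn : T.Normal) (hp : IsPGroup p T)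
    (h : ∀ x : X, ∀ k : ℕ, x ^ p ^ k = 1 → x ∈ T) : IsPClosed p X := by
  intro P
  have h1 : T ≤ (P : Subgroup X) := hp.le_sylow_of_normal P
  have h2 : (P : Subgroup X) ≤ T := by
    intro x hx
    obtain ⟨k, hk⟩ := P.isPGroup' ⟨x, hx⟩
    exact h x k (congrArg Subtype.val hk)
  rw [le_antisymm h2 h1]
  exact hn

end general

variable {G : Type*} [Group G] [Finite G] {p : ℕ} [Fact p.Prime]
variable {P Y H : Subgroup G}

theorem hyp_le_norm_of (h : Hyp p P Y) {A : Subgroup G} (hAp : IsPGroup p A)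
    (hPA : P ≤ normalizer (A : Set G)) : A ≤ normalizer (P : Set G) := by
  intro r hr
  have hp : IsPGroup p ↥(P ⊔ A) := IsPGroup.to_sup_of_normal_right' h.pgroup hAp hPA
  have h1 := h.weak (P ⊔ A) hp le_sup_left r (cj_le_of_mem ((le_sup_right : A ≤ P ⊔ A) hr) le_sup_left)
  exact cj_eq_self_iff.1 h1

/-- The key commutator: `[N₄, O^p(H)] ≤ O_p(N₄)` when `N₄ P < H`. -/
theorem hh_comm_res_of_lt (h : HH p P Y H) {N₄ : Subgroup G} (hN₄H : N₄ ≤ H)
    (hN₄n : ∀ x ∈ H, ∀ n ∈ N₄, x * n * x⁻¹ ∈ N₄) (hlt : N₄ ⊔ P ≠ H) :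
    ∀ r ∈ res p H, ∀ n ∈ N₄, n * r * n⁻¹ * r⁻¹ ∈ pCoreOf p N₄ := by
  set U : Subgroup G := pCoreOf p N₄ with hU
  have hUn : ∀ x ∈ H, ∀ u ∈ U, x * u * x⁻¹ ∈ U := conj_mem_pCoreOf_of_normal hN₄n
  have hX₀H : N₄ ⊔ P ≤ H := sup_le hN₄H h.le
  have hY₀ := h.min _ le_sup_right (lt_of_le_of_ne hX₀H hlt)
  have hYc : ∀ y ∈ Y, ∀ n ∈ N₄, n * y * n⁻¹ * y⁻¹ ∈ U := by
    intro y hy n hn
    have hyH : y ∈ H := h.Y_le hy
    apply inf_pCoreOf_le (X := N₄ ⊔ P) (K := N₄) (p := p) le_sup_left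
      (fun x hx k hk => hN₄n x (hX₀H hx) k hk)
    constructor
    · have h1 : n * y * n⁻¹ * y⁻¹ = (n * y * n⁻¹) * y⁻¹ := rfl
      rw [h1]
      exact (pCoreOf p (N₄ ⊔ P)).mul_mem (conj_mem_pCoreOf ((le_sup_left : N₄ ≤ N₄ ⊔ P) hn) (hY₀ hy))
        ((pCoreOf p (N₄ ⊔ P)).inv_mem (hY₀ hy))
    · have h1 : n * y * n⁻¹ * y⁻¹ = n * (y * n⁻¹ * y⁻¹) := by group
      rw [h1]
      exact N₄.mul_mem hn (hN₄n y hyH _ (N₄.inv_mem hn))
  -- the centralizer modulo `U`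
  let Ck : Subgroup G :=
    { carrier := {v | v ∈ H ∧ ∀ n ∈ N₄, n * v * n⁻¹ * v⁻¹ ∈ U}
      one_mem' := ⟨H.one_mem, fun n _ => by simp⟩
      mul_mem' := by
        rintro v w ⟨hv, hv2⟩ ⟨hw, hw2⟩
        refine ⟨H.mul_mem hv hw, fun n hn => ?_⟩
        have h1 : n * (v * w) * n⁻¹ * (v * w)⁻¹ =
            (n * v * n⁻¹ * v⁻¹) * (v * (n * w * n⁻¹ * w⁻¹) * v⁻¹) := by group
        rw [h1]
        exact mul_mem (hv2 n hn) (hUn v hv _ (hw2 n hn))
      inv_mem' := by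
        rintro v ⟨hv, hv2⟩
        refine ⟨H.inv_mem hv, fun n hn => ?_⟩
        have h1 : n * v⁻¹ * n⁻¹ * v⁻¹⁻¹ = v⁻¹ * (n * v * n⁻¹ * v⁻¹)⁻¹ * v⁻¹⁻¹ := by group
        rw [h1]
        exact hUn _ (H.inv_mem hv) _ (inv_mem (hv2 n hn)) }
  have hV : ncl H Y ≤ Ck := by
    apply ncl_le
    rintro x hx _ ⟨y, hy, rfl⟩
    refine ⟨H.mul_mem (H.mul_mem hx (h.Y_le hy)) (H.inv_mem hx), fun n hn => ?_⟩
    have h1 := hYc y hy (x⁻¹ * n * x) (by
      have h2 := hN₄n x⁻¹ (H.inv_mem hx) n hn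
      simpa using h2)
    have h2 := hUn x hx _ h1
    have h3 : n * (x * y * x⁻¹) * n⁻¹ * (x * y * x⁻¹)⁻¹ =
        x * (x⁻¹ * n * x * y * (x⁻¹ * n * x)⁻¹ * y⁻¹) * x⁻¹ := by group
    show n * (x * y * x⁻¹) * n⁻¹ * (x * y * x⁻¹)⁻¹ ∈ U
    rw [h3]
    exact h2
  intro r hr n hn
  exact (hV (h.res_le_ncl hr)).2 n hn

theorem hh_not_dvd_index (h : HH p P Y H) {N₄ : Subgroup G} (hN₄H : N₄ ≤ H)
    (hN₄n : ∀ x ∈ H, ∀ n ∈ N₄, x * n * x⁻¹ ∈ N₄) (hlt : N₄ ⊔ P ≠ H) :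
    ¬ p ∣ (pCore p ↥N₄).index := by
  have hc := hh_comm_res_of_lt h hN₄H hN₄n hlt
  haveI hA : ((res p H).subgroupOf N₄).Normal := by
    constructor
    rintro ⟨y, hyN⟩ hy ⟨g, hg⟩
    rw [Subgroup.mem_subgroupOf] at hy ⊢
    exact res_normal g (hN₄H hg) y hy
  apply not_dvd_index_pCore ((res p H).subgroupOf N₄)
  · intro a ha x
    have ha' : (a : G) ∈ res p H := Subgroup.mem_subgroupOf.mp ha
    obtain ⟨y, hy, e⟩ := hc _ ha' _ x.2
    have e2 : y = x * a * x⁻¹ * a⁻¹ := Subtype.ext e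
    rwa [← e2]
  · intro q
    obtain ⟨x, rfl⟩ := QuotientGroup.mk_surjective q
    obtain ⟨a, ha⟩ := Cfsg.Agent.Lib.LocalY.NoChar.exists_pow_coprime (p := p) (x : G)
    refine ⟨a, ?_⟩
    rw [← QuotientGroup.mk_pow, QuotientGroup.eq_one_iff, Subgroup.mem_subgroupOf]
    exact mem_res (H.pow_mem (hN₄H x.2) _) ha

/-- The extension of `H ∈ ℌ` by a `p`-subgroup `B` normalized by `H`. -/
theorem hh_sup_facts (h : HH p P Y H) {B : Subgroup G} (hBp : IsPGroup p B)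
    (hHB : H ≤ normalizer (B : Set G)) :
    B ≤ pCoreOf p (H ⊔ B) ∧ pCoreOf p (H ⊔ B) ≤ normalizer (P : Set G) ∧ (H.subgroupOf (H ⊔ B)).Normal ∧
      res p H = res p (H ⊔ B) ∧ IsPIrreducible p ↥(H ⊔ B) := by
  set E : Subgroup G := H ⊔ B with hE
  have hEB : E ≤ normalizer (B : Set G) := sup_le hHB Subgroup.le_normalizer
  have hHE : H ≤ E := le_sup_left
  have hBE : B ≤ E := le_sup_right
  have hPE : P ≤ E := h.le.trans hHE
  have h1 : B ≤ pCoreOf p E :=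
    le_pCoreOf hBE hBp (fun x hx u hu => (mem_normalizer_iff.mp (hEB hx) u).mp hu)
  have h2 : pCoreOf p E ≤ normalizer (P : Set G) :=
    hyp_le_norm_of h.hyp (isPGroup_pCoreOf E) (fun q hq =>
      mem_normalizer_of_forall (fun a ha b hb => conj_mem_pCoreOf ha hb) (hPE hq))
  have hBP : B ≤ normalizer (P : Set G) := h1.trans h2
  -- `B` normalizes `H`
  have hBH : ∀ q ∈ B, ∀ x ∈ H, q * x * q⁻¹ ∈ H := by
    intro q hq x hx
    have h3 : cj q (ncl H P) ≤ ncl H P := by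
      show Subgroup.map _ _ ≤ _
      unfold ncl
      rw [Subgroup.map_iSup]
      apply iSup_le
      intro y
      have h4 : (y : G)⁻¹ * q * y ∈ B := by
        have h5 := (mem_normalizer_iff.mp (hHB (H.inv_mem y.2)) q).mp hq
        simpa using h5
      have h5 : cj q (cj (y : G) P) = cj (y : G) P := by
        have h6 : q * (y : G) = (y : G) * ((y : G)⁻¹ * q * y) := by group
        rw [← cj_mul, h6, cj_mul, cj_eq_self_iff.2 (hBP h4)]
      show cj q (cj (y : G) P) ≤ _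
      rw [h5]
      exact cj_le_ncl P y.2
    rw [h.ncl_P] at h3
    exact h3 (conj_mem_cj hx)
  have hEH : ∀ e ∈ E, ∀ x ∈ H, e * x * e⁻¹ ∈ H := by
    intro e he x hx
    have hHN : H ≤ normalizer (B : Set G) := hHB
    obtain ⟨a, ha, q, hq, rfl⟩ := exists_mul_of_mem_sup hHN he
    have h3 : a * q * x * (a * q)⁻¹ = a * (q * x * q⁻¹) * a⁻¹ := by group
    rw [h3]
    exact H.mul_mem (H.mul_mem ha (hBH q hq x hx)) (H.inv_mem ha)
  have hHnorm : (H.subgroupOf E).Normal := by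
    constructor
    rintro ⟨y, hyE⟩ hy ⟨g, hg⟩
    rw [Subgroup.mem_subgroupOf] at hy ⊢
    exact hEH g hg y hy
  have hBNH : B ≤ normalizer (H : Set G) := fun q hq =>
    mem_normalizer_of_forall (A := E) hEH (hBE hq)
  have hmemH : ∀ x ∈ E, (orderOf x).Coprime p → x ∈ H := by
    intro x hx hc
    have hx2 : x ∈ B ⊔ H := by
      rw [sup_comm]
      exact hx
    exact mem_of_coprime_of_sup hBp hBNH hx2 hc
  have h3 : res p H = res p E := by
    apply le_antisymm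
    · exact res_le (fun x hx hc => mem_res (hHE hx) hc)
    · exact res_le (fun x hx hc => mem_res (hmemH x hx hc) hc)
  refine ⟨h1, h2, hHnorm, h3, ?_, ?_⟩
  · -- `E` is not `p`-closed
    intro hcl
    have hpP : IsPGroup p (P.subgroupOf E) := h.hyp.pgroup.comap_subtype
    obtain ⟨T, hT⟩ := hpP.exists_le_sylow
    have hTn := hcl T
    apply h.not_le
    have h4 : (T : Subgroup ↥E).map E.subtype ⊓ H ≤ pCoreOf p H := by
      apply le_pCoreOf inf_le_right ((T.isPGroup'.map E.subtype).to_le inf_le_left)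
      rintro l hl u ⟨⟨t, ht, e⟩, hu2⟩
      refine ⟨⟨_, hTn.conj_mem t ht ⟨l, hHE hl⟩, ?_⟩, H.mul_mem (H.mul_mem hl hu2) (H.inv_mem hl)⟩
      show l * (t : G) * l⁻¹ = l * u * l⁻¹
      rw [show (t : G) = u from e]
    intro y hy
    apply h4
    refine ⟨⟨⟨y, hPE (h.hyp.le hy)⟩, hT (Subgroup.mem_subgroupOf.mpr (h.hyp.le hy)), rfl⟩, h.Y_le hy⟩
  · intro N hN hNcl
    set N' : Subgroup G := N.map E.subtype with hN'
    have hN'E : N' ≤ E := Subgroup.map_subtype_le _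
    have hEN' : ∀ e ∈ E, ∀ n ∈ N', e * n * e⁻¹ ∈ N' := by
      rintro e he _ ⟨n, hn, rfl⟩
      exact ⟨⟨e, he⟩ * n * (⟨e, he⟩ : ↥E)⁻¹, hN.conj_mem n hn _, rfl⟩
    have hBN' : B ≤ normalizer (N' : Set G) := fun q hq =>
      mem_normalizer_of_forall (A := E) hEN' (hBE hq)
    have hN'B : N' ≤ normalizer (B : Set G) := hN'E.trans hEB
    set N₃ : Subgroup G := N' ⊔ B with hN₃
    have hN₃E : N₃ ≤ E := sup_le hN'E hBE
    have hEN₃ : ∀ e ∈ E, ∀ n ∈ N₃, e * n * e⁻¹ ∈ N₃ := by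
      intro e he n hn
      obtain ⟨a, ha, b, hb, rfl⟩ := exists_mul_of_mem_sup hN'B hn
      have h5 : e * (a * b) * e⁻¹ = (e * a * e⁻¹) * (e * b * e⁻¹) := by group
      rw [h5]
      exact mul_mem ((le_sup_left : N' ≤ N₃) (hEN' e he a ha))
        ((le_sup_right : B ≤ N₃) ((mem_normalizer_iff.mp (hEB he) b).mp hb))
    set N₄ : Subgroup G := N₃ ⊓ H with hN₄
    have hN₄H : N₄ ≤ H := inf_le_right
    have hEN₄ : ∀ e ∈ E, ∀ n ∈ N₄, e * n * e⁻¹ ∈ N₄ := fun e he n hn =>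
      ⟨hEN₃ e he n hn.1, hEH e he n hn.2⟩
    have hHN₄ : ∀ x ∈ H, ∀ n ∈ N₄, x * n * x⁻¹ ∈ N₄ := fun x hx n hn => hEN₄ x (hHE hx) n hn
    by_cases hcase : N₄ ⊔ P = H
    · -- `O^p(E) ≤ N`
      have hresN : res p H ≤ N' := by
        apply res_le
        intro x hx hc
        have hx2 : x ∈ P ⊔ N₄ := by
          rw [sup_comm, hcase]
          exact hx
        have hx3 : x ∈ N₄ := mem_of_coprime_of_sup h.hyp.pgroup (h.P_le_norm hHN₄) hx2 hc
        have hx4 : x ∈ B ⊔ N' := by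
          rw [sup_comm]
          exact hx3.1
        exact mem_of_coprime_of_sup hBp hBN' hx4 hc
      intro z hz
      have hz2 : (z : G) ∈ res p E := ⟨z, hz, rfl⟩
      rw [← h3] at hz2
      obtain ⟨y, hy, e⟩ := hresN hz2
      have e2 : y = z := Subtype.ext e
      rwa [← e2]
    · exfalso
      apply hNcl
      have hidx := hh_not_dvd_index h hN₄H hHN₄ hcase
      set U : Subgroup G := pCoreOf p N₄ with hU
      have hUp : IsPGroup p U := isPGroup_pCoreOf N₄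
      have hUN₄ : U ≤ N₄ := pCoreOf_le N₄
      have hEU : ∀ e ∈ E, ∀ u ∈ U, e * u * e⁻¹ ∈ U := conj_mem_pCoreOf_of_normal hEN₄
      have hBU : B ≤ normalizer (U : Set G) := fun q hq =>
        mem_normalizer_of_forall (A := E) hEU (hBE hq)
      have hUNB : U ≤ normalizer (B : Set G) := hUN₄.trans (hN₄H.trans hHB)
      set T₃ : Subgroup G := U ⊔ B with hT₃
      have hT₃p : IsPGroup p T₃ := IsPGroup.to_sup_of_normal_right' hUp hBp hUNB
      have hET₃ : ∀ e ∈ E, ∀ t ∈ T₃, e * t * e⁻¹ ∈ T₃ := by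
        intro e he t ht
        obtain ⟨a, ha, b, hb, rfl⟩ := exists_mul_of_mem_sup hUNB ht
        have h5 : e * (a * b) * e⁻¹ = (e * a * e⁻¹) * (e * b * e⁻¹) := by group
        rw [h5]
        exact mul_mem ((le_sup_left : U ≤ T₃) (hEU e he a ha))
          ((le_sup_right : B ≤ T₃) ((mem_normalizer_iff.mp (hEB he) b).mp hb))
      have hBN₄U : B ⊓ N₄ ≤ U := by
        apply le_pCoreOf inf_le_right (hBp.to_le inf_le_left)
        intro l hl u hu
        exact ⟨(mem_normalizer_iff.mp (hEB (hHE (hN₄H hl))) u).mp hu.1, N₄.mul_mem (N₄.mul_mem hl hu.2) (N₄.inv_mem hl)⟩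
      -- `p`-elements of `N'` lie in `T₃`
      have hpelt : ∀ x ∈ N', ∀ k : ℕ, x ^ p ^ k = 1 → x ∈ T₃ := by
        intro x hx k hk
        obtain ⟨a, ha, q, hq, e⟩ := exists_mul_of_mem_sup hHB (hN'E hx)
        have haN₄ : a ∈ N₄ := by
          refine ⟨?_, ha⟩
          have h5 : a = x * q⁻¹ := by rw [e]; group
          rw [h5]
          exact mul_mem ((le_sup_left : N' ≤ N₃) hx) ((le_sup_right : B ≤ N₃) (inv_mem hq))
        obtain ⟨q', hq', e'⟩ := mul_pow_mem (hHB ha) hq (p ^ k)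
        rw [e, e'] at hk
        have h5 : a ^ p ^ k = q'⁻¹ := eq_inv_of_mul_eq_one_left hk
        have h6 : a ^ p ^ k ∈ U := by
          apply hBN₄U
          refine ⟨?_, N₄.pow_mem haN₄ _⟩
          rw [h5]
          exact B.inv_mem hq'
        -- the index
        have hOn : (pCore p ↥N₄).Normal := Cfsg.Agent.Lib.Basic.PCore.pCore_normal p _
        have h7 : ((⟨a, haN₄⟩ : ↥N₄)) ^ (pCore p ↥N₄).index ∈ pCore p ↥N₄ :=
          Subgroup.pow_index_mem _ _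
        have h8 : a ^ (pCore p ↥N₄).index ∈ U := ⟨_, h7, rfl⟩
        have hcop : (p ^ k).Coprime (pCore p ↥N₄).index := by
          apply Nat.Coprime.pow_left
          exact (Nat.Prime.coprime_iff_not_dvd Fact.out).mpr hidx
        have haU : a ∈ U := Cfsg.Agent.Lib.LocalY.Basic.mem_of_pow_mem_of_coprime h6 h8 hcop
        rw [e]
        exact mul_mem ((le_sup_left : U ≤ T₃) haU) ((le_sup_right : B ≤ T₃) hq)
      -- conclusion
      apply isPClosed_of_pelts (T₃.comap (E.subtype.comp N.subtype))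
      · constructor
        intro t ht g
        show ((g : ↥E) : G) * ((t : ↥E) : G) * ((g : ↥E) : G)⁻¹ ∈ T₃
        exact hET₃ _ (g : ↥E).2 _ ht
      · have hinj : Function.Injective (E.subtype.comp N.subtype) :=
          E.subtype_injective.comp N.subtype_injective
        exact IsPGroup.comap_of_injective hT₃p _ hinj
      · intro x k hk
        apply hpelt _ ⟨x, x.2, rfl⟩ k
        have h5 := congrArg (fun z : ↥N => ((z : ↥E) : G)) hk
        simpa using h5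

end Cfsg.Agent.Lib.LocalY.FrakH3
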