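import Mathlib
import Cfsg.Agent.Lib.PGroup.WeaklyClosed
import Cfsg.Agent.Lib.Basic.PCore
import Cfsg.Agent.Lib.LocalY.FrakM

/-! Fixed points of elements on `O_p(L)/C` for `L ∈ 𝔏(Y)`: the setup in the quotient by `C`, and the
argument by involutions. -/

set_option autoImplicit false

namespace Cfsg.Agent.Lib.LocalY.FrakL

open Subgroup Cfsg.Agent.Lib.PGroup.WeaklyClosed

section setup

variable {Q H : Type*} [Group Q] [Group H]

/-- The data in the quotient by `C`: `V` is the abelian kernel of `π`; for `g` outside the preimage of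
the normalizer of `U = π(Y)`, `V` is the direct product of `W = Y ∩ V` and its conjugate by `g`. -/
structure Setup (π : Q →* H) (Y V : Subgroup Q) : Prop where
  surj : Function.Surjective π
  ker : π.ker = V
  comm : ∀ a ∈ V, ∀ b ∈ V, a * b = b * a
  Ycomm : ∀ a ∈ Y, ∀ b ∈ Y, a * b = b * a
  Ybr : ∀ y ∈ Y, ∀ v ∈ V, y * v * y⁻¹ * v⁻¹ ∈ Y
  norm : ∀ g, cj (π g) (Y.map π) = Y.map π → cj g Y = Y
  ti : ∀ g, cj (π g) (Y.map π) ≠ Y.map π → ∀ x ∈ Y ⊓ V, x ∈ cj g (Y ⊓ V) → x = 1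
  sum : ∀ g, cj (π g) (Y.map π) ≠ Y.map π → ∀ v ∈ V, ∃ w ∈ Y ⊓ V, ∃ z ∈ cj g (Y ⊓ V), v = w * z

variable {π : Q →* H} {Y V : Subgroup Q}

namespace Setup

variable (S : Setup π Y V)
include S

theorem mem_V {v : Q} : v ∈ V ↔ π v = 1 := by
  rw [← S.ker, MonoidHom.mem_ker]

theorem conj_mem_V (g : Q) {v : Q} (hv : v ∈ V) : g * v * g⁻¹ ∈ V := by
  rw [S.mem_V] at hv ⊢
  simp [hv]

theorem act_eq {x x' v : Q} (h : π x = π x') (hv : v ∈ V) : x * v * x⁻¹ = x' * v * x'⁻¹ := by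
  have he : x'⁻¹ * x ∈ V := by
    rw [S.mem_V, map_mul, map_inv, h, inv_mul_cancel]
  have h1 := S.comm _ he _ hv
  have h2 : x = x' * (x'⁻¹ * x) := by group
  calc x * v * x⁻¹ = x' * ((x'⁻¹ * x) * v) * x⁻¹ := by group
    _ = x' * (v * (x'⁻¹ * x)) * x⁻¹ := by rw [h1]
    _ = x' * v * x'⁻¹ := by group

/-- Any element over `U` centralizes `W`. -/
theorem cent {x w : Q} (hx : π x ∈ Y.map π) (hw : w ∈ Y ⊓ V) : x * w * x⁻¹ = w := by
  obtain ⟨y, hy, hyx⟩ := hx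
  have h1 := S.act_eq (x := x) (x' := y) hyx.symm hw.2
  rw [h1, S.Ycomm _ hy _ hw.1]
  group

/-- Any element over `U` acts on `V` with commutators in `W`. -/
theorem br {x v : Q} (hx : π x ∈ Y.map π) (hv : v ∈ V) : x * v * x⁻¹ * v⁻¹ ∈ Y ⊓ V := by
  obtain ⟨y, hy, hyx⟩ := hx
  have h1 := S.act_eq (x := x) (x' := y) hyx.symm hv
  rw [h1]
  exact ⟨S.Ybr y hy v hv, V.mul_mem (S.conj_mem_V y hv) (V.inv_mem hv)⟩

/-- Conjugated form of `cent`. -/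
theorem cent' {g x w : Q} (hx : π (g⁻¹ * x * g) ∈ Y.map π) (hw : w ∈ cj g (Y ⊓ V)) :
    x * w * x⁻¹ = w := by
  rw [mem_cj] at hw
  have h1 := S.cent hx hw
  have h2 : g⁻¹ * (x * w * x⁻¹) * g = g⁻¹ * w * g := by
    rw [← h1]
    group
  exact mul_left_cancel (mul_right_cancel h2)

/-- Conjugated form of `br`. -/
theorem br' {g x v : Q} (hx : π (g⁻¹ * x * g) ∈ Y.map π) (hv : v ∈ V) :
    x * v * x⁻¹ * v⁻¹ ∈ cj g (Y ⊓ V) := by
  rw [mem_cj]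
  have h1 := S.br hx (S.conj_mem_V g⁻¹ hv)
  have h2 : g⁻¹ * (x * v * x⁻¹ * v⁻¹) * g =
      (g⁻¹ * x * g) * (g⁻¹ * v * g⁻¹⁻¹) * (g⁻¹ * x * g)⁻¹ * (g⁻¹ * v * g⁻¹⁻¹)⁻¹ := by group
  rw [h2]
  exact h1

theorem W_le : Y ⊓ V ≤ V := inf_le_right

/-- Conjugates of `W` lie in `V`. -/
theorem cj_W_le (g : Q) : cj g (Y ⊓ V) ≤ V := by
  rintro _ ⟨w, hw, rfl⟩
  exact S.conj_mem_V g hw.2

/-- `W` depends only on `Y`. -/
theorem cj_W_eq {g : Q} (hg : cj (π g) (Y.map π) = Y.map π) : cj g (Y ⊓ V) = Y ⊓ V := by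
  have h1 := S.norm g hg
  ext x
  rw [mem_cj, mem_inf, mem_inf]
  constructor
  · rintro ⟨h2, h3⟩
    refine ⟨?_, ?_⟩
    · have h4 : x ∈ cj g Y := mem_cj.2 h2
      rwa [h1] at h4
    · have := S.conj_mem_V g h3
      simpa [mul_assoc] using this
  · rintro ⟨h2, h3⟩
    refine ⟨?_, ?_⟩
    · rw [← h1] at h2
      exact mem_cj.1 h2
    · have := S.conj_mem_V g⁻¹ h3
      simpa [mul_assoc] using this

theorem cj_map (g : Q) (A : Subgroup Q) : cj (π g) (A.map π) = (cj g A).map π := by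
  ext x
  simp only [Subgroup.mem_map, MonoidHom.coe_coe]
  constructor
  · rintro ⟨_, ⟨a, ha, rfl⟩, rfl⟩
    refine ⟨g * a * g⁻¹, conj_mem_cj ha, ?_⟩
    simp [MulAut.conj_apply]
  · rintro ⟨_, ⟨a, ha, rfl⟩, rfl⟩
    refine ⟨π a, ⟨a, ha, rfl⟩, ?_⟩
    simp [MulAut.conj_apply]

/-- Two conjugates of `W` over distinct conjugates of `U`. -/
theorem pair_ti {g₁ g₂ : Q} (h : cj (π (g₁⁻¹ * g₂)) (Y.map π) ≠ Y.map π) {x : Q}
    (h1 : x ∈ cj g₁ (Y ⊓ V)) (h2 : x ∈ cj g₂ (Y ⊓ V)) : x = 1 := by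
  rw [mem_cj] at h1
  have h3 : g₁⁻¹ * x * g₁ ∈ cj (g₁⁻¹ * g₂) (Y ⊓ V) := by
    rw [mem_cj] at h2 ⊢
    have : (g₁⁻¹ * g₂)⁻¹ * (g₁⁻¹ * x * g₁) * (g₁⁻¹ * g₂) = g₂⁻¹ * x * g₂ := by group
    rw [this]
    exact h2
  have h4 := S.ti _ h _ h1 h3
  have h5 : x = g₁ * (g₁⁻¹ * x * g₁) * g₁⁻¹ := by group
  rw [h5, h4]
  group

theorem pair_sum {g₁ g₂ : Q} (h : cj (π (g₁⁻¹ * g₂)) (Y.map π) ≠ Y.map π) {v : Q} (hv : v ∈ V) :
    ∃ w ∈ cj g₁ (Y ⊓ V), ∃ z ∈ cj g₂ (Y ⊓ V), v = w * z := by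
  obtain ⟨w, hw, z, hz, he⟩ := S.sum _ h _ (S.conj_mem_V g₁⁻¹ hv)
  refine ⟨g₁ * w * g₁⁻¹, conj_mem_cj hw, g₁ * z * g₁⁻¹, ?_, ?_⟩
  · rw [mem_cj] at hz ⊢
    have : g₂⁻¹ * (g₁ * z * g₁⁻¹) * g₂ = (g₁⁻¹ * g₂)⁻¹ * z * (g₁⁻¹ * g₂) := by group
    rw [this]
    exact hz
  · have h2 : g₁ * (w * z) * g₁⁻¹ = g₁ * w * g₁⁻¹ * (g₁ * z * g₁⁻¹) := by group
    rw [← h2, ← he]
    group

end Setup

/-- The properties of the image of `Y` used in the argument by involutions. -/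
structure BHyp (U : Subgroup H) : Prop where
  pow : ∀ u ∈ U, u ^ 2 = 1
  ti : ∀ g t, t ≠ 1 → t ∈ U → t ∈ cj g U → cj g U = U
  inv : ∀ t : H, t ≠ 1 → t ^ 2 = 1 → ∃ g, t ∈ cj g U
  real : ∀ x : H, x ≠ 1 → Odd (orderOf x) → ∃ t : H, t ^ 2 = 1 ∧ t * x * t⁻¹ = x⁻¹

theorem conj_fix_pow {x v : Q} (hx : x * v * x⁻¹ = v) (k : ℕ) : x ^ k * v * (x ^ k)⁻¹ = v := by
  have h1 : Commute x v := by
    have : x * v = v * x := by
      calc x * v = x * v * x⁻¹ * x := by group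
        _ = v * x := by rw [hx]
    exact this
  have h2 := (h1.pow_left k).eq
  rw [h2]
  group

theorem b_fpf_odd (S : Setup π Y V) (hB : BHyp (Y.map π)) {x v : Q} (hv : v ∈ V)
    (hx : x * v * x⁻¹ = v) (h1 : π x ≠ 1) (hodd : Odd (orderOf (π x))) : v = 1 := by
  set xb := π x with hxb
  set U := Y.map π with hU
  have hsq : xb ^ 2 ≠ 1 := by
    intro h
    have h2 := orderOf_dvd_of_pow_eq_one h
    have h3 : orderOf xb = 1 := by
      rcases (Nat.dvd_prime Nat.prime_two).mp h2 with h4 | h4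
      · exact h4
      · rw [h4] at hodd
        exact absurd hodd (by decide)
    exact h1 (orderOf_eq_one_iff.mp h3)
  obtain ⟨t, ht2, htx⟩ := hB.real xb h1 hodd
  have htinv : t⁻¹ = t := by
    rw [inv_eq_iff_mul_eq_one, ← pow_two, ht2]
  have ht1 : t ≠ 1 := by
    rintro rfl
    apply hsq
    simp only [one_mul, inv_one, mul_one] at htx
    rw [pow_two]
    nth_rw 1 [htx]
    group
  have htxt : t * xb * t = xb⁻¹ := by
    rw [← htx, htinv]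
  set t₂ := t * xb with ht₂
  have ht₂2 : t₂ ^ 2 = 1 := by
    rw [pow_two, ht₂]
    calc t * xb * (t * xb) = (t * xb * t) * xb := by group
      _ = 1 := by rw [htxt]; group
  have ht₂1 : t₂ ≠ 1 := by
    intro h
    apply hsq
    have h2 : xb = t := by
      have : t * xb = t * t := by
        rw [← ht₂, h, ← pow_two, ht2]
      exact mul_left_cancel this
    rw [h2, ht2]
  obtain ⟨k₁, hk₁⟩ := hB.inv t ht1 ht2
  obtain ⟨k₂, hk₂⟩ := hB.inv t₂ ht₂1 ht₂2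
  obtain ⟨g₁, rfl⟩ := S.surj k₁
  obtain ⟨g₂, rfl⟩ := S.surj k₂
  have hpow : ∀ k, ∀ u ∈ cj k U, u ^ 2 = 1 := by
    rintro k _ ⟨u, hu, rfl⟩
    have := hB.pow u hu
    simp only [MulEquiv.coe_toMonoidHom, MulAut.conj_apply]
    rw [conj_pow, this]
    group
  have hne : cj (π (g₁⁻¹ * g₂)) U ≠ U := by
    intro h
    have h2 : cj (π g₂) U = cj (π g₁) U := by
      have h3 : π g₂ = π g₁ * π (g₁⁻¹ * g₂) := by
        rw [← map_mul]
        congr 1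
        group
      rw [h3, cj_mul, h]
    rw [h2] at hk₂
    have h3 : xb ∈ cj (π g₁) U := by
      have h4 : xb = t⁻¹ * t₂ := by
        rw [ht₂]
        group
      rw [h4]
      exact (cj (π g₁) U).mul_mem ((cj (π g₁) U).inv_mem hk₁) hk₂
    exact hsq (hpow _ _ h3)
  obtain ⟨y₁, hy₁⟩ := S.surj t
  obtain ⟨y₂, hy₂⟩ := S.surj t₂
  have hπ : π x = π (y₁ * y₂) := by
    rw [map_mul, hy₁, hy₂, ht₂, ← hxb, ← mul_assoc, ← pow_two, ht2, one_mul]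
  have hact : y₁ * y₂ * v * (y₁ * y₂)⁻¹ = v := by
    rw [← S.act_eq hπ hv, hx]
  have hU1 : π (g₁⁻¹ * y₁ * g₁) ∈ U := by
    have := mem_cj.1 hk₁
    simpa [hy₁] using this
  have hU2 : π (g₂⁻¹ * y₂ * g₂) ∈ U := by
    have := mem_cj.1 hk₂
    simpa [hy₂] using this
  have hU1' : π (g₁⁻¹ * y₁⁻¹ * g₁) ∈ U := by
    have h3 := U.inv_mem hU1
    have h4 : g₁⁻¹ * y₁⁻¹ * g₁ = (g₁⁻¹ * y₁ * g₁)⁻¹ := by group
    rw [h4, map_inv]
    exact h3
  obtain ⟨w₁, hw₁, w₂, hw₂, he⟩ := S.pair_sum hne hv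
  have hw₁V := S.cj_W_le g₁ hw₁
  have hw₂V := S.cj_W_le g₂ hw₂
  set a₂ := y₂ * w₁ * y₂⁻¹ * w₁⁻¹ with ha₂
  set a₁ := y₁⁻¹ * w₂ * y₁⁻¹⁻¹ * w₂⁻¹ with ha₁
  have ha₂m : a₂ ∈ cj g₂ (Y ⊓ V) := S.br' hU2 hw₁V
  have ha₁m : a₁ ∈ cj g₁ (Y ⊓ V) := S.br' hU1' hw₂V
  have ha₁V := S.cj_W_le g₁ ha₁m
  have c₁ : y₁ * w₁ * y₁⁻¹ = w₁ := S.cent' hU1 hw₁
  have c₂ : y₂ * w₂ * y₂⁻¹ = w₂ := S.cent' hU2 hw₂
  have hL : y₂ * v * y₂⁻¹ = a₂ * w₁ * w₂ := by
    have h3 : y₂ * (w₁ * w₂) * y₂⁻¹ = (y₂ * w₁ * y₂⁻¹) * (y₂ * w₂ * y₂⁻¹) := by group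
    rw [he, h3, c₂, ha₂]
    group
  have c₁' : y₁⁻¹ * w₁ * y₁ = w₁ := by
    calc y₁⁻¹ * w₁ * y₁ = y₁⁻¹ * (y₁ * w₁ * y₁⁻¹) * y₁ := by rw [c₁]
      _ = w₁ := by group
  have hR : y₁⁻¹ * v * y₁ = w₁ * (a₁ * w₂) := by
    have h3 : y₁⁻¹ * (w₁ * w₂) * y₁ = (y₁⁻¹ * w₁ * y₁) * (y₁⁻¹ * w₂ * y₁) := by group
    rw [he, h3, c₁', ha₁]
    group
  have hLR : y₂ * v * y₂⁻¹ = y₁⁻¹ * v * y₁ := by
    nth_rw 2 [← hact]
    group
  rw [hL, hR] at hLR
  have haeq : a₂ = a₁ := by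
    have h3 : a₂ * w₁ = w₁ * a₁ := by
      have : a₂ * w₁ * w₂ = w₁ * a₁ * w₂ := by
        rw [hLR]
        group
      exact mul_right_cancel this
    rw [S.comm _ hw₁V _ ha₁V] at h3
    exact mul_right_cancel h3
  have ha1 : a₁ = 1 := S.pair_ti hne ha₁m (haeq ▸ ha₂m)
  have ha2 : a₂ = 1 := haeq.trans ha1
  have d₁ : y₂ * w₁ * y₂⁻¹ = w₁ := by
    rw [ha₂, mul_inv_eq_one] at ha2
    exact ha2
  have d₂ : y₁ * w₂ * y₁⁻¹ = w₂ := by
    rw [ha₁, mul_inv_eq_one] at ha1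
    calc y₁ * w₂ * y₁⁻¹ = y₁ * (y₁⁻¹ * w₂ * y₁⁻¹⁻¹) * y₁⁻¹ := by rw [ha1]
      _ = w₂ := by group
  have hc₁ : x * w₁ * x⁻¹ = w₁ := by
    rw [S.act_eq hπ hw₁V]
    calc y₁ * y₂ * w₁ * (y₁ * y₂)⁻¹ = y₁ * (y₂ * w₁ * y₂⁻¹) * y₁⁻¹ := by group
      _ = w₁ := by rw [d₁, c₁]
  have hc₂ : x * w₂ * x⁻¹ = w₂ := by
    rw [S.act_eq hπ hw₂V]
    calc y₁ * y₂ * w₂ * (y₁ * y₂)⁻¹ = y₁ * (y₂ * w₂ * y₂⁻¹) * y₁⁻¹ := by group
      _ = w₂ := by rw [c₂, d₂]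
  obtain ⟨k, hk⟩ := hodd
  set c := x ^ k with hc
  have hc1 : c * w₁ * c⁻¹ = w₁ := conj_fix_pow hc₁ k
  have hc2 : c * w₂ * c⁻¹ = w₂ := conj_fix_pow hc₂ k
  have hcb : π c = xb ^ k := by
    rw [hc, map_pow]
  set cb := π c with hcbdef
  have hpow1 : xb ^ (2 * k + 1) = 1 := by
    rw [← hk]
    exact pow_orderOf_eq_one xb
  have htc : t * cb * t⁻¹ = cb⁻¹ := by
    rw [hcb, ← conj_pow, htx, inv_pow]
  have htc' : t * cb⁻¹ * t⁻¹ = cb := by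
    have : t * cb⁻¹ * t⁻¹ = (t * cb * t⁻¹)⁻¹ := by group
    rw [this, htc, inv_inv]
  have hcc : cb * cb = xb⁻¹ := by
    rw [hcb, ← pow_add, ← two_mul]
    rw [pow_succ] at hpow1
    exact eq_inv_of_mul_eq_one_left hpow1
  have hconj : cb * t * cb⁻¹ = t₂ := by
    calc cb * t * cb⁻¹ = cb * (t * cb⁻¹ * t⁻¹) * t := by group
      _ = xb⁻¹ * t := by rw [htc', hcc]
      _ = (t * xb * t⁻¹) * t := by rw [htx]
      _ = t₂ := by rw [ht₂]; group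
  have hgT : cj (π (g₂⁻¹ * c * g₁)) U = U := by
    have hτ : (π g₂)⁻¹ * t₂ * π g₂ ∈ U := mem_cj.1 hk₂
    apply hB.ti _ ((π g₂)⁻¹ * t₂ * π g₂) _ hτ
    · rw [mem_cj]
      have h5 : (π (g₂⁻¹ * c * g₁))⁻¹ * ((π g₂)⁻¹ * t₂ * π g₂) * π (g₂⁻¹ * c * g₁) =
          (π g₁)⁻¹ * t * π g₁ := by
        simp only [map_mul, map_inv, ← hcbdef, ← hconj]
        group
      rw [h5]
      exact mem_cj.1 hk₁
    · intro h
      apply ht₂1
      have : t₂ = π g₂ * ((π g₂)⁻¹ * t₂ * π g₂) * (π g₂)⁻¹ := by group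
      rw [this, h]
      group
  have hWc : cj c (cj g₁ (Y ⊓ V)) = cj g₂ (Y ⊓ V) := by
    have h5 := S.cj_W_eq hgT
    have h6 : c * g₁ = g₂ * (g₂⁻¹ * c * g₁) := by group
    rw [← cj_mul, h6, cj_mul, h5]
  have hw₁2 : w₁ ∈ cj g₂ (Y ⊓ V) := by
    rw [← hWc, ← hc1]
    exact conj_mem_cj hw₁
  have hw₂1 : w₂ ∈ cj g₁ (Y ⊓ V) := by
    rw [← hWc, mem_cj] at hw₂
    have : c⁻¹ * w₂ * c = w₂ := by
      nth_rw 1 [← hc2]
      group
    rwa [this] at hw₂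
  have e1 : w₁ = 1 := S.pair_ti hne hw₁ hw₁2
  have e2 : w₂ = 1 := S.pair_ti hne hw₂1 hw₂
  rw [he, e1, e2, one_mul]

theorem b_fpf [Finite H] (S : Setup π Y V) (hB : BHyp (Y.map π)) {x v : Q} (hv : v ∈ V)
    (hx : x * v * x⁻¹ = v) : (∃ k, π x ^ 2 ^ k = 1) ∨ v = 1 := by
  by_cases hk : ∃ k, π x ^ 2 ^ k = 1
  · exact Or.inl hk
  right
  push Not at hk
  have hn0 : orderOf (π x) ≠ 0 := (orderOf_pos _).ne'
  obtain ⟨a, b, hb, hab⟩ := Nat.exists_eq_two_pow_mul_odd hn0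
  have h1 : π (x ^ 2 ^ a) ≠ 1 := by
    rw [map_pow]
    exact hk a
  have h2 : orderOf (π (x ^ 2 ^ a)) = b := by
    rw [map_pow, orderOf_pow_of_dvd (pow_ne_zero _ two_ne_zero) ⟨b, hab⟩, hab]
    exact Nat.mul_div_cancel_left _ (pow_pos two_pos _)
  exact b_fpf_odd S hB hv (conj_fix_pow hx _) h1 (h2 ▸ hb)

end setup

section quot

variable {L H : Type*} [Group L] [Finite L] [Group H] {p : ℕ} [Fact p.Prime]

/-- What is used about `L ∈ 𝔏(Y)`, `ψ` being the map onto `L / O_p(L)`. -/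
structure LHyp (p : ℕ) [Fact p.Prime] (Y : Subgroup L) (ψ : L →* H) : Prop where
  surj : Function.Surjective ψ
  ker : ψ.ker = pCore p L
  comm : ∀ a ∈ Y, ∀ b ∈ Y, a * b = b * a
  pow : ∀ y ∈ Y, y ^ p = 1
  cl : pCore p L = normalClosure ((Y ⊓ pCore p L : Subgroup L) : Set L)
  AN : pCore p L ≤ normalizer (Y : Set L)
  max : ∀ X : Subgroup L, Y ≤ X → X ≠ ⊤ → X ≤ normalizer (Y : Set L)
  ne : ∃ k, cj k (Y.map ψ) ≠ Y.map ψ
  weak : ∀ k, cj k (Y.map ψ) ≤ normalizer ((Y.map ψ : Subgroup H) : Set H) → cj k (Y.map ψ) = Y.map ψ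

theorem cj_map_hom {Q H : Type*} [Group Q] [Group H] (f : Q →* H) (g : Q) (A : Subgroup Q) :
    cj (f g) (A.map f) = (cj g A).map f := by
  ext x
  simp only [Subgroup.mem_map, MonoidHom.coe_coe]
  constructor
  · rintro ⟨_, ⟨a, ha, rfl⟩, rfl⟩
    refine ⟨g * a * g⁻¹, conj_mem_cj ha, ?_⟩
    simp [MulAut.conj_apply]
  · rintro ⟨_, ⟨a, ha, rfl⟩, rfl⟩
    refine ⟨f a, ⟨a, ha, rfl⟩, ?_⟩
    simp [MulAut.conj_apply]

variable {Y : Subgroup L} {ψ : L →* H}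

namespace LHyp

variable (hL : LHyp p Y ψ)
include hL

theorem A_conj (g : L) {a : L} (ha : a ∈ pCore p L) : g * a * g⁻¹ ∈ pCore p L :=
  (inferInstance : (pCore p L).Normal).conj_mem a ha g

theorem cj_A (g : L) : cj g (pCore p L) = pCore p L := by
  apply cj_eq_self_iff.2
  rw [show normalizer ((pCore p L : Subgroup L) : Set L) = ⊤ from
    Subgroup.normalizer_eq_top_iff.2 inferInstance]
  exact Subgroup.mem_top g

/-- `W` is normalized when `Y` is. -/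
theorem cj_W {g : L} (hg : cj g Y = Y) : cj g (Y ⊓ pCore p L) = Y ⊓ pCore p L := by
  ext x
  rw [mem_cj, mem_inf, mem_inf]
  have h1 : g⁻¹ * x * g ∈ Y ↔ x ∈ Y := by
    rw [← mem_cj, hg]
  have h2 : g⁻¹ * x * g ∈ pCore p L ↔ x ∈ pCore p L := by
    rw [← mem_cj, hL.cj_A]
  rw [h1, h2]

/-- `Y` normalized in `L` from its image normalized in `H`. -/
theorem norm {g : L} (hg : cj (ψ g) (Y.map ψ) = Y.map ψ) : cj g Y = Y := by
  set U := Y.map ψ with hU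
  have h1 : Y ≤ (normalizer (U : Set H)).comap ψ := by
    intro y hy
    have : ψ y ∈ U := ⟨y, hy, rfl⟩
    exact Subgroup.le_normalizer this
  have h2 : (normalizer (U : Set H)).comap ψ ≠ ⊤ := by
    intro h
    obtain ⟨k, hk⟩ := hL.ne
    obtain ⟨g', rfl⟩ := hL.surj k
    apply hk
    apply cj_eq_self_iff.2
    have : g' ∈ (normalizer (U : Set H)).comap ψ := by rw [h]; exact Subgroup.mem_top g'
    exact this
  have h3 := hL.max _ h1 h2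
  exact cj_eq_self_iff.2 (h3 (cj_eq_self_iff.1 hg))

/-- Generation by `Y` and a conjugate. -/
theorem gen {g : L} (hg : cj g Y ≠ Y) : Y ⊔ cj g Y = ⊤ := by
  by_contra hne
  have h1 := hL.max _ le_sup_left hne
  have h2 : cj g Y ≤ normalizer (Y : Set L) := le_sup_right.trans h1
  apply hg
  apply hL.norm
  apply hL.weak
  rw [cj_map_hom]
  intro x hx
  obtain ⟨z, hz, rfl⟩ := hx
  have h3 := h2 hz
  rw [← cj_eq_self_iff] at h3 ⊢
  rw [cj_map_hom, h3]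

theorem norm_conj {a y : L} (ha : a ∈ pCore p L) (hy : y ∈ Y) : a * y * a⁻¹ ∈ Y :=
  (mem_normalizer_iff.1 (hL.AN ha) y).1 hy

/-- `[Y, A] ≤ W`. -/
theorem br {y a : L} (hy : y ∈ Y) (ha : a ∈ pCore p L) : y * a * y⁻¹ * a⁻¹ ∈ Y ⊓ pCore p L := by
  constructor
  · have h1 := hL.norm_conj ha (Y.inv_mem hy)
    have h2 : y * a * y⁻¹ * a⁻¹ = y * (a * y⁻¹ * a⁻¹) := by group
    rw [h2]
    exact Y.mul_mem hy h1
  · exact (pCore p L).mul_mem (hL.A_conj y ha) ((pCore p L).inv_mem ha)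

/-- `[Yᵍ, A] ≤ Wᵍ`. -/
theorem br' (g : L) {y a : L} (hy : y ∈ cj g Y) (ha : a ∈ pCore p L) :
    y * a * y⁻¹ * a⁻¹ ∈ cj g (Y ⊓ pCore p L) := by
  rw [mem_cj] at hy ⊢
  have h1 := hL.br hy (hL.A_conj g⁻¹ ha)
  have h2 : g⁻¹ * (y * a * y⁻¹ * a⁻¹) * g =
      (g⁻¹ * y * g) * (g⁻¹ * a * g⁻¹⁻¹) * (g⁻¹ * y * g)⁻¹ * (g⁻¹ * a * g⁻¹⁻¹)⁻¹ := by group
  rw [h2]
  exact h1

/-- `W ∩ Wᵍ` is central. -/
theorem inter_central {g : L} (hg : cj g Y ≠ Y) {z : L} (h1 : z ∈ Y ⊓ pCore p L)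
    (h2 : z ∈ cj g (Y ⊓ pCore p L)) : z ∈ center L := by
  have h3 : Y ⊔ cj g Y ≤ centralizer ({z} : Set L) := by
    refine sup_le ?_ ?_
    · intro y hy
      rw [Subgroup.mem_centralizer_singleton_iff]
      exact hL.comm y hy z h1.1
    · intro y hy
      rw [Subgroup.mem_centralizer_singleton_iff]
      rw [mem_cj] at hy h2
      have h4 := hL.comm _ hy _ h2.1
      have h5 : g⁻¹ * (y * z) * g = g⁻¹ * (z * y) * g := by
        calc g⁻¹ * (y * z) * g = g⁻¹ * y * g * (g⁻¹ * z * g) := by group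
          _ = g⁻¹ * z * g * (g⁻¹ * y * g) := h4
          _ = g⁻¹ * (z * y) * g := by group
      exact mul_left_cancel (mul_right_cancel h5)
  rw [hL.gen hg] at h3
  rw [Subgroup.mem_center_iff]
  intro x
  have := h3 (Subgroup.mem_top x)
  rw [Subgroup.mem_centralizer_singleton_iff] at this
  exact this

theorem C_normal : (Y ⊓ center L).Normal := by
  constructor
  intro n hn g
  have h1 := Subgroup.mem_center_iff.1 hn.2 g
  have h2 : g * n * g⁻¹ = n := by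
    rw [h1]
    group
  rw [h2]
  exact hn

theorem Y_isP : IsPGroup p Y := by
  intro y
  refine ⟨1, ?_⟩
  apply Subtype.ext
  simpa using hL.pow y y.2

theorem C_le_A : Y ⊓ center L ≤ pCore p L :=
  Cfsg.Agent.Lib.Basic.PCore.le_pCore hL.C_normal (hL.Y_isP.to_le inf_le_left)

theorem C_le_W : Y ⊓ center L ≤ Y ⊓ pCore p L := le_inf inf_le_left hL.C_le_A

theorem C_le_cjW (g : L) : Y ⊓ center L ≤ cj g (Y ⊓ pCore p L) := by
  intro c hc
  rw [mem_cj]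
  have h1 : g⁻¹ * c * g = c := by
    have := Subgroup.mem_center_iff.1 hc.2 g⁻¹
    rw [this]
    group
  rw [h1]
  exact hL.C_le_W hc

theorem comm_mod_basic {g : L} (hg : cj g Y ≠ Y) {y z : L} (hy : y ∈ Y ⊓ pCore p L)
    (hz : z ∈ cj g (Y ⊓ pCore p L)) : y * z * y⁻¹ * z⁻¹ ∈ Y ⊓ center L := by
  have hzA : z ∈ pCore p L := by
    have h1 := (mem_cj.1 hz).2
    have h2 := hL.A_conj g h1
    simpa [mul_assoc] using h2
  have hzY : z ∈ cj g Y := by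
    have h1 := (mem_cj.1 hz).1
    exact mem_cj.2 h1
  have h1 : y * z * y⁻¹ * z⁻¹ ∈ Y ⊓ pCore p L := hL.br hy.1 hzA
  have h2 : z * y * z⁻¹ * y⁻¹ ∈ cj g (Y ⊓ pCore p L) := hL.br' g hzY hy.2
  have h3 : y * z * y⁻¹ * z⁻¹ = (z * y * z⁻¹ * y⁻¹)⁻¹ := by group
  have h4 : y * z * y⁻¹ * z⁻¹ ∈ cj g (Y ⊓ pCore p L) := by
    rw [h3]
    exact (cj g (Y ⊓ pCore p L)).inv_mem h2
  exact ⟨h1.1, hL.inter_central hg h1 h4⟩

/-- Any two elements of `A` commute modulo `C`. -/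
theorem comm_mod {a b : L} (ha : a ∈ pCore p L) (hb : b ∈ pCore p L) :
    a * b * a⁻¹ * b⁻¹ ∈ Y ⊓ center L := by
  classical
  haveI := hL.C_normal
  set C := Y ⊓ center L with hC
  set W := Y ⊓ pCore p L with hW
  let κ : L →* L ⧸ C := QuotientGroup.mk' C
  have hκ : ∀ x, κ x = 1 ↔ x ∈ C := fun x => QuotientGroup.eq_one_iff x
  set S : Set L := Group.conjugatesOfSet (W : Set L) with hS
  have hA : pCore p L = closure S := hL.cl
  have h0 : ∀ s₁ ∈ S, ∀ s₂ ∈ S, κ s₁ * κ s₂ = κ s₂ * κ s₁ := by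
    intro s₁ hs₁ s₂ hs₂
    obtain ⟨w₁, hw₁, hc₁⟩ := Group.mem_conjugatesOfSet_iff.1 hs₁
    obtain ⟨w₂, hw₂, hc₂⟩ := Group.mem_conjugatesOfSet_iff.1 hs₂
    obtain ⟨g₁, rfl⟩ := isConj_iff.1 hc₁
    obtain ⟨g₂, rfl⟩ := isConj_iff.1 hc₂
    have h1 : κ ((g₁ * w₁ * g₁⁻¹) * (g₂ * w₂ * g₂⁻¹) * (g₁ * w₁ * g₁⁻¹)⁻¹ * (g₂ * w₂ * g₂⁻¹)⁻¹) = 1 := by
      set g := g₁⁻¹ * g₂ with hg
      set z := g * w₂ * g⁻¹ with hz
      have hzm : z ∈ cj g W := conj_mem_cj hw₂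
      have h2 : (g₁ * w₁ * g₁⁻¹) * (g₂ * w₂ * g₂⁻¹) * (g₁ * w₁ * g₁⁻¹)⁻¹ * (g₂ * w₂ * g₂⁻¹)⁻¹ =
          g₁ * (w₁ * z * w₁⁻¹ * z⁻¹) * g₁⁻¹ := by
        rw [hz, hg]
        group
      rw [h2]
      have h3 : w₁ * z * w₁⁻¹ * z⁻¹ ∈ C := by
        by_cases hgY : cj g Y = Y
        · rw [hL.cj_W hgY] at hzm
          have h4 := hL.comm _ hw₁.1 _ hzm.1
          have h5 : w₁ * z * w₁⁻¹ * z⁻¹ = 1 := by
            rw [h4]
            group
          rw [h5]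
          exact C.one_mem
        · exact hL.comm_mod_basic hgY hw₁ hzm
      rw [hκ]
      exact (inferInstance : C.Normal).conj_mem _ h3 g₁
    simp only [map_mul, map_inv] at h1
    have h2 := mul_inv_eq_one.1 h1
    have h3 := mul_inv_eq_iff_eq_mul.1 h2
    simpa [map_mul, map_inv] using h3
  have h1 : ∀ a ∈ closure S, ∀ s ∈ S, κ a * κ s = κ s * κ a := by
    intro a ha s hs
    induction ha using Subgroup.closure_induction with
    | mem x hx => exact h0 x hx s hs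
    | one => simp
    | mul x y _ _ hx hy => rw [map_mul, mul_assoc, hy, ← mul_assoc, hx, mul_assoc]
    | inv x _ hx =>
      rw [map_inv]
      exact ((show Commute (κ x) (κ s) from hx).inv_left).eq
  have h2 : ∀ a ∈ closure S, ∀ b ∈ closure S, κ a * κ b = κ b * κ a := by
    intro a ha b hb
    induction hb using Subgroup.closure_induction with
    | mem x hx => exact h1 a ha x hx
    | one => simp
    | mul x y _ _ hx hy =>
      rw [map_mul, ← mul_assoc, hx, mul_assoc, hy, mul_assoc]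
    | inv x _ hx =>
      rw [map_inv]
      exact ((show Commute (κ a) (κ x) from hx).inv_right).eq
  rw [hA] at ha hb
  have h3 := h2 a ha b hb
  rw [← hκ]
  simp only [map_mul, map_inv]
  rw [h3]
  group

/-- `A = W Wᵍ` modulo `C`. -/
theorem sum_mod {g : L} (hg : cj g Y ≠ Y) {a : L} (ha : a ∈ pCore p L) :
    ∃ w ∈ Y ⊓ pCore p L, ∃ z ∈ cj g (Y ⊓ pCore p L), (w * z)⁻¹ * a ∈ Y ⊓ center L := by
  classical
  haveI := hL.C_normal
  set C := Y ⊓ center L with hC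
  set W := Y ⊓ pCore p L with hW
  set T := W ⊔ cj g W with hT
  have hWY : W ≤ Y := inf_le_left
  have hWAA : W ≤ pCore p L := inf_le_right
  have hzA : ∀ z ∈ cj g W, z ∈ pCore p L := by
    intro z hz
    have h1 := (mem_cj.1 hz).2
    have h2 := hL.A_conj g h1
    simpa [mul_assoc] using h2
  have hWle : W ≤ T := le_sup_left
  have hgWle : cj g W ≤ T := le_sup_right
  -- Normality of `T`.
  have hN1 : ∀ y ∈ Y, ∀ t ∈ T, y * t * y⁻¹ ∈ T := by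
    intro y hy t ht
    have : T ≤ T.comap (MulAut.conj y).toMonoidHom := by
      refine sup_le ?_ ?_
      · intro w hw
        have h1 : y * w * y⁻¹ = w := by
          rw [hL.comm _ hy _ (hWY hw)]
          group
        show y * w * y⁻¹ ∈ T
        rw [h1]
        exact hWle hw
      · intro z hz
        show y * z * y⁻¹ ∈ T
        have h1 := hL.br hy (hzA z hz)
        have h2 : y * z * y⁻¹ = (y * z * y⁻¹ * z⁻¹) * z := by group
        rw [h2]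
        exact T.mul_mem (hWle h1) (hgWle hz)
    exact this ht
  have hN2 : ∀ y ∈ cj g Y, ∀ t ∈ T, y * t * y⁻¹ ∈ T := by
    intro y hy t ht
    have : T ≤ T.comap (MulAut.conj y).toMonoidHom := by
      refine sup_le ?_ ?_
      · intro w hw
        show y * w * y⁻¹ ∈ T
        have h1 := hL.br' g hy (hWAA hw)
        have h2 : y * w * y⁻¹ = (y * w * y⁻¹ * w⁻¹) * w := by group
        rw [h2]
        exact T.mul_mem (hgWle h1) (hWle hw)
      · intro z hz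
        show y * z * y⁻¹ ∈ T
        have h1 : y * z * y⁻¹ = z := by
          have h3 := mem_cj.1 hy
          have h4 := (mem_cj.1 hz).1
          have h5 := hL.comm _ h3 _ h4
          have h6 : g⁻¹ * (y * z) * g = g⁻¹ * (z * y) * g := by
            calc g⁻¹ * (y * z) * g = g⁻¹ * y * g * (g⁻¹ * z * g) := by group
              _ = g⁻¹ * z * g * (g⁻¹ * y * g) := h5
              _ = g⁻¹ * (z * y) * g := by group
          have h7 := mul_left_cancel (mul_right_cancel h6)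
          rw [h7]
          group
        rw [h1]
        exact hgWle hz
    exact this ht
  have hTn : T.Normal := by
    have h1 : Y ⊔ cj g Y ≤ normalizer (T : Set L) := by
      refine sup_le ?_ ?_
      · intro y hy
        exact Cfsg.Agent.Lib.LocalY.FrakM.mem_normalizer_of_forall hN1 hy
      · intro y hy
        exact Cfsg.Agent.Lib.LocalY.FrakM.mem_normalizer_of_forall hN2 hy
    rw [hL.gen hg] at h1
    rw [← Subgroup.normalizer_eq_top_iff]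
    exact top_le_iff.1 h1
  have hAT : pCore p L ≤ T := by
    rw [hL.cl]
    exact Subgroup.normalClosure_le_normal hWle
  let κ : L →* L ⧸ C := QuotientGroup.mk' C
  have hκ : ∀ x, κ x = 1 ↔ x ∈ C := fun x => QuotientGroup.eq_one_iff x
  have hcomm : ∀ a ∈ pCore p L, ∀ b ∈ pCore p L, κ a * κ b = κ b * κ a := by
    intro a ha b hb
    have h1 := (hκ _).2 (hL.comm_mod ha hb)
    simp only [map_mul, map_inv] at h1
    have h2 := mul_inv_eq_one.1 h1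
    have h3 := mul_inv_eq_iff_eq_mul.1 h2
    simpa [map_mul, map_inv] using h3
  have key : ∀ t ∈ T, ∃ w ∈ W, ∃ z ∈ cj g W, κ t = κ w * κ z := by
    intro t ht
    have hTc : T = closure ((W : Set L) ∪ (cj g W : Set L)) := by
      rw [Subgroup.closure_union, Subgroup.closure_eq, Subgroup.closure_eq]
    rw [hTc] at ht
    induction ht using Subgroup.closure_induction with
    | mem x hx =>
      rcases hx with hx | hx
      · exact ⟨x, hx, 1, (cj g W).one_mem, by simp⟩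
      · exact ⟨1, W.one_mem, x, hx, by simp⟩
    | one => exact ⟨1, W.one_mem, 1, (cj g W).one_mem, by simp⟩
    | mul x y _ _ hx hy =>
      obtain ⟨w₁, hw₁, z₁, hz₁, e₁⟩ := hx
      obtain ⟨w₂, hw₂, z₂, hz₂, e₂⟩ := hy
      refine ⟨w₁ * w₂, W.mul_mem hw₁ hw₂, z₁ * z₂, (cj g W).mul_mem hz₁ hz₂, ?_⟩
      rw [map_mul, e₁, e₂, map_mul, map_mul]
      have := hcomm z₁ (hzA _ hz₁) w₂ (hWAA hw₂)
      calc κ w₁ * κ z₁ * (κ w₂ * κ z₂) = κ w₁ * (κ z₁ * κ w₂) * κ z₂ := by group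
        _ = κ w₁ * (κ w₂ * κ z₁) * κ z₂ := by rw [this]
        _ = κ w₁ * κ w₂ * (κ z₁ * κ z₂) := by group
    | inv x _ hx =>
      obtain ⟨w, hw, z, hz, e⟩ := hx
      refine ⟨w⁻¹, W.inv_mem hw, z⁻¹, (cj g W).inv_mem hz, ?_⟩
      rw [map_inv, e, mul_inv_rev, map_inv, map_inv]
      have := hcomm ((w)⁻¹) ((pCore p L).inv_mem (hWAA hw)) (z⁻¹) ((pCore p L).inv_mem (hzA _ hz))
      simpa [map_inv] using this.symm
  obtain ⟨w, hw, z, hz, e⟩ := key a (hAT ha)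
  refine ⟨w, hw, z, hz, ?_⟩
  rw [← hκ, map_mul, map_inv, map_mul, e]
  group

theorem W_map {C : Subgroup L} [C.Normal] (hC : C = Y ⊓ center L) :
    (Y.map (QuotientGroup.mk' C)) ⊓ ((pCore p L).map (QuotientGroup.mk' C)) =
      (Y ⊓ pCore p L).map (QuotientGroup.mk' C) := by
  apply le_antisymm
  · rintro x ⟨⟨y, hy, rfl⟩, ⟨a, ha, he⟩⟩
    refine ⟨y, ⟨hy, ?_⟩, rfl⟩
    have h1 : y⁻¹ * a ∈ C := by
      rw [← QuotientGroup.eq]
      exact he.symm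
    have h2 : y⁻¹ * a ∈ pCore p L := by
      apply hL.C_le_A
      rw [← hC]
      exact h1
    have h3 : y = a * (y⁻¹ * a)⁻¹ := by group
    rw [h3]
    exact (pCore p L).mul_mem ha ((pCore p L).inv_mem h2)
  · rintro x ⟨w, hw, rfl⟩
    exact ⟨⟨w, hw.1, rfl⟩, ⟨w, hw.2, rfl⟩⟩

/-- The quotient by `C` satisfies `Setup`. -/
theorem setup_quot {C : Subgroup L} [C.Normal] (hC : C = Y ⊓ center L) (hCk : C ≤ ψ.ker) :
    Setup (QuotientGroup.lift C ψ hCk) (Y.map (QuotientGroup.mk' C))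
      ((pCore p L).map (QuotientGroup.mk' C)) := by
  set κ : L →* L ⧸ C := QuotientGroup.mk' C with hκ
  set π : L ⧸ C →* H := QuotientGroup.lift C ψ hCk with hπ
  have hπκ : ∀ g, π (κ g) = ψ g := fun g => rfl
  have hκs : Function.Surjective κ := QuotientGroup.mk'_surjective C
  have hUU : (Y.map κ).map π = Y.map ψ := by
    ext x
    constructor
    · rintro ⟨_, ⟨y, hy, rfl⟩, rfl⟩
      exact ⟨y, hy, rfl⟩
    · rintro ⟨y, hy, rfl⟩
      exact ⟨κ y, ⟨y, hy, rfl⟩, rfl⟩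
  have hκ1 : ∀ x, κ x = 1 ↔ x ∈ C := fun x => QuotientGroup.eq_one_iff x
  have hκeq : ∀ x y, κ x = κ y → x⁻¹ * y ∈ C := by
    intro x y h
    rw [← hκ1, map_mul, map_inv, h, inv_mul_cancel]
  have hcne : ∀ g, cj (ψ g) (Y.map ψ) ≠ Y.map ψ → cj g Y ≠ Y := by
    intro g h1 h2
    apply h1
    rw [cj_map_hom, h2]
  refine ⟨?_, ?_, ?_, ?_, ?_, ?_, ?_, ?_⟩
  · intro x
    obtain ⟨g, rfl⟩ := hL.surj x
    exact ⟨κ g, rfl⟩
  · ext x
    obtain ⟨g, rfl⟩ := hκs x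
    rw [MonoidHom.mem_ker, hπκ, ← MonoidHom.mem_ker, hL.ker]
    constructor
    · intro h
      exact ⟨g, h, rfl⟩
    · rintro ⟨a, ha, he⟩
      have h1 := hκeq _ _ he
      have h2 : a⁻¹ * g ∈ pCore p L := by
        apply hL.C_le_A
        rw [← hC]
        exact h1
      have h3 : g = a * (a⁻¹ * g) := by group
      rw [h3]
      exact (pCore p L).mul_mem ha h2
  · rintro _ ⟨a, ha, rfl⟩ _ ⟨b, hb, rfl⟩
    have h1 := hL.comm_mod ha hb
    rw [← hC, ← hκ1] at h1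
    simp only [map_mul, map_inv] at h1
    have h2 := mul_inv_eq_one.1 h1
    have h3 := mul_inv_eq_iff_eq_mul.1 h2
    exact h3
  · rintro _ ⟨a, ha, rfl⟩ _ ⟨b, hb, rfl⟩
    rw [← map_mul, ← map_mul, hL.comm a ha b hb]
  · rintro _ ⟨y, hy, rfl⟩ _ ⟨a, ha, rfl⟩
    exact ⟨y * a * y⁻¹ * a⁻¹, (hL.br hy ha).1, by simp [map_mul, map_inv]⟩
  · intro g
    obtain ⟨g, rfl⟩ := hκs g
    rw [hUU, hπκ]
    intro h
    rw [cj_map_hom, hL.norm h]
  · intro g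
    obtain ⟨g, rfl⟩ := hκs g
    rw [hUU, hπκ, hL.W_map hC]
    intro h x hx hx'
    rw [cj_map_hom] at hx'
    obtain ⟨w, hw, rfl⟩ := hx
    obtain ⟨z, hz, he⟩ := hx'
    have h1 := hκeq _ _ he
    have h2 : z⁻¹ * w ∈ cj g (Y ⊓ pCore p L) := by
      apply hL.C_le_cjW g
      rw [← hC]
      exact h1
    have h3 : w ∈ cj g (Y ⊓ pCore p L) := by
      have h4 : w = z * (z⁻¹ * w) := by group
      rw [h4]
      exact (cj g (Y ⊓ pCore p L)).mul_mem hz h2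
    have h5 := hL.inter_central (hcne g h) hw h3
    rw [hκ1, hC]
    exact ⟨hw.1, h5⟩
  · intro g
    obtain ⟨g, rfl⟩ := hκs g
    rw [hUU, hπκ, hL.W_map hC]
    rintro h _ ⟨a, ha, rfl⟩
    obtain ⟨w, hw, z, hz, he⟩ := hL.sum_mod (hcne g h) ha
    rw [← hC, ← hκ1] at he
    rw [cj_map_hom]
    refine ⟨κ w, ⟨w, hw, rfl⟩, κ z, ⟨z, hz, rfl⟩, ?_⟩
    rw [map_mul, map_inv, map_mul] at he
    rw [← map_mul]
    have h3 := inv_mul_eq_one.1 he
    rw [map_mul]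
    exact h3.symm

/-- The final step. -/
theorem finish {C : Subgroup L} [C.Normal] (hCk : C ≤ ψ.ker) {h a : L}
    (hfp : (∃ k, (QuotientGroup.lift C ψ hCk) (QuotientGroup.mk' C h) ^ p ^ k = 1) ∨
      QuotientGroup.mk' C a = 1)
    (hnp : ¬ ∃ k : ℕ, orderOf h = p ^ k) : a ∈ C := by
  rcases hfp with ⟨k, hk⟩ | h1
  · exfalso
    apply hnp
    have h2 : ψ h ^ p ^ k = 1 := hk
    have h3 : h ^ p ^ k ∈ pCore p L := by
      rw [← hL.ker, MonoidHom.mem_ker, map_pow, h2]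
    obtain ⟨j, hj⟩ := (Cfsg.Agent.Lib.Basic.PCore.pCore_isPGroup p (G := L)) ⟨_, h3⟩
    have h4 : h ^ (p ^ k * p ^ j) = 1 := by
      rw [pow_mul]
      have := congrArg Subtype.val hj
      simpa using this
    have hp := (Fact.out : p.Prime)
    rw [← pow_add] at h4
    obtain ⟨i, -, hi⟩ := (Nat.dvd_prime_pow hp).1 (orderOf_dvd_of_pow_eq_one h4)
    exact ⟨i, hi⟩
  · exact (QuotientGroup.eq_one_iff a).1 h1

/-- The conclusion from a fixed point statement in the quotient by `C`. -/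
theorem conclude
    (hfp : ∀ (C : Subgroup L) [C.Normal] (hCk : C ≤ ψ.ker), C = Y ⊓ center L →
      ∀ (x v : L ⧸ C), v ∈ (pCore p L).map (QuotientGroup.mk' C) → x * v * x⁻¹ = v →
        (∃ k, (QuotientGroup.lift C ψ hCk) x ^ p ^ k = 1) ∨ v = 1)
    {h a : L} (ha : a ∈ pCore p L) (hc : h * a * h⁻¹ * a⁻¹ ∈ Y ⊓ center L)
    (hnp : ¬ ∃ k : ℕ, orderOf h = p ^ k) : a ∈ Y ⊓ center L := by
  haveI := hL.C_normal
  have hCk : Y ⊓ center L ≤ ψ.ker := by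
    rw [hL.ker]
    exact hL.C_le_A
  apply hL.finish hCk _ hnp (h := h)
  have h1 : (QuotientGroup.mk' (Y ⊓ center L) h) * (QuotientGroup.mk' (Y ⊓ center L) a) *
      (QuotientGroup.mk' (Y ⊓ center L) h)⁻¹ = QuotientGroup.mk' (Y ⊓ center L) a := by
    have h2 := (QuotientGroup.eq_one_iff _).2 hc
    have h3 : QuotientGroup.mk' (Y ⊓ center L) (h * a * h⁻¹ * a⁻¹) = 1 := h2
    simp only [map_mul, map_inv] at h3
    exact mul_inv_eq_one.1 h3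
  exact hfp _ hCk rfl _ _ ⟨a, ha, rfl⟩ h1

end LHyp

end quot

end Cfsg.Agent.Lib.LocalY.FrakL
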