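import Mathlib
import Cfsg.Agent.Lib.LocalY.FrakL

/-! Fixed points on `O_p(L)/C` when `L / O_p(L)` is `SL₂(F)`. -/

set_option autoImplicit false

namespace Cfsg.Agent.Lib.LocalY.FrakL2

open Subgroup Cfsg.Agent.Lib.PGroup.WeaklyClosed Cfsg.Agent.Lib.LocalY.FrakL
open scoped MatrixGroups

variable {F : Type*} [Field F]

/-- The upper unitriangular matrices. -/
def up (t : F) : SL(2, F) := ⟨!![1, t; 0, 1], by simp [Matrix.det_fin_two]⟩

/-- The lower unitriangular matrices. -/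
def lo (c : F) : SL(2, F) := ⟨!![1, 0; c, 1], by simp [Matrix.det_fin_two]⟩

/-- The Weyl element. -/
def wy : SL(2, F) := ⟨!![0, -1; 1, 0], by simp [Matrix.det_fin_two]⟩

theorem sl_ext {x y : SL(2, F)} (h00 : x.1 0 0 = y.1 0 0) (h01 : x.1 0 1 = y.1 0 1)
    (h10 : x.1 1 0 = y.1 1 0) (h11 : x.1 1 1 = y.1 1 1) : x = y := by
  apply Subtype.ext
  ext i j
  fin_cases i <;> fin_cases j <;> assumption

theorem det_eq (x : SL(2, F)) : x.1 0 0 * x.1 1 1 - x.1 0 1 * x.1 1 0 = 1 := by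
  have := x.2
  rwa [Matrix.det_fin_two] at this

@[simp] theorem mul_00 (x y : SL(2, F)) : (x * y).1 0 0 = x.1 0 0 * y.1 0 0 + x.1 0 1 * y.1 1 0 := by
  show (x.1 * y.1) 0 0 = _
  simp [Matrix.mul_apply, Fin.sum_univ_two]
@[simp] theorem mul_01 (x y : SL(2, F)) : (x * y).1 0 1 = x.1 0 0 * y.1 0 1 + x.1 0 1 * y.1 1 1 := by
  show (x.1 * y.1) 0 1 = _
  simp [Matrix.mul_apply, Fin.sum_univ_two]
@[simp] theorem mul_10 (x y : SL(2, F)) : (x * y).1 1 0 = x.1 1 0 * y.1 0 0 + x.1 1 1 * y.1 1 0 := by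
  show (x.1 * y.1) 1 0 = _
  simp [Matrix.mul_apply, Fin.sum_univ_two]
@[simp] theorem mul_11 (x y : SL(2, F)) : (x * y).1 1 1 = x.1 1 0 * y.1 0 1 + x.1 1 1 * y.1 1 1 := by
  show (x.1 * y.1) 1 1 = _
  simp [Matrix.mul_apply, Fin.sum_univ_two]

@[simp] theorem inv_00 (x : SL(2, F)) : (x⁻¹).1 0 0 = x.1 1 1 := by
  show (Matrix.adjugate x.1) 0 0 = _
  simp [Matrix.adjugate_fin_two]
@[simp] theorem inv_01 (x : SL(2, F)) : (x⁻¹).1 0 1 = - x.1 0 1 := by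
  show (Matrix.adjugate x.1) 0 1 = _
  simp [Matrix.adjugate_fin_two]
@[simp] theorem inv_10 (x : SL(2, F)) : (x⁻¹).1 1 0 = - x.1 1 0 := by
  show (Matrix.adjugate x.1) 1 0 = _
  simp [Matrix.adjugate_fin_two]
@[simp] theorem inv_11 (x : SL(2, F)) : (x⁻¹).1 1 1 = x.1 0 0 := by
  show (Matrix.adjugate x.1) 1 1 = _
  simp [Matrix.adjugate_fin_two]

@[simp] theorem one_00 : (1 : SL(2, F)).1 0 0 = 1 := by
  show (1 : Matrix (Fin 2) (Fin 2) F) 0 0 = 1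
  simp
@[simp] theorem one_01 : (1 : SL(2, F)).1 0 1 = 0 := by
  show (1 : Matrix (Fin 2) (Fin 2) F) 0 1 = 0
  simp
@[simp] theorem one_10 : (1 : SL(2, F)).1 1 0 = 0 := by
  show (1 : Matrix (Fin 2) (Fin 2) F) 1 0 = 0
  simp
@[simp] theorem one_11 : (1 : SL(2, F)).1 1 1 = 1 := by
  show (1 : Matrix (Fin 2) (Fin 2) F) 1 1 = 1
  simp

@[simp] theorem up_00 (t : F) : (up t).1 0 0 = 1 := rfl
@[simp] theorem up_01 (t : F) : (up t).1 0 1 = t := rfl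
@[simp] theorem up_10 (t : F) : (up t).1 1 0 = 0 := rfl
@[simp] theorem up_11 (t : F) : (up t).1 1 1 = 1 := rfl
@[simp] theorem lo_00 (t : F) : (lo t).1 0 0 = 1 := rfl
@[simp] theorem lo_01 (t : F) : (lo t).1 0 1 = 0 := rfl
@[simp] theorem lo_10 (t : F) : (lo t).1 1 0 = t := rfl
@[simp] theorem lo_11 (t : F) : (lo t).1 1 1 = 1 := rfl
@[simp] theorem wy_00 : (wy : SL(2, F)).1 0 0 = 0 := rfl
@[simp] theorem wy_01 : (wy : SL(2, F)).1 0 1 = -1 := rfl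
@[simp] theorem wy_10 : (wy : SL(2, F)).1 1 0 = 1 := rfl
@[simp] theorem wy_11 : (wy : SL(2, F)).1 1 1 = 0 := rfl

theorem up_add (s t : F) : up s * up t = up (s + t) := by
  apply sl_ext <;> simp [add_comm]

theorem up_inv (t : F) : (up t)⁻¹ = up (-t) := by
  apply sl_ext <;> simp

theorem wy_lo_wy (c : F) : wy⁻¹ * lo c * wy = up (-c) := by
  apply sl_ext <;> simp

/-- Gauss decomposition. -/
theorem gauss (x : SL(2, F)) (hc : x.1 1 0 ≠ 0) :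
    x = up ((x.1 0 0 - 1) / x.1 1 0) * lo (x.1 1 0) * up ((x.1 1 1 - 1) / x.1 1 0) := by
  have hd := det_eq x
  apply sl_ext <;> simp <;> field_simp <;> first | linear_combination -hd | linear_combination hd | ring

/-- The conjugate of `up t`. -/
theorem conj_up_10 (k : SL(2, F)) (t : F) : (k * up t * k⁻¹).1 1 0 = - (k.1 1 0) ^ 2 * t := by
  simp
  ring

/-- The conjugate of `up t` for `k` upper triangular. -/
theorem conj_up_eq (k : SL(2, F)) (hk : k.1 1 0 = 0) (t : F) :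
    k * up t * k⁻¹ = up ((k.1 0 0) ^ 2 * t) := by
  have hd := det_eq k
  rw [hk, mul_zero, sub_zero] at hd
  apply sl_ext <;> simp [hk] <;> first | linear_combination hd | ring

/-- `U` is the group of upper unitriangular matrices. -/
structure UHyp (U : Subgroup SL(2, F)) : Prop where
  up_mem : ∀ t, up t ∈ U
  le : ∀ x ∈ U, ∃ t, x = up t

theorem UHyp.cj_eq_iff {U : Subgroup SL(2, F)} (hU : UHyp U) (k : SL(2, F)) :
    cj k U = U ↔ k.1 1 0 = 0 := by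
  constructor
  · intro h
    have h1 : k * up 1 * k⁻¹ ∈ U := by
      rw [← h]
      exact conj_mem_cj (hU.up_mem 1)
    obtain ⟨t, ht⟩ := hU.le _ h1
    have h2 := conj_up_10 k (1 : F)
    rw [ht] at h2
    simpa using h2.symm
  · intro hk
    have key : ∀ k : SL(2, F), k.1 1 0 = 0 → ∀ x ∈ U, k * x * k⁻¹ ∈ U := by
      intro k hk x hx
      obtain ⟨t, rfl⟩ := hU.le x hx
      rw [conj_up_eq k hk]
      exact hU.up_mem _
    apply le_antisymm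
    · rintro _ ⟨x, hx, rfl⟩
      exact key k hk x hx
    · intro x hx
      rw [mem_cj]
      have := key k⁻¹ (by simp [hk]) x hx
      simpa using this

theorem pow_entries (x : SL(2, F)) (h2 : x.1 0 0 + x.1 1 1 = 2) (k : ℕ) :
    (x ^ k).1 0 0 = 1 + k * (x.1 0 0 - 1) ∧ (x ^ k).1 0 1 = k * x.1 0 1 ∧
      (x ^ k).1 1 0 = k * x.1 1 0 ∧ (x ^ k).1 1 1 = 1 + k * (x.1 1 1 - 1) := by
  have hd := det_eq x
  induction k with
  | zero => simp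
  | succ k ih =>
    obtain ⟨h00, h01, h10, h11⟩ := ih
    rw [pow_succ]
    simp only [mul_00, mul_01, mul_10, mul_11, h00, h01, h10, h11]
    push_cast
    refine ⟨?_, ?_, ?_, ?_⟩
    · linear_combination (k : F) * x.1 0 0 * h2 - (k : F) * hd
    · linear_combination (k : F) * x.1 0 1 * h2
    · linear_combination (k : F) * x.1 1 0 * h2
    · linear_combination (k : F) * x.1 1 1 * h2 - (k : F) * hd

theorem pow_char_eq_one {p : ℕ} [CharP F p] (x : SL(2, F)) (h2 : x.1 0 0 + x.1 1 1 = 2) :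
    x ^ p = 1 := by
  obtain ⟨h00, h01, h10, h11⟩ := pow_entries x h2 p
  rw [CharP.cast_eq_zero F p] at h00 h01 h10 h11
  apply sl_ext <;> simp [h00, h01, h10, h11]

section main

variable {Q : Type*} [Group Q] {π : Q →* SL(2, F)} {Y V : Subgroup Q}
  (S : Setup π Y V) (hU : UHyp (Y.map π)) {g₀ : Q} (hg₀ : π g₀ = wy)
include S hU hg₀

theorem cj_W_of {g : Q} (hg : (π g).1 1 0 = 0) : cj g (Y ⊓ V) = Y ⊓ V :=
  S.cj_W_eq ((hU.cj_eq_iff _).2 hg)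

theorem ne0 : cj (π g₀) (Y.map π) ≠ Y.map π := by
  rw [Ne, hU.cj_eq_iff, hg₀]
  simp

theorem ti0 {x : Q} (h1 : x ∈ Y ⊓ V) (h2 : x ∈ cj g₀ (Y ⊓ V)) : x = 1 :=
  S.ti g₀ (ne0 S hU hg₀) x h1 h2

theorem swap1 {n : Q} (h0 : (π n).1 0 0 = 0) : cj n (Y ⊓ V) = cj g₀ (Y ⊓ V) := by
  have h : n = g₀ * (g₀⁻¹ * n) := by group
  have h2 : cj (g₀⁻¹ * n) (Y ⊓ V) = Y ⊓ V := by
    apply cj_W_of S hU hg₀
    simp [hg₀, h0]
  calc cj n (Y ⊓ V) = cj (g₀ * (g₀⁻¹ * n)) (Y ⊓ V) := by rw [← h]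
    _ = cj g₀ (cj (g₀⁻¹ * n) (Y ⊓ V)) := cj_mul _ _ _
    _ = cj g₀ (Y ⊓ V) := by rw [h2]

theorem swap2 {n : Q} (h1 : (π n).1 1 1 = 0) : cj n (cj g₀ (Y ⊓ V)) = Y ⊓ V := by
  rw [← cj_mul]
  apply cj_W_of S hU hg₀
  simp [hg₀, h1]

omit hg₀ in
theorem cent_up {x w : Q} {t : F} (hx : π x = up t) (hw : w ∈ Y ⊓ V) : x * w * x⁻¹ = w :=
  S.cent (hx ▸ hU.up_mem t) hw

omit hg₀ in
theorem br_up {x v : Q} {t : F} (hx : π x = up t) (hv : v ∈ V) : x * v * x⁻¹ * v⁻¹ ∈ Y ⊓ V :=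
  S.br (hx ▸ hU.up_mem t) hv

theorem cent_lo {x w : Q} {c : F} (hx : π x = lo c) (hw : w ∈ cj g₀ (Y ⊓ V)) : x * w * x⁻¹ = w := by
  apply S.cent' _ hw
  rw [map_mul, map_mul, map_inv, hg₀, hx, wy_lo_wy]
  exact hU.up_mem _

theorem br_lo {x v : Q} {c : F} (hx : π x = lo c) (hv : v ∈ V) :
    x * v * x⁻¹ * v⁻¹ ∈ cj g₀ (Y ⊓ V) := by
  apply S.br' _ hv
  rw [map_mul, map_mul, map_inv, hg₀, hx, wy_lo_wy]
  exact hU.up_mem _

theorem inj_up {y w : Q} {r : F} (hr : r ≠ 0) (hy : π y = up r) (hw : w ∈ cj g₀ (Y ⊓ V))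
    (hc : y * w * y⁻¹ = w) : w = 1 := by
  obtain ⟨y₂, hy₂⟩ := S.surj (lo (-1 / r))
  have hn : y * y₂ * y * w * (y * y₂ * y)⁻¹ = w := by
    calc y * y₂ * y * w * (y * y₂ * y)⁻¹ = y * (y₂ * (y * w * y⁻¹) * y₂⁻¹) * y⁻¹ := by group
      _ = w := by rw [hc, cent_lo S hU hg₀ hy₂ hw, hc]
  have hπ : (π (y * y₂ * y)).1 1 1 = 0 := by
    simp [map_mul, hy, hy₂]
    field_simp
    ring
  have h3 : w ∈ Y ⊓ V := by
    rw [← hn, ← swap2 S hU hg₀ hπ]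
    exact conj_mem_cj hw
  exact ti0 S hU hg₀ h3 hw

theorem inj_lo {y w : Q} {c : F} (hc : c ≠ 0) (hy : π y = lo c) (hw : w ∈ Y ⊓ V)
    (hf : y * w * y⁻¹ = w) : w = 1 := by
  obtain ⟨y₁, hy₁⟩ := S.surj (up (-1 / c))
  have hn : y * y₁ * y * w * (y * y₁ * y)⁻¹ = w := by
    calc y * y₁ * y * w * (y * y₁ * y)⁻¹ = y * (y₁ * (y * w * y⁻¹) * y₁⁻¹) * y⁻¹ := by group
      _ = w := by rw [hf, cent_up S hU hy₁ hw, hf]
  have hπ : (π (y * y₁ * y)).1 0 0 = 0 := by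
    simp [map_mul, hy, hy₁]
    field_simp
    ring
  have h3 : w ∈ cj g₀ (Y ⊓ V) := by
    rw [← hn, ← swap1 S hU hg₀ hπ]
    exact conj_mem_cj hw
  exact ti0 S hU hg₀ hw h3

theorem main_c {x v : Q} (hc : (π x).1 1 0 ≠ 0) (ht : (π x).1 0 0 + (π x).1 1 1 ≠ 2) (hv : v ∈ V)
    (hx : x * v * x⁻¹ = v) : v = 1 := by
  set c := (π x).1 1 0 with hcdef
  set e := ((π x).1 0 0 - 1) / c with hedef
  set f := ((π x).1 1 1 - 1) / c with hfdef
  have hef : e + f ≠ 0 := by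
    intro h
    apply ht
    rw [hedef, hfdef, ← add_div, div_eq_zero_iff] at h
    rcases h with h | h
    · linear_combination h
    · exact absurd h hc
  have hg : π x = up e * lo c * up f := gauss (π x) hc
  obtain ⟨y₁, hy₁⟩ := S.surj (up e)
  obtain ⟨y₂, hy₂⟩ := S.surj (lo c)
  set y₃ := (y₁ * y₂)⁻¹ * x with hy₃def
  have hy₃ : π y₃ = up f := by
    rw [hy₃def, map_mul, map_inv, map_mul, hy₁, hy₂, hg]
    group
  have hx3 : x = y₁ * y₂ * y₃ := by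
    rw [hy₃def]
    group
  have hy₁i : π y₁⁻¹ = up (-e) := by
    rw [map_inv, hy₁, up_inv]
  obtain ⟨w, hw, z, hz, he⟩ := S.sum g₀ (ne0 S hU hg₀) v hv
  have hwV : w ∈ V := hw.2
  have hzV : z ∈ V := S.cj_W_le g₀ hz
  set a := y₃ * z * y₃⁻¹ * z⁻¹ with ha
  set b := y₁⁻¹ * z * y₁⁻¹⁻¹ * z⁻¹ with hb
  have ham : a ∈ Y ⊓ V := br_up S hU hy₃ hzV
  have hbm : b ∈ Y ⊓ V := br_up S hU hy₁i hzV
  have haV : a ∈ V := ham.2
  have hbV : b ∈ V := hbm.2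
  have hwaV : w * a ∈ V := V.mul_mem hwV haV
  set d := y₂ * (w * a) * y₂⁻¹ * (w * a)⁻¹ with hd
  have hdm : d ∈ cj g₀ (Y ⊓ V) := br_lo S hU hg₀ hy₂ hwaV
  have hdV : d ∈ V := S.cj_W_le g₀ hdm
  have c₁ : y₃ * w * y₃⁻¹ = w := cent_up S hU hy₃ hw
  have c₂ : y₁⁻¹ * w * y₁⁻¹⁻¹ = w := cent_up S hU hy₁i hw
  have c₃ : y₂ * z * y₂⁻¹ = z := cent_lo S hU hg₀ hy₂ hz
  have e₀ : y₂ * (y₃ * v * y₃⁻¹) * y₂⁻¹ = y₁⁻¹ * v * y₁ := by
    have : y₂ * (y₃ * v * y₃⁻¹) * y₂⁻¹ = y₁⁻¹ * (x * v * x⁻¹) * y₁ := by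
      rw [hx3]
      group
    rw [this, hx]
  have e₁ : y₃ * v * y₃⁻¹ = w * a * z := by
    have h3 : y₃ * (w * z) * y₃⁻¹ = (y₃ * w * y₃⁻¹) * (y₃ * z * y₃⁻¹) := by group
    rw [he, h3, c₁, ha]
    group
  have e₂ : y₂ * (w * a * z) * y₂⁻¹ = d * (w * a) * z := by
    have h3 : y₂ * (w * a * z) * y₂⁻¹ = (y₂ * (w * a) * y₂⁻¹) * (y₂ * z * y₂⁻¹) := by group
    rw [h3, c₃, hd]
    group
  have e₃ : y₁⁻¹ * v * y₁ = w * (b * z) := by
    have h3 : y₁⁻¹ * (w * z) * y₁ = (y₁⁻¹ * w * y₁⁻¹⁻¹) * (y₁⁻¹ * z * y₁⁻¹⁻¹) := by group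
    rw [he, h3, c₂, hb]
    group
  rw [e₁, e₂, e₃] at e₀
  have e₄ : d * a = b := by
    have h3 : d * (w * a) = w * b := by
      have : d * (w * a) * z = w * b * z := e₀.trans (mul_assoc w b z).symm
      exact mul_right_cancel this
    have h4 : w * (d * a) = w * b := by
      rw [← h3]
      calc w * (d * a) = (w * d) * a := (mul_assoc w d a).symm
        _ = (d * w) * a := by rw [S.comm _ hwV _ hdV]
        _ = d * (w * a) := mul_assoc d w a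
    exact mul_left_cancel h4
  have hd1 : d = 1 := by
    apply ti0 S hU hg₀ _ hdm
    have : d = b * a⁻¹ := by
      rw [← e₄]
      group
    rw [this]
    exact (Y ⊓ V).mul_mem hbm ((Y ⊓ V).inv_mem ham)
  have hab : a = b := by
    rw [← e₄, hd1, one_mul]
  have hz1 : z = 1 := by
    have h3 : y₃ * z * y₃⁻¹ = y₁⁻¹ * z * y₁ := by
      have h4 : y₃ * z * y₃⁻¹ * z⁻¹ = y₁⁻¹ * z * y₁⁻¹⁻¹ * z⁻¹ := hab
      have h5 := mul_right_cancel h4
      simpa using h5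
    apply inj_up S hU hg₀ hef _ hz (y := y₁ * y₃)
    · calc y₁ * y₃ * z * (y₁ * y₃)⁻¹ = y₁ * (y₃ * z * y₃⁻¹) * y₁⁻¹ := by group
        _ = z := by rw [h3]; group
    · rw [map_mul, hy₁, hy₃, up_add]
  have ha1 : a = 1 := by
    rw [ha, hz1]
    group
  have hw1 : w = 1 := by
    apply inj_lo S hU hg₀ hc hy₂ hw
    rw [hd, ha1, mul_one] at hd1
    exact mul_inv_eq_one.1 hd1
  rw [he, hw1, hz1, one_mul]

/-- The element `-1` inverts the conjugate of `W`. -/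
theorem neg_lo {x w : Q} (hx : π x = wy * wy) (hw : w ∈ cj g₀ (Y ⊓ V)) : x * w * x⁻¹ = w⁻¹ := by
  obtain ⟨y₁, hy₁⟩ := S.surj (up (1 : F))
  obtain ⟨y₂, hy₂⟩ := S.surj (lo (-1 : F))
  set n := y₁ * y₂ * y₁ with hn
  have hπn : π n = wy⁻¹ := by
    rw [hn, map_mul, map_mul, hy₁, hy₂]
    apply sl_ext <;> simp
  have hwV : w ∈ V := S.cj_W_le g₀ hw
  set a := y₁ * w * y₁⁻¹ * w⁻¹ with ha
  have ham : a ∈ Y ⊓ V := br_up S hU hy₁ hwV
  have haV : a ∈ V := ham.2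
  set d := y₂ * a * y₂⁻¹ * a⁻¹ with hd
  have hdm : d ∈ cj g₀ (Y ⊓ V) := br_lo S hU hg₀ hy₂ haV
  have hdV : d ∈ V := S.cj_W_le g₀ hdm
  set s := d * w with hs
  have hsm : s ∈ cj g₀ (Y ⊓ V) := (cj g₀ (Y ⊓ V)).mul_mem hdm hw
  have hsV : s ∈ V := S.cj_W_le g₀ hsm
  set b := y₁ * s * y₁⁻¹ * s⁻¹ with hb
  have hbm : b ∈ Y ⊓ V := br_up S hU hy₁ hsV
  have c₁ : y₁ * w * y₁⁻¹ = a * w := by
    rw [ha]
    group
  have c₂ : y₁ * a * y₁⁻¹ = a := cent_up S hU hy₁ ham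
  have c₃ : y₂ * w * y₂⁻¹ = w := cent_lo S hU hg₀ hy₂ hw
  have c₄ : y₂ * a * y₂⁻¹ = d * a := by
    rw [hd]
    group
  have c₅ : y₁ * s * y₁⁻¹ = b * s := by
    rw [hb]
    group
  have e₁ : n * w * n⁻¹ = a * (b * s) := by
    have h3 : n * w * n⁻¹ = y₁ * (y₂ * (y₁ * w * y₁⁻¹) * y₂⁻¹) * y₁⁻¹ := by
      rw [hn]
      group
    have h4 : y₂ * (a * w) * y₂⁻¹ = (y₂ * a * y₂⁻¹) * (y₂ * w * y₂⁻¹) := by group
    have h5 : d * a * w = a * s := by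
      rw [hs, S.comm _ hdV _ haV]
      group
    have h6 : y₁ * (a * s) * y₁⁻¹ = (y₁ * a * y₁⁻¹) * (y₁ * s * y₁⁻¹) := by group
    rw [h3, c₁, h4, c₃, c₄, h5, h6, c₂, c₅]
  have hπ11 : (π n).1 1 1 = 0 := by
    rw [hπn]
    simp
  have h7 : n * w * n⁻¹ ∈ Y ⊓ V := by
    rw [← swap2 S hU hg₀ hπ11]
    exact conj_mem_cj hw
  have hs1 : s = 1 := by
    apply ti0 S hU hg₀ _ hsm
    rw [e₁] at h7
    have h8 : s = (a * b)⁻¹ * (a * (b * s)) := by group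
    rw [h8]
    exact (Y ⊓ V).mul_mem ((Y ⊓ V).inv_mem ((Y ⊓ V).mul_mem ham hbm)) h7
  have hd' : d = w⁻¹ := by
    rw [hs] at hs1
    exact eq_inv_of_mul_eq_one_left hs1
  have hb1 : b = 1 := by
    rw [hb, hs1]
    group
  have e₂ : n * w * n⁻¹ = a := by
    rw [e₁, hb1, hs1]
    group
  have e₃ : n * a * n⁻¹ = w⁻¹ := by
    have h3 : n * a * n⁻¹ = y₁ * (y₂ * (y₁ * a * y₁⁻¹) * y₂⁻¹) * y₁⁻¹ := by
      rw [hn]
      group
    rw [h3, c₂, c₄, hd']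
    have h4 : y₁ * (w⁻¹ * a) * y₁⁻¹ = (y₁ * w * y₁⁻¹)⁻¹ * (y₁ * a * y₁⁻¹) := by group
    rw [h4, c₁, c₂]
    group
  have hπ : π x = π (n * n) := by
    rw [hx, map_mul, hπn]
    apply sl_ext <;> simp
  rw [S.act_eq hπ hwV]
  calc n * n * w * (n * n)⁻¹ = n * (n * w * n⁻¹) * n⁻¹ := by group
    _ = w⁻¹ := by rw [e₂, e₃]

/-- The element `-1` inverts `W`. -/
theorem neg_up {x w : Q} (hx : π x = wy * wy) (hw : w ∈ Y ⊓ V) : x * w * x⁻¹ = w⁻¹ := by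
  have h0 : (π g₀).1 1 1 = 0 := by
    rw [hg₀]
    simp
  have h1 : w ∈ cj g₀ (cj g₀ (Y ⊓ V)) := by
    rw [swap2 S hU hg₀ h0]
    exact hw
  rw [mem_cj] at h1
  have h2 : π (g₀⁻¹ * x * g₀) = wy * wy := by
    rw [map_mul, map_mul, map_inv, hg₀, hx]
    group
  have h3 := neg_lo S hU hg₀ h2 h1
  have h4 : x * w * x⁻¹ = g₀ * ((g₀⁻¹ * x * g₀) * (g₀⁻¹ * w * g₀) * (g₀⁻¹ * x * g₀)⁻¹) * g₀⁻¹ := by
    group
  rw [h4, h3]
  group

end main

/-- The fixed points of elements of `SL₂(F)`. -/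
theorem sl2_fpf {p : ℕ} [Fact p.Prime] [CharP F p] {Q : Type*} [Group Q] {π : Q →* SL(2, F)}
    {Y V : Subgroup Q} (S : Setup π Y V) (hU : UHyp (Y.map π)) (hpow : ∀ v ∈ Y ⊓ V, v ^ p = 1)
    {x v : Q} (hv : v ∈ V) (hx : x * v * x⁻¹ = v) : (∃ k, π x ^ p ^ k = 1) ∨ v = 1 := by
  obtain ⟨g₀, hg₀⟩ := S.surj wy
  by_cases ht : (π x).1 0 0 + (π x).1 1 1 = 2
  · left
    refine ⟨1, ?_⟩
    rw [pow_one]
    exact pow_char_eq_one _ ht
  right
  have hconj : ∀ k : Q, (π (k * x * k⁻¹)).1 1 0 ≠ 0 → v = 1 := by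
    intro k hk
    have h1 : k * v * k⁻¹ = 1 := by
      apply main_c S hU hg₀ hk _ (S.conj_mem_V k hv)
      · calc k * x * k⁻¹ * (k * v * k⁻¹) * (k * x * k⁻¹)⁻¹ = k * (x * v * x⁻¹) * k⁻¹ := by group
          _ = k * v * k⁻¹ := by rw [hx]
      · have h2 := det_eq (π k)
        simp only [map_mul, map_inv, mul_00, mul_11, mul_01, mul_10, inv_00, inv_01, inv_10, inv_11]
        intro h3
        apply ht
        linear_combination h3 - ((π x).1 0 0 + (π x).1 1 1) * h2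
    have h2 : v = k⁻¹ * (k * v * k⁻¹) * k := by group
    rw [h2, h1]
    group
  by_cases hc : (π x).1 1 0 = 0
  swap
  · apply hconj 1
    simpa using hc
  by_cases hb : (π x).1 0 1 = 0
  swap
  · apply hconj g₀⁻¹
    simp [hg₀, hc]
    exact hb
  by_cases had : (π x).1 0 0 = (π x).1 1 1
  swap
  · obtain ⟨k, hk⟩ := S.surj (lo (1 : F))
    apply hconj k
    simp [hk, hc, hb]
    intro h
    apply had
    linear_combination h
  -- the scalar case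
  have hd := det_eq (π x)
  rw [hc, mul_zero, sub_zero, ← had] at hd
  have ha : (π x).1 0 0 = 1 ∨ (π x).1 0 0 = -1 := by
    have : ((π x).1 0 0 - 1) * ((π x).1 0 0 + 1) = 0 := by linear_combination hd
    rcases mul_eq_zero.1 this with h | h
    · left
      linear_combination h
    · right
      linear_combination h
  rcases ha with ha | ha
  · exfalso
    apply ht
    rw [← had, ha]
    ring
  have hπ : π x = wy * wy := by
    apply sl_ext <;> simp [hb, hc, ha, ← had]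
  obtain ⟨w, hw, z, hz, he⟩ := S.sum g₀ (ne0 S hU hg₀) v hv
  have hwV : w ∈ V := hw.2
  have hzV : z ∈ V := S.cj_W_le g₀ hz
  have h1 : v = v⁻¹ := by
    nth_rw 1 [← hx]
    have h2 : x * (w * z) * x⁻¹ = (x * w * x⁻¹) * (x * z * x⁻¹) := by group
    rw [he, h2, neg_up S hU hg₀ hπ hw, neg_lo S hU hg₀ hπ hz, mul_inv_rev, S.comm _ (V.inv_mem hzV) _ (V.inv_mem hwV)]
  have h2 : v ^ 2 = 1 := by
    rw [pow_two]
    nth_rw 1 [h1]
    simp
  have hwp : w ^ p = 1 := hpow w hw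
  have hzp : z ^ p = 1 := by
    obtain ⟨z', hz', rfl⟩ := hz
    have := hpow z' hz'
    simp only [MulEquiv.coe_toMonoidHom, MulAut.conj_apply]
    rw [conj_pow, this]
    group
  have hvp : v ^ p = 1 := by
    have hcm : Commute w z := S.comm _ hwV _ hzV
    rw [he, hcm.mul_pow, hwp, hzp, one_mul]
  have hp2 : p ≠ 2 := by
    rintro rfl
    apply ht
    have h3 : (2 : F) = 0 := by
      have := CharP.cast_eq_zero F 2
      exact_mod_cast this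
    rw [← had, ha, h3]
    ring_nf
    linear_combination (-1 : F) * h3
  have hpo := (Fact.out : p.Prime).odd_of_ne_two hp2
  have hco : Nat.Coprime 2 p := Nat.coprime_two_left.mpr hpo
  have h3 : orderOf v ∣ Nat.gcd 2 p := Nat.dvd_gcd (orderOf_dvd_of_pow_eq_one h2) (orderOf_dvd_of_pow_eq_one hvp)
  rw [hco, Nat.dvd_one] at h3
  exact orderOf_eq_one_iff.mp h3

end Cfsg.Agent.Lib.LocalY.FrakL2
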