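import Mathlib
import Cfsg.Agent.Lib.LocalY.FrakL
import Cfsg.Agent.Lib.LocalY.FrakL2

/-! Reduction of membership in `𝔏(Y)` to the fixed point statements. -/

set_option autoImplicit false

namespace Cfsg.Agent.Lib.LocalY.FrakL3

open Subgroup Cfsg Cfsg.Agent.Lib.PGroup.WeaklyClosed Cfsg.Agent.Lib.LocalY.FrakL
  Cfsg.Agent.Lib.LocalY.FrakL2 Cfsg.Agent.Lib.LocalY.FrakM
open scoped MatrixGroups

/-- What membership in `𝔏(Y)` gives about `Y` inside `L`. -/
structure Unp (p : ℕ) [Fact p.Prime] {L : Type*} [Group L] (Y : Subgroup L) : Prop where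
  comm : ∀ a ∈ Y, ∀ b ∈ Y, a * b = b * a
  pow : ∀ y ∈ Y, y ^ p = 1
  cl : pCore p L = normalClosure ((Y ⊓ pCore p L : Subgroup L) : Set L)
  AN : pCore p L ≤ normalizer (Y : Set L)
  max : ∀ X : Subgroup L, Y ≤ X → X ≠ ⊤ → X ≤ normalizer (Y : Set L)
  top : normalClosure (Y : Set L) = ⊤

section unpack

variable {G : Type*} [Group G] [Finite G] {p : ℕ} [Fact p.Prime]

theorem coe_mem_pCoreOf {L : Subgroup G} (x : ↥L) : (x : G) ∈ pCoreOf p L ↔ x ∈ pCore p ↥L := by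
  constructor
  · rintro ⟨y, hy, he⟩
    have : y = x := Subtype.ext he
    rwa [← this]
  · intro hx
    exact ⟨x, hx, rfl⟩

theorem pCoreOf_le_self (L : Subgroup G) : pCoreOf p L ≤ L := Subgroup.map_subtype_le _

theorem unpack {M L : Subgroup G} (hMc : centralizer (pCore p ↥M : Set ↥M) ≤ pCore p ↥M)
    (hL : IsInFrakL p M L) : Unp p ((largestPReducedOf p M).subgroupOf L) := by
  obtain ⟨hYL, hcl, hAN, hmin, -, ⟨-, hmax⟩, -⟩ := hL
  have hP : Prd p M (largestPReducedOf p M) := prd_largest hMc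
  set YG := largestPReducedOf p M with hYG
  refine ⟨?_, ?_, ?_, ?_, ?_, hmin.1⟩
  · intro a ha b hb
    apply Subtype.ext
    exact hP.comm a ha b hb
  · intro y hy
    apply Subtype.ext
    simpa using hP.pow y hy
  · have h1 : (YG ⊓ pCoreOf p L).subgroupOf L = YG.subgroupOf L ⊓ pCore p ↥L := by
      ext x
      simp only [mem_subgroupOf, mem_inf, coe_mem_pCoreOf]
    rw [h1] at hcl
    exact Subgroup.map_injective L.subtype_injective hcl
  · intro x hx
    have h1 := hAN ((coe_mem_pCoreOf x).2 hx)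
    rw [mem_normalizer_iff] at h1 ⊢
    intro z
    have h2 := h1 (z : G)
    simpa [mem_subgroupOf] using h2
  · intro X hYX hX
    have hXG : X.map L.subtype < L := by
      refine lt_of_le_of_ne (Subgroup.map_subtype_le _) ?_
      intro h
      apply hX
      rw [eq_top_iff]
      intro x _
      have h2 : (x : G) ∈ X.map L.subtype := by
        rw [h]
        exact x.2
      obtain ⟨y, hy, he⟩ := h2
      have : y = x := Subtype.ext he
      rwa [← this]
    have hYXG : YG ≤ X.map L.subtype := by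
      intro y hy
      exact ⟨⟨y, hYL hy⟩, hYX (by simpa [mem_subgroupOf] using hy), rfl⟩
    have h1 := hmax _ hYXG hXG
    intro x hx
    have h2 : (x : G) ∈ normalizer (YG : Set G) := (h1 ⟨x, hx, rfl⟩).2
    rw [mem_normalizer_iff] at h2 ⊢
    intro z
    have h3 := h2 (z : G)
    simpa [mem_subgroupOf] using h3

theorem relIndex_eq {M L : Subgroup G} (hYL : largestPReducedOf p M ≤ L) :
    (largestPReducedOf p M ⊓ pCoreOf p L).relIndex (largestPReducedOf p M) =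
      (pCore p ↥L).relIndex ((largestPReducedOf p M).subgroupOf L) := by
  rw [Subgroup.inf_relIndex_left]
  conv_lhs => rw [← Subgroup.map_subgroupOf_eq_of_le hYL]
  exact Subgroup.relIndex_map_map_of_injective _ _ L.subtype_injective

end unpack

section maps

variable {L H : Type*} [Group L] [Group H] {p : ℕ} [Fact p.Prime]

/-- The map onto `H`, twisted by the inner automorphism by `k`. -/
noncomputable def mkP (e : L ⧸ pCore p L ≃* H) (k : H) : L →* H :=
  (MulAut.conj k).toMonoidHom.comp (e.toMonoidHom.comp (QuotientGroup.mk' (pCore p L)))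

theorem mkP_surj (e : L ⧸ pCore p L ≃* H) (k : H) : Function.Surjective (mkP e k) := by
  intro x
  obtain ⟨q, hq⟩ := e.surjective (k⁻¹ * x * k)
  obtain ⟨l, rfl⟩ := QuotientGroup.mk'_surjective _ q
  refine ⟨l, ?_⟩
  show k * e (QuotientGroup.mk' _ l) * k⁻¹ = x
  rw [hq]
  group

theorem mkP_ker (e : L ⧸ pCore p L ≃* H) (k : H) : (mkP e k).ker = pCore p L := by
  ext x
  rw [MonoidHom.mem_ker]
  show k * e (QuotientGroup.mk' _ x) * k⁻¹ = 1 ↔ _
  rw [conj_eq_one_iff, map_eq_one_iff e e.injective]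
  exact QuotientGroup.eq_one_iff x

theorem mkP_map (e : L ⧸ pCore p L ≃* H) (k : H) (Y : Subgroup L) :
    Y.map (mkP e k) = cj k (Y.map (mkP e 1)) := by
  ext x
  constructor
  · rintro ⟨y, hy, rfl⟩
    refine ⟨mkP e 1 y, ⟨y, hy, rfl⟩, ?_⟩
    simp [mkP, MulAut.conj_apply]
  · rintro ⟨_, ⟨y, hy, rfl⟩, rfl⟩
    refine ⟨y, hy, ?_⟩
    simp [mkP, MulAut.conj_apply]

theorem mkP_card (e : L ⧸ pCore p L ≃* H) (Y : Subgroup L) :
    (pCore p L).relIndex Y = Nat.card (Y.map (mkP e 1)) := by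
  rw [← Subgroup.relIndex_ker, mkP_ker]

theorem mkP_pow {Y : Subgroup L} (hU : Unp p Y) (e : L ⧸ pCore p L ≃* H) (k : H) :
    ∀ u ∈ Y.map (mkP e k), u ^ p = 1 := by
  rintro _ ⟨y, hy, rfl⟩
  rw [← map_pow, hU.pow y hy, map_one]

theorem mkP_isP {Y : Subgroup L} (hU : Unp p Y) (e : L ⧸ pCore p L ≃* H) (k : H) :
    IsPGroup p (Y.map (mkP e k)) := by
  intro u
  refine ⟨1, ?_⟩
  apply Subtype.ext
  simpa using mkP_pow hU e k u u.2

/-- The hypotheses for `conclude`. -/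
theorem lhyp_of [Finite L] {Y : Subgroup L} (hU : Unp p Y) (e : L ⧸ pCore p L ≃* H) (k : H)
    (hne : ∃ k', cj k' (Y.map (mkP e k)) ≠ Y.map (mkP e k))
    (hw : ∀ k', cj k' (Y.map (mkP e k)) ≤ normalizer ((Y.map (mkP e k) : Subgroup H) : Set H) →
      cj k' (Y.map (mkP e k)) = Y.map (mkP e k)) : LHyp p Y (mkP e k) :=
  ⟨mkP_surj e k, mkP_ker e k, hU.comm, hU.pow, hU.cl, hU.AN, hU.max, hne, hw⟩

/-- The image of `Y` in the quotient by `C` has the same image as `Y`. -/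
theorem map_quot_map {C : Subgroup L} [C.Normal] {ψ : L →* H} (hCk : C ≤ ψ.ker) (Y : Subgroup L) :
    (Y.map (QuotientGroup.mk' C)).map (QuotientGroup.lift C ψ hCk) = Y.map ψ := by
  ext x
  constructor
  · rintro ⟨_, ⟨y, hy, rfl⟩, rfl⟩
    exact ⟨y, hy, rfl⟩
  · rintro ⟨y, hy, rfl⟩
    exact ⟨QuotientGroup.mk' C y, ⟨y, hy, rfl⟩, rfl⟩

end maps

section sl2

variable {F : Type*} [Field F]

theorem exists_fixed {p : ℕ} [Fact p.Prime] [CharP F p] [Finite F] (U₀ : Subgroup SL(2, F))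
    (hp : IsPGroup p U₀) :
    ∃ e₀ e₁ : F, (e₀ ≠ 0 ∨ e₁ ≠ 0) ∧
      ∀ u ∈ U₀, u.1 0 0 * e₀ + u.1 0 1 * e₁ = e₀ ∧ u.1 1 0 * e₀ + u.1 1 1 * e₁ = e₁ := by
  letI act : MulAction U₀ (F × F) :=
    { smul := fun u v => (u.1.1 0 0 * v.1 + u.1.1 0 1 * v.2, u.1.1 1 0 * v.1 + u.1.1 1 1 * v.2)
      one_smul := by
        rintro ⟨a, b⟩
        show ((1 : SL(2, F)).1 0 0 * a + (1 : SL(2, F)).1 0 1 * b,
          (1 : SL(2, F)).1 1 0 * a + (1 : SL(2, F)).1 1 1 * b) = (a, b)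
        simp
      mul_smul := by
        rintro ⟨u, hu⟩ ⟨v, hv⟩ ⟨a, b⟩
        show ((u * v).1 0 0 * a + (u * v).1 0 1 * b, (u * v).1 1 0 * a + (u * v).1 1 1 * b) =
          (u.1 0 0 * (v.1 0 0 * a + v.1 0 1 * b) + u.1 0 1 * (v.1 1 0 * a + v.1 1 1 * b),
           u.1 1 0 * (v.1 0 0 * a + v.1 0 1 * b) + u.1 1 1 * (v.1 1 0 * a + v.1 1 1 * b))
        simp only [mul_00, mul_01, mul_10, mul_11]
        ext <;> simp <;> ring }
  have hdvd : p ∣ Nat.card (F × F) := by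
    rw [Nat.card_prod]
    have h1 : p ∣ Nat.card F := by
      haveI := Fintype.ofFinite F
      rw [Nat.card_eq_fintype_card, ← CharP.cast_eq_zero_iff F p]
      exact Nat.cast_card_eq_zero F
    exact Dvd.dvd.mul_left h1 _
  have h0 : ((0, 0) : F × F) ∈ MulAction.fixedPoints U₀ (F × F) := by
    intro u
    show (u.1.1 0 0 * 0 + u.1.1 0 1 * 0, u.1.1 1 0 * 0 + u.1.1 1 1 * 0) = (0, 0)
    simp
  obtain ⟨⟨e₀, e₁⟩, hb, hne⟩ := hp.exists_fixed_point_of_prime_dvd_card_of_fixed_point (F × F) hdvd h0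
  refine ⟨e₀, e₁, ?_, ?_⟩
  · by_contra hc
    push Not at hc
    apply hne
    rw [hc.1, hc.2]
  · intro u hu
    have h1 := hb ⟨u, hu⟩
    have h2 : (u.1 0 0 * e₀ + u.1 0 1 * e₁, u.1 1 0 * e₀ + u.1 1 1 * e₁) = (e₀, e₁) := h1
    exact ⟨congrArg Prod.fst h2, congrArg Prod.snd h2⟩

theorem exists_column (e₀ e₁ : F) (he : e₀ ≠ 0 ∨ e₁ ≠ 0) :
    ∃ k : SL(2, F), k.1 0 0 = e₀ ∧ k.1 1 0 = e₁ := by
  by_cases h0 : e₀ = 0
  · have h1 : e₁ ≠ 0 := by
      rcases he with h | h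
      · exact absurd h0 h
      · exact h
    refine ⟨⟨!![e₀, -1 / e₁; e₁, 0], ?_⟩, rfl, rfl⟩
    simp [Matrix.det_fin_two, h0]
    field_simp
  · refine ⟨⟨!![e₀, 0; e₁, 1 / e₀], ?_⟩, rfl, rfl⟩
    simp [Matrix.det_fin_two]
    field_simp

/-- A `p`-subgroup of order `|F|` is conjugate to the upper unitriangular matrices. -/
theorem exists_up_conj {p : ℕ} [Fact p.Prime] [CharP F p] [Finite F] (U₀ : Subgroup SL(2, F))
    (hp : IsPGroup p U₀) (hcard : Nat.card U₀ = Nat.card F) : ∃ k : SL(2, F), UHyp (cj k U₀) := by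
  obtain ⟨e₀, e₁, hne, hfix⟩ := exists_fixed U₀ hp
  obtain ⟨k, hk0, hk1⟩ := exists_column e₀ e₁ hne
  refine ⟨k⁻¹, ?_⟩
  have hform : ∀ x ∈ cj k⁻¹ U₀, x = up (x.1 0 1) := by
    intro x hx
    rw [mem_cj] at hx
    obtain ⟨h1, h2⟩ := hfix _ hx
    have hdk := det_eq k
    rw [hk0, hk1] at hdk
    set u := k⁻¹⁻¹ * x * k⁻¹ with hu
    have hxu : x = k⁻¹ * u * k := by
      rw [hu]
      group
    have h00 : x.1 0 0 = 1 := by
      rw [hxu]
      simp only [mul_00, mul_01, mul_10, mul_11, inv_00, inv_01, inv_10, inv_11, hk0, hk1]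
      linear_combination k.1 1 1 * h1 - k.1 0 1 * h2 + hdk
    have h10 : x.1 1 0 = 0 := by
      rw [hxu]
      simp only [mul_00, mul_01, mul_10, mul_11, inv_00, inv_01, inv_10, inv_11, hk0, hk1]
      linear_combination -e₁ * h1 + e₀ * h2
    have h11 : x.1 1 1 = 1 := by
      have hd := det_eq x
      rw [h00, h10] at hd
      linear_combination hd
    apply sl_ext <;> simp [h00, h10, h11]
  have hinj : Function.Injective (fun x : cj k⁻¹ U₀ => (x : SL(2, F)).1 0 1) := by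
    intro x y hxy
    apply Subtype.ext
    rw [hform x x.2, hform y y.2]
    exact congrArg up hxy
  have hc : Nat.card (cj k⁻¹ U₀) = Nat.card F := by
    rw [card_cj, hcard]
  have hbij := (Nat.bijective_iff_injective_and_card _).2 ⟨hinj, hc⟩
  refine ⟨?_, fun x hx => ⟨_, hform x hx⟩⟩
  intro t
  obtain ⟨x, hx⟩ := hbij.2 t
  have h1 := hform x x.2
  have h2 : (x : SL(2, F)).1 0 1 = t := hx
  rw [h2] at h1
  rw [← h1]
  exact x.2

theorem uhyp_ne {U : Subgroup SL(2, F)} (hU : UHyp U) : ∃ k, cj k U ≠ U := by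
  refine ⟨wy, ?_⟩
  rw [Ne, hU.cj_eq_iff]
  simp

theorem uhyp_weak {U : Subgroup SL(2, F)} (hU : UHyp U) (k : SL(2, F))
    (h : cj k U ≤ normalizer (U : Set SL(2, F))) : cj k U = U := by
  rw [hU.cj_eq_iff]
  have h1 := h (conj_mem_cj (hU.up_mem (1 : F)) (g := k))
  rw [← cj_eq_self_iff, hU.cj_eq_iff, conj_up_10] at h1
  simpa using h1

end sl2

/-- The case `L / O_p(L) ≅ SL₂(F)`. -/
theorem case_sl2 {L : Type*} [Group L] [Finite L] {p : ℕ} [Fact p.Prime] {Y : Subgroup L}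
    (hU : Unp p Y) {F : Type} [Field F] [Fintype F]
    (hcard : Fintype.card F = (pCore p L).relIndex Y) (e : L ⧸ pCore p L ≃* SL(2, F))
    {h a : L} (ha : a ∈ pCore p L) (hc : h * a * h⁻¹ * a⁻¹ ∈ Y ⊓ center L)
    (hnp : ¬ ∃ k : ℕ, orderOf h = p ^ k) : a ∈ Y ⊓ center L := by
  have hcard' : Nat.card (Y.map (mkP e 1)) = Nat.card F := by
    rw [← mkP_card, Nat.card_eq_fintype_card, hcard]
  -- the characteristic
  obtain ⟨r, hr⟩ := CharP.exists F
  obtain ⟨n, hrp, hn⟩ := FiniteField.card F r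
  haveI : Fact r.Prime := ⟨hrp⟩
  have hP : IsPGroup p (Y.map (mkP e 1)) := mkP_isP hU e 1
  have hrp' : r = p := by
    obtain ⟨j, hj⟩ := IsPGroup.iff_card.1 hP
    rw [hcard', Nat.card_eq_fintype_card, hn] at hj
    have h1 : r ∣ p ^ j := by
      rw [← hj]
      exact dvd_pow_self r n.ne_zero
    exact (Nat.prime_dvd_prime_iff_eq hrp (Fact.out : p.Prime)).1 (hrp.dvd_of_dvd_pow h1)
  subst hrp'
  obtain ⟨k, hk⟩ := exists_up_conj (Y.map (mkP e 1)) hP hcard'
  rw [← mkP_map e k Y] at hk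
  have hL : LHyp r Y (mkP e k) := lhyp_of hU e k (uhyp_ne hk) (uhyp_weak hk)
  refine hL.conclude ?_ ha hc hnp
  intro C _ hCk hC x v hv hx
  have hS := hL.setup_quot hC hCk
  apply sl2_fpf hS _ _ hv hx
  · rw [map_quot_map]
    exact hk
  · rintro _ ⟨⟨y, hy, rfl⟩, -⟩
    rw [← map_pow, hU.pow y hy, map_one]

theorem mkP_map_ne_bot {L H : Type*} [Group L] [Group H] [Nontrivial H] {p : ℕ} [Fact p.Prime]
    {Y : Subgroup L} (hU : Unp p Y) (e : L ⧸ pCore p L ≃* H) (k : H) : Y.map (mkP e k) ≠ ⊥ := by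
  intro h
  have h1 : Y ≤ (mkP e k).ker := (Subgroup.map_eq_bot_iff _).1 h
  have h2 : normalClosure (Y : Set L) ≤ (mkP e k).ker := Subgroup.normalClosure_le_normal h1
  rw [hU.top] at h2
  obtain ⟨x, hx⟩ := exists_ne (1 : H)
  obtain ⟨l, rfl⟩ := mkP_surj e k x
  exact hx (h2 (Subgroup.mem_top l))

/-- The cases where the involution argument applies. -/
theorem case_b {L H : Type*} [Group L] [Finite L] [Group H] [Finite H] {p : ℕ} [Fact p.Prime]
    (hp2 : p = 2) {Y : Subgroup L} (hU : Unp p Y) (e : L ⧸ pCore p L ≃* H) (k : H)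
    (hB : BHyp (Y.map (mkP e k))) (hne : ∃ k', cj k' (Y.map (mkP e k)) ≠ Y.map (mkP e k))
    (hw : ∀ k', cj k' (Y.map (mkP e k)) ≤ normalizer ((Y.map (mkP e k) : Subgroup H) : Set H) →
      cj k' (Y.map (mkP e k)) = Y.map (mkP e k))
    {h a : L} (ha : a ∈ pCore p L) (hc : h * a * h⁻¹ * a⁻¹ ∈ Y ⊓ center L)
    (hnp : ¬ ∃ k : ℕ, orderOf h = p ^ k) : a ∈ Y ⊓ center L := by
  subst hp2
  have hL : LHyp 2 Y (mkP e k) := lhyp_of hU e k hne hw
  refine hL.conclude ?_ ha hc hnp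
  intro C _ hCk hC x v hv hx
  have hS := hL.setup_quot hC hCk
  apply b_fpf hS _ hv hx
  rw [map_quot_map]
  exact hB

section dih

open DihedralGroup

variable {r : ℕ} [Fact r.Prime]

theorem dih_hyp (hr2 : r ≠ 2) (U : Subgroup (DihedralGroup r)) (hpow : ∀ u ∈ U, u ^ 2 = 1)
    (hne : U ≠ ⊥) :
    BHyp U ∧ (∃ k, cj k U ≠ U) ∧
      ∀ k, cj k U ≤ normalizer ((U : Subgroup (DihedralGroup r)) : Set (DihedralGroup r)) → cj k U = U := by
  have h2 : (2 : ZMod r) ≠ 0 := by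
    intro h
    have h3 : ((2 : ℕ) : ZMod r) = 0 := by exact_mod_cast h
    rw [ZMod.natCast_eq_zero_iff] at h3
    exact hr2 ((Nat.prime_dvd_prime_iff_eq (Fact.out : r.Prime) Nat.prime_two).1 h3)
  have hsq : ∀ j : ZMod r, (DihedralGroup.r j) ^ 2 = 1 → j = 0 := by
    intro j hj
    rw [pow_two, r_mul_r, one_def] at hj
    have h3 : j + j = 0 := DihedralGroup.r.inj hj
    have h4 : 2 * j = 0 := by rw [two_mul, h3]
    exact (mul_eq_zero.1 h4).resolve_left h2
  have hsq' : ∀ j : ZMod r, (sr j) ^ 2 = 1 := by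
    intro j
    rw [pow_two, sr_mul_sr, sub_self, one_def]
  have hrefl : ∀ x : DihedralGroup r, x ≠ 1 → x ^ 2 = 1 → ∃ j, x = sr j := by
    intro x hx hx2
    cases x with
    | r j =>
      exfalso
      apply hx
      rw [hsq j hx2, one_def]
    | sr j => exact ⟨j, rfl⟩
  obtain ⟨⟨u, huU⟩, hu1⟩ := Subgroup.ne_bot_iff_exists_ne_one.1 hne
  have hu1' : u ≠ 1 := fun h => hu1 (Subtype.ext h)
  obtain ⟨i₀, rfl⟩ := hrefl u hu1' (hpow u huU)
  have hU : ∀ x, x ∈ U ↔ x = 1 ∨ x = sr i₀ := by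
    intro x
    constructor
    · intro hx
      by_cases hx1 : x = 1
      · exact Or.inl hx1
      right
      obtain ⟨j, rfl⟩ := hrefl x hx1 (hpow x hx)
      have h3 := hpow _ (U.mul_mem huU hx)
      rw [sr_mul_sr] at h3
      have h4 := hsq _ h3
      rw [sub_eq_zero.1 h4]
    · rintro (rfl | rfl)
      · exact U.one_mem
      · exact huU
  have hne1 : (sr i₀ : DihedralGroup r) ≠ 1 := hu1'
  have hfix : ∀ g : DihedralGroup r, g * sr i₀ * g⁻¹ = sr i₀ → cj g U = U := by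
    intro g hg
    ext x
    rw [mem_cj, hU, hU]
    have h3 : g⁻¹ * x * g = sr i₀ ↔ x = sr i₀ := by
      constructor
      · intro h
        rw [← hg, ← h]
        group
      · rintro rfl
        nth_rw 1 [← hg]
        group
    have h4 : g⁻¹ * x * g = 1 ↔ x = 1 := by
      constructor
      · intro h
        have : x = g * (g⁻¹ * x * g) * g⁻¹ := by group
        rw [this, h]
        group
      · rintro rfl
        group
    rw [h3, h4]
  have hsr_inv : ∀ j : ZMod r, (sr j : DihedralGroup r)⁻¹ = sr j := fun j => rfl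
  have hr_inv : ∀ j : ZMod r, (DihedralGroup.r j)⁻¹ = DihedralGroup.r (-j) := fun j => rfl
  refine ⟨⟨hpow, ?_, ?_, ?_⟩, ?_, ?_⟩
  · intro g t ht1 htU htg
    have h3 : t = sr i₀ := ((hU t).1 htU).resolve_left ht1
    rw [h3] at htg
    have h4 := mem_cj.1 htg
    have h5 : g⁻¹ * sr i₀ * g = sr i₀ := by
      refine ((hU _).1 h4).resolve_left ?_
      intro h
      apply hne1
      have : sr i₀ = g * (g⁻¹ * sr i₀ * g) * g⁻¹ := by group
      rw [this, h]
      group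
    apply hfix
    nth_rw 1 [← h5]
    group
  · intro t ht1 ht2
    obtain ⟨j, rfl⟩ := hrefl t ht1 ht2
    refine ⟨DihedralGroup.r ((i₀ - j) / 2), ?_⟩
    rw [mem_cj, hU]
    right
    rw [hr_inv, r_mul_sr, sr_mul_r]
    congr 1
    field_simp
    ring
  · intro x hx1 hodd
    cases x with
    | sr j =>
      exfalso
      rw [orderOf_sr] at hodd
      exact absurd hodd (by decide)
    | r j =>
      refine ⟨sr 0, hsq' 0, ?_⟩
      rw [hsr_inv, sr_mul_r, sr_mul_sr, hr_inv]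
      congr 1
      ring
  · refine ⟨DihedralGroup.r 1, ?_⟩
    intro h
    have h3 : DihedralGroup.r 1 * sr i₀ * (DihedralGroup.r 1)⁻¹ ∈ U := by
      rw [← h]
      exact conj_mem_cj huU
    rw [hU, hr_inv, r_mul_sr, sr_mul_r] at h3
    rcases h3 with h3 | h3
    · rw [one_def] at h3
      cases h3
    · have h4 := sr.inj h3
      apply h2
      linear_combination -h4
  · intro k hk
    apply hfix
    set x := k * sr i₀ * k⁻¹ with hx
    have hxm : x ∈ normalizer ((U : Subgroup (DihedralGroup r)) : Set (DihedralGroup r)) :=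
      hk (conj_mem_cj huU)
    have hx1 : x ≠ 1 := by
      intro h
      apply hne1
      have : sr i₀ = k⁻¹ * (k * sr i₀ * k⁻¹) * k := by group
      rw [this, ← hx, h]
      group
    have hx2 : x ^ 2 = 1 := by
      rw [hx, conj_pow, hsq']
      group
    obtain ⟨j, hj⟩ := hrefl x hx1 hx2
    have h3 := (mem_normalizer_iff.1 hxm (sr i₀)).1 huU
    rw [hj, hsr_inv, sr_mul_sr, r_mul_sr, hU] at h3
    rcases h3 with h3 | h3
    · rw [one_def] at h3
      cases h3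
    · have h4 := sr.inj h3
      have h5 : 2 * (j - i₀) = 0 := by
        linear_combination h4
      have h6 := (mul_eq_zero.1 h5).resolve_left h2
      rw [hj, sub_eq_zero.1 h6]

end dih

end Cfsg.Agent.Lib.LocalY.FrakL3
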