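import Mathlib
import Cfsg.Agent.Lib.LocalY.FrakL3
import Cfsg.Agent.Lib.Suzuki.Solub4
import Cfsg.Agent.Lib.Suzuki.Iso
import Cfsg.Agent.Lib.Suzuki.Fixity

/-! The centre of a Sylow 2-subgroup of a Suzuki group satisfies the hypotheses of the involution
argument. -/

set_option autoImplicit false

namespace Cfsg.Agent.Lib.LocalY.FrakL4

open Cfsg.Agent.Lib.Suzuki.Basic Cfsg.Agent.Lib.Suzuki.Group Cfsg.Agent.Lib.Suzuki.Struct
  Cfsg.Agent.Lib.Suzuki.Order Cfsg.Agent.Lib.Suzuki.Zass Cfsg.Agent.Lib.Suzuki.Sub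
  Cfsg.Agent.Lib.Suzuki.Syl Cfsg.Agent.Lib.Suzuki.Gen Cfsg.Agent.Lib.Suzuki.Fix
  Cfsg.Agent.Lib.Suzuki.Cent Cfsg.Agent.Lib.Suzuki.Types Cfsg.Agent.Lib.Suzuki.Tori1
  Cfsg.Agent.Lib.Suzuki.Tori2 Cfsg.Agent.Lib.Suzuki.Tori3 Cfsg.Agent.Lib.Suzuki.Part
  Cfsg.Agent.Lib.Suzuki.SubAbs Cfsg.Agent.Lib.Suzuki.SubG Cfsg.Agent.Lib.Suzuki.SubOdd
  Cfsg.Agent.Lib.Suzuki.SubMain Cfsg.Agent.Lib.Suzuki.SubEmb Cfsg.Agent.Lib.Suzuki.Classify
  Cfsg.Agent.Lib.Suzuki.Fixity Cfsg.Agent.Lib.Suzuki.Solub Cfsg.Agent.Lib.Suzuki.Solub2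
  Cfsg.Agent.Lib.Suzuki.Solub3 Cfsg.Agent.Lib.Suzuki.Solub4
  Cfsg.Agent.Lib.PGroup.WeaklyClosed Cfsg.Agent.Lib.LocalY.FrakL

theorem conj_pow_inv_eq {X : Type*} [Group X] (g u : X) (hu : u ^ 2 = 1) : (g⁻¹ * u * g) ^ 2 = 1 := by
  have h1 : g⁻¹ * u * g = g⁻¹ * u * g⁻¹⁻¹ := by simp
  rw [h1, conj_pow, hu]
  group

variable {F : Type*} [Field F] [Fintype F] {m : ℕ} (h : Hyp F m)
include h

theorem Z_fix {z : G F m} {w : Om F m} (hz : z ∈ Zsub h) (hz1 : z ≠ 1) (hw : z • w = w) : w = oI := by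
  obtain ⟨b, rfl⟩ := hz
  rcases om_cases w with h1 | ⟨x, y, rfl⟩
  · exact h1
  exfalso
  rw [Lg_oA h] at hw
  have h2 := (oA_inj hw).2
  have hb : b = 0 := by
    have h3 := zero_pow_sg h (F := F) (m := m)
    rw [h3, zero_mul, add_zero] at h2
    linear_combination h2
  apply hz1
  rw [hb, Lg_zero h]

theorem Z_oI {z : G F m} (hz : z ∈ Zsub h) : z • (oI : Om F m) = oI := by
  obtain ⟨b, rfl⟩ := hz
  exact Lg_oI h 0 b

theorem cj_Z_of_fix {g : G F m} (hg : g • (oI : Om F m) = oI) : cj g (Zsub h) = Zsub h :=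
  cj_eq_self_iff.2 (Bor_le_normalizer_Z h (MulAction.mem_stabilizer_iff.mpr hg))

theorem fix_of_conj_mem {g z : G F m} (hz : z ∈ Zsub h) (hz1 : z ≠ 1) (hg : g * z * g⁻¹ ∈ Zsub h) :
    g • (oI : Om F m) = oI := by
  have h1 := Z_oI h hg
  have h2 : z • (g⁻¹ • (oI : Om F m)) = g⁻¹ • (oI : Om F m) := by
    calc z • (g⁻¹ • (oI : Om F m)) = g⁻¹ • ((g * z * g⁻¹) • (oI : Om F m)) := by
          simp [mul_smul]
      _ = g⁻¹ • (oI : Om F m) := by rw [h1]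
  have h3 := Z_fix h hz hz1 h2
  rw [inv_smul_eq_iff] at h3
  exact h3.symm

theorem z₀_mem : Lg h (0 : F) 1 ∈ Zsub h := ⟨1, rfl⟩

theorem z₀_ne : Lg h (0 : F) 1 ≠ 1 := by
  intro h1
  rw [← Lg_zero h] at h1
  exact one_ne_zero (Lg_inj h h1).2

theorem sq_Lg {a b : F} (h1 : (Lg h a b) ^ 2 = 1) : a = 0 := by
  rw [pow_two, Lg_mul h, h.add_self, ← Lg_zero h] at h1
  have h2 := (Lg_inj h h1).2
  rw [h.add_self, zero_add] at h2
  rcases mul_eq_zero.1 h2 with h3 | h3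
  · exact h.pow_sg_eq_zero h3
  · exact h3

/-- The centre of `U` has the properties needed. -/
theorem bhyp_Z : BHyp (Zsub h) := by
  refine ⟨?_, ?_, ?_, ?_⟩
  · rintro _ ⟨b, rfl⟩
    rw [pow_two, Lg_mul h, h.add_self, h.add_self, zero_pow_sg h, zero_mul, add_zero, Lg_zero h]
  · intro g t ht1 htZ hgt
    rw [mem_cj] at hgt
    apply cj_Z_of_fix h
    have h1 := fix_of_conj_mem h (g := g⁻¹) htZ ht1 (by simpa using hgt)
    rw [inv_smul_eq_iff] at h1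
    exact h1.symm
  · intro t ht1 ht2
    have hP : IsPGroup 2 (Subgroup.zpowers t) := by
      apply IsPGroup.of_card (n := 1)
      rw [Nat.card_zpowers, orderOf_eq_prime ht2 ht1, pow_one]
    obtain ⟨P, hP'⟩ := hP.exists_le_sylow
    obtain ⟨g, hg⟩ := exists_conj h P
    refine ⟨g, ?_⟩
    have h1 : t ∈ (P : Subgroup (G F m)) := hP' (Subgroup.mem_zpowers t)
    rw [hg, mem_cj] at h1
    obtain ⟨a, b, he⟩ := h1
    rw [mem_cj]
    have h2 : (Lg h a b) ^ 2 = 1 := by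
      rw [← he, conj_pow_inv_eq g t ht2]
    have h3 := sq_Lg h h2
    rw [h3] at he
    exact ⟨b, he⟩
  · intro x hx1 hodd
    have h4 : x ^ 4 ≠ 1 := by
      intro h5
      have h6 := orderOf_dvd_of_pow_eq_one h5
      have h7 : orderOf x ∣ 2 ^ 2 := h6
      obtain ⟨i, hi, hi2⟩ := (Nat.dvd_prime_pow Nat.prime_two).1 h7
      interval_cases i
      · exact hx1 (orderOf_eq_one_iff.1 hi2)
      · rw [hi2] at hodd
        exact absurd hodd (by decide)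
      · rw [hi2] at hodd
        exact absurd hodd (by decide)
    have hP := part_cent h h4
    have hdvd : 2 ∣ Nat.card (Subgroup.normalizer ((cent x : Subgroup (G F m)) : Set (G F m))) := by
      rcases part_cases h hP with ⟨g, hg⟩ | hT
      · rw [hg, card_norm_D h g]
        exact dvd_mul_of_dvd_left (by norm_num) _
      · rw [card_norm_tor h hT]
        exact dvd_mul_of_dvd_left (by norm_num) _
    obtain ⟨z, hz⟩ := exists_prime_orderOf_dvd_card' 2 hdvd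
    have hz2 : (z : G F m) * z = 1 := by
      have h5 := pow_orderOf_eq_one z
      rw [hz, pow_two] at h5
      exact congrArg Subtype.val h5
    have hz1 : (z : G F m) ≠ 1 := by
      intro h5
      have h6 : z = 1 := Subtype.ext h5
      rw [h6, orderOf_one] at hz
      exact absurd hz (by norm_num)
    have hI : IsInv (z : G F m) := ⟨hz1, hz2⟩
    refine ⟨z, by rw [pow_two]; exact hz2, ?_⟩
    exact invert h hI h4 ((mem_norm_iff h h4).1 z.2)

theorem ne_Z : ∃ k, cj k (Zsub h) ≠ Zsub h := by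
  refine ⟨Tg h, ?_⟩
  intro h1
  have h2 : Tg h * Lg h (0 : F) 1 * (Tg h)⁻¹ ∈ Zsub h := by
    rw [← h1]
    exact conj_mem_cj (z₀_mem h)
  have h3 := fix_of_conj_mem h (z₀_mem h) (z₀_ne h) h2
  rw [Tg_oI h] at h3
  exact oA_ne_oI _ _ h3

theorem weak_Z (k : G F m)
    (hk : cj k (Zsub h) ≤ Subgroup.normalizer ((Zsub h : Subgroup (G F m)) : Set (G F m))) :
    cj k (Zsub h) = Zsub h := by
  apply cj_Z_of_fix h
  set t := k * Lg h (0 : F) 1 * k⁻¹ with ht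
  have ht1 : t ∈ Subgroup.normalizer ((Zsub h : Subgroup (G F m)) : Set (G F m)) :=
    hk (conj_mem_cj (z₀_mem h))
  have h2 : t * Lg h (0 : F) 1 * t⁻¹ ∈ Zsub h :=
    (Subgroup.mem_normalizer_iff.1 ht1 _).1 (z₀_mem h)
  have h3 := fix_of_conj_mem h (z₀_mem h) (z₀_ne h) h2
  have h4 : k⁻¹ * t * k = Lg h (0 : F) 1 := by
    rw [ht]
    group
  have h5 : Lg h (0 : F) 1 • (k⁻¹ • (oI : Om F m)) = k⁻¹ • (oI : Om F m) := by
    calc Lg h (0 : F) 1 • (k⁻¹ • (oI : Om F m)) = k⁻¹ • (t • (oI : Om F m)) := by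
          rw [← h4]
          simp [mul_smul]
      _ = k⁻¹ • (oI : Om F m) := by rw [h3]
  have h6 := Z_fix h (z₀_mem h) (z₀_ne h) h5
  rw [inv_smul_eq_iff] at h6
  exact h6.symm

/-- An elementary abelian subgroup of order `|F|` is a conjugate of `Z`. -/
theorem exists_conj_Z (U : Subgroup (G F m)) (hpow : ∀ u ∈ U, u ^ 2 = 1)
    (hcard : Nat.card U = Fintype.card F) : ∃ k : G F m, cj k U = Zsub h := by
  have hP : IsPGroup 2 U := by
    intro u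
    refine ⟨1, ?_⟩
    apply Subtype.ext
    simpa using hpow u u.2
  obtain ⟨P, hP'⟩ := hP.exists_le_sylow
  obtain ⟨g, hg⟩ := exists_conj h P
  refine ⟨g⁻¹, ?_⟩
  apply Subgroup.eq_of_le_of_card_ge
  · rintro _ ⟨u, hu, rfl⟩
    have h1 : u ∈ (P : Subgroup (G F m)) := hP' hu
    rw [hg, mem_cj] at h1
    obtain ⟨a, b, he⟩ := h1
    have h2 : (Lg h a b) ^ 2 = 1 := by
      rw [← he, conj_pow_inv_eq g u (hpow u hu)]
    have h3 := sq_Lg h h2
    rw [h3] at he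
    refine ⟨b, ?_⟩
    rw [← he]
    simp [MulAut.conj_apply]
  · rw [card_Zsub h, card_cj, hcard]

end Cfsg.Agent.Lib.LocalY.FrakL4
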