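import Mathlib
import Cfsg.Agent.Lib.LocalY.FrakL4

/-! The Suzuki group over the field with two elements has a subgroup of index two containing all
its involutions. -/

set_option autoImplicit false

namespace Cfsg.Agent.Lib.LocalY.FrakL5

open Subgroup Cfsg.Agent.Lib.LocalY.FrakL Cfsg.Agent.Lib.LocalY.FrakL3 Cfsg.Agent.Lib.PGroup.WeaklyClosed

/-- Matrices over the two element field, entrywise. -/
structure B16 where
  (a00 a01 a02 a03 a10 a11 a12 a13 a20 a21 a22 a23 a30 a31 a32 a33 : Bool)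
  deriving DecidableEq

/-- The product. -/
def bmul (x y : B16) : B16 :=
  ⟨(x.a00 && y.a00) ^^ (x.a01 && y.a10) ^^ (x.a02 && y.a20) ^^ (x.a03 && y.a30),
   (x.a00 && y.a01) ^^ (x.a01 && y.a11) ^^ (x.a02 && y.a21) ^^ (x.a03 && y.a31),
   (x.a00 && y.a02) ^^ (x.a01 && y.a12) ^^ (x.a02 && y.a22) ^^ (x.a03 && y.a32),
   (x.a00 && y.a03) ^^ (x.a01 && y.a13) ^^ (x.a02 && y.a23) ^^ (x.a03 && y.a33),
   (x.a10 && y.a00) ^^ (x.a11 && y.a10) ^^ (x.a12 && y.a20) ^^ (x.a13 && y.a30),
   (x.a10 && y.a01) ^^ (x.a11 && y.a11) ^^ (x.a12 && y.a21) ^^ (x.a13 && y.a31),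
   (x.a10 && y.a02) ^^ (x.a11 && y.a12) ^^ (x.a12 && y.a22) ^^ (x.a13 && y.a32),
   (x.a10 && y.a03) ^^ (x.a11 && y.a13) ^^ (x.a12 && y.a23) ^^ (x.a13 && y.a33),
   (x.a20 && y.a00) ^^ (x.a21 && y.a10) ^^ (x.a22 && y.a20) ^^ (x.a23 && y.a30),
   (x.a20 && y.a01) ^^ (x.a21 && y.a11) ^^ (x.a22 && y.a21) ^^ (x.a23 && y.a31),
   (x.a20 && y.a02) ^^ (x.a21 && y.a12) ^^ (x.a22 && y.a22) ^^ (x.a23 && y.a32),
   (x.a20 && y.a03) ^^ (x.a21 && y.a13) ^^ (x.a22 && y.a23) ^^ (x.a23 && y.a33),
   (x.a30 && y.a00) ^^ (x.a31 && y.a10) ^^ (x.a32 && y.a20) ^^ (x.a33 && y.a30),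
   (x.a30 && y.a01) ^^ (x.a31 && y.a11) ^^ (x.a32 && y.a21) ^^ (x.a33 && y.a31),
   (x.a30 && y.a02) ^^ (x.a31 && y.a12) ^^ (x.a32 && y.a22) ^^ (x.a33 && y.a32),
   (x.a30 && y.a03) ^^ (x.a31 && y.a13) ^^ (x.a32 && y.a23) ^^ (x.a33 && y.a33)⟩

/-- The identity. -/
def bone : B16 := ⟨true, false, false, false, false, true, false, false, false, false, true, false, false, false, false, true⟩

/-- All elements. -/
def T20 : List B16 :=
  [⟨false, false, false, true, false, false, true, false, false, true, false, false, true, false, false, false⟩,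
   ⟨true, true, false, true, true, false, true, false, false, true, false, false, true, false, false, false⟩,
   ⟨true, true, true, true, false, true, true, false, true, true, false, false, true, false, false, false⟩,
   ⟨true, false, true, true, true, true, true, false, true, true, false, false, true, false, false, false⟩,
   ⟨true, false, false, false, false, true, false, false, false, false, true, false, false, false, false, true⟩,
   ⟨true, false, true, true, false, true, false, true, false, false, true, false, false, false, false, true⟩,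
   ⟨true, true, true, true, false, true, true, false, false, false, true, true, false, false, false, true⟩,
   ⟨true, true, false, true, false, true, true, true, false, false, true, true, false, false, false, true⟩,
   ⟨true, false, false, false, false, true, false, false, true, false, true, false, true, true, false, true⟩,
   ⟨true, true, true, true, true, false, false, true, true, false, true, false, true, true, false, true⟩,
   ⟨true, false, true, true, true, true, true, false, false, true, true, true, true, true, false, true⟩,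
   ⟨false, false, false, true, false, false, true, true, false, true, true, true, true, true, false, true⟩,
   ⟨true, false, false, false, true, true, false, false, true, true, true, false, true, false, true, true⟩,
   ⟨true, true, false, true, false, true, true, true, true, true, true, false, true, false, true, true⟩,
   ⟨false, false, false, true, false, false, true, false, false, true, false, true, true, false, true, true⟩,
   ⟨true, true, true, true, true, false, false, true, false, true, false, true, true, false, true, true⟩,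
   ⟨true, false, false, false, true, true, false, false, false, true, true, false, true, true, true, true⟩,
   ⟨false, false, false, true, false, false, true, true, false, true, true, false, true, true, true, true⟩,
   ⟨true, true, false, true, true, false, true, false, true, false, false, true, true, true, true, true⟩,
   ⟨true, false, true, true, false, true, false, true, true, false, false, true, true, true, true, true⟩]

/-- The elements of the subgroup of index two. -/
def T10 : List B16 :=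
  [⟨false, false, false, true, false, false, true, false, false, true, false, false, true, false, false, false⟩,
   ⟨true, true, false, true, true, false, true, false, false, true, false, false, true, false, false, false⟩,
   ⟨true, false, false, false, false, true, false, false, false, false, true, false, false, false, false, true⟩,
   ⟨true, false, true, true, false, true, false, true, false, false, true, false, false, false, false, true⟩,
   ⟨true, false, false, false, false, true, false, false, true, false, true, false, true, true, false, true⟩,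
   ⟨true, true, true, true, true, false, false, true, true, false, true, false, true, true, false, true⟩,
   ⟨false, false, false, true, false, false, true, false, false, true, false, true, true, false, true, true⟩,
   ⟨true, true, true, true, true, false, false, true, false, true, false, true, true, false, true, true⟩,
   ⟨true, true, false, true, true, false, true, false, true, false, false, true, true, true, true, true⟩,
   ⟨true, false, true, true, false, true, false, true, true, false, false, true, true, true, true, true⟩]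

/-- The equations defining the group. -/
def bchk (x : B16) : Bool :=
  (x.a00 == ((x.a00 && x.a11) ^^ (x.a10 && x.a01))) &&
  (x.a01 == ((x.a00 && x.a12) ^^ (x.a10 && x.a02))) &&
  (x.a02 == ((x.a01 && x.a13) ^^ (x.a11 && x.a03))) &&
  (x.a03 == ((x.a02 && x.a13) ^^ (x.a12 && x.a03))) &&
  (x.a10 == ((x.a00 && x.a21) ^^ (x.a20 && x.a01))) &&
  (x.a11 == ((x.a00 && x.a22) ^^ (x.a20 && x.a02))) &&
  (x.a12 == ((x.a01 && x.a23) ^^ (x.a21 && x.a03))) &&
  (x.a13 == ((x.a02 && x.a23) ^^ (x.a22 && x.a03))) &&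
  (x.a20 == ((x.a10 && x.a31) ^^ (x.a30 && x.a11))) &&
  (x.a21 == ((x.a10 && x.a32) ^^ (x.a30 && x.a12))) &&
  (x.a22 == ((x.a11 && x.a33) ^^ (x.a31 && x.a13))) &&
  (x.a23 == ((x.a12 && x.a33) ^^ (x.a32 && x.a13))) &&
  (x.a30 == ((x.a20 && x.a31) ^^ (x.a30 && x.a21))) &&
  (x.a31 == ((x.a20 && x.a32) ^^ (x.a30 && x.a22))) &&
  (x.a32 == ((x.a21 && x.a33) ^^ (x.a31 && x.a23))) &&
  (x.a33 == ((x.a22 && x.a33) ^^ (x.a32 && x.a23))) &&
  (((x.a00 && x.a31) ^^ (x.a10 && x.a21) ^^ (x.a20 && x.a11) ^^ (x.a30 && x.a01)) == false) &&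
  (((x.a00 && x.a33) ^^ (x.a10 && x.a23) ^^ (x.a20 && x.a13) ^^ (x.a30 && x.a03)) == true) &&
  (((x.a02 && x.a33) ^^ (x.a12 && x.a23) ^^ (x.a22 && x.a13) ^^ (x.a32 && x.a03)) == false)

theorem chk_all : ∀ a00 a01 a02 a03 a10 a11 a12 a13 a20 a21 a22 a23 a30 a31 a32 a33 : Bool,
    bchk ⟨a00, a01, a02, a03, a10, a11, a12, a13, a20, a21, a22, a23, a30, a31, a32, a33⟩ = true → (⟨a00, a01, a02, a03, a10, a11, a12, a13, a20, a21, a22, a23, a30, a31, a32, a33⟩ : B16) ∈ T20 := by
  decide +kernel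

theorem chk_mul : ∀ x ∈ T20, ∀ y ∈ T20, bmul x y ∈ T20 ∧ (bmul x y ∈ T10 ↔ (x ∈ T10 ↔ y ∈ T10)) := by
  decide +kernel

theorem chk_sq : ∀ x ∈ T20, bmul x x = bone → x ∈ T10 := by
  decide +kernel

theorem chk_one : bone ∈ T20 := by
  decide +kernel

section bridge

variable {F : Type} [Field F] [Fintype F] (hF : Fintype.card F = 2)

open Classical in
/-- Reading an element of the two element field as a Boolean. -/
noncomputable def bf (x : F) : Bool := decide (x ≠ 0)

theorem bf_zero : bf (0 : F) = false := by simp [bf]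

theorem bf_one : bf (1 : F) = true := by simp [bf]

include hF

theorem mem01 (x : F) : x = 0 ∨ x = 1 := by
  have h := FiniteField.pow_card x
  rw [hF] at h
  have h2 : x * (x - 1) = 0 := by linear_combination h
  rcases mul_eq_zero.1 h2 with h3 | h3
  · exact Or.inl h3
  · exact Or.inr (sub_eq_zero.1 h3)

theorem one_add_one : (1 : F) + 1 = 0 := by
  rcases mem01 hF ((1 : F) + 1) with h | h
  · exact h
  · exact absurd (by linear_combination h : (1 : F) = 0) one_ne_zero

theorem two_eq : (2 : F) = 0 := by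
  rw [← one_add_one hF]
  norm_num

theorem sq_eq (x : F) : x ^ 2 = x := by
  have h := FiniteField.pow_card x
  rwa [hF] at h

theorem bf_add (x y : F) : bf (x + y) = (bf x ^^ bf y) := by
  rcases mem01 hF x with rfl | rfl <;> rcases mem01 hF y with rfl | rfl <;>
    simp [bf_zero, bf_one, one_add_one hF]

theorem bf_mul (x y : F) : bf (x * y) = (bf x && bf y) := by
  rcases mem01 hF x with rfl | rfl <;> rcases mem01 hF y with rfl | rfl <;>
    simp [bf_zero, bf_one]

theorem bf_sub (x y : F) : bf (x - y) = (bf x ^^ bf y) := by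
  have h : x - y = x + y := by
    linear_combination (-y) * two_eq hF
  rw [h, bf_add hF]

/-- The Boolean matrix of a matrix. -/
noncomputable def phi (M : Matrix (Fin 4) (Fin 4) F) : B16 :=
  ⟨bf (M 0 0), bf (M 0 1), bf (M 0 2), bf (M 0 3), bf (M 1 0), bf (M 1 1), bf (M 1 2), bf (M 1 3), bf (M 2 0), bf (M 2 1), bf (M 2 2), bf (M 2 3), bf (M 3 0), bf (M 3 1), bf (M 3 2), bf (M 3 3)⟩

omit hF in
theorem phi_def (M : Matrix (Fin 4) (Fin 4) F) : phi M = ⟨bf (M 0 0), bf (M 0 1), bf (M 0 2), bf (M 0 3), bf (M 1 0), bf (M 1 1), bf (M 1 2), bf (M 1 3), bf (M 2 0), bf (M 2 1), bf (M 2 2), bf (M 2 3), bf (M 3 0), bf (M 3 1), bf (M 3 2), bf (M 3 3)⟩ := rfl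

theorem phi_mul (M N : Matrix (Fin 4) (Fin 4) F) : phi (M * N) = bmul (phi M) (phi N) := by
  simp only [phi, bmul, Matrix.mul_apply, Fin.sum_univ_four, bf_add hF, bf_mul hF]

omit hF in
theorem phi_one : phi (1 : Matrix (Fin 4) (Fin 4) F) = bone := by
  simp [phi, bone, Matrix.one_apply, bf_zero, bf_one]

theorem phi_of_gen (g : GL (Fin 4) F) (hg : g ∈ Cfsg.Lie.Sp4 F)
    (hs : Cfsg.Lie.star4 (g : Matrix (Fin 4) (Fin 4) F) =
      (g : Matrix (Fin 4) (Fin 4) F).map (fun x => x ^ 2 ^ (0 + 1))) :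
    phi (g : Matrix (Fin 4) (Fin 4) F) ∈ T20 := by
  set M : Matrix (Fin 4) (Fin 4) F := (g : Matrix (Fin 4) (Fin 4) F) with hM
  have hst : ∀ p r : Fin 4, bf (M p r) = ((bf (M (Cfsg.Lie.pairOf p).1 (Cfsg.Lie.pairOf r).1) &&
      bf (M (Cfsg.Lie.pairOf p).2 (Cfsg.Lie.pairOf r).2)) ^^
      (bf (M (Cfsg.Lie.pairOf p).2 (Cfsg.Lie.pairOf r).1) &&
      bf (M (Cfsg.Lie.pairOf p).1 (Cfsg.Lie.pairOf r).2))) := by
    intro p r
    have h1 := congrFun (congrFun hs p) r
    have h2 : M (Cfsg.Lie.pairOf p).1 (Cfsg.Lie.pairOf r).1 * M (Cfsg.Lie.pairOf p).2 (Cfsg.Lie.pairOf r).2 -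
        M (Cfsg.Lie.pairOf p).2 (Cfsg.Lie.pairOf r).1 * M (Cfsg.Lie.pairOf p).1 (Cfsg.Lie.pairOf r).2 = M p r := by
      have h3 : (M.map (fun x => x ^ 2 ^ (0 + 1))) p r = M p r := by
        simp only [Matrix.map_apply]
        exact sq_eq hF _
      rw [← h3]
      exact h1
    rw [← h2, bf_sub hF, bf_mul hF, bf_mul hF]
  have hsp : ∀ i j : Fin 4, bf (M 0 i * M 3 j + M 1 i * M 2 j + M 2 i * M 1 j + M 3 i * M 0 j) =
      bf (Cfsg.Lie.altForm4 (Pi.single i 1 : Fin 4 → F) (Pi.single j 1)) := by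
    intro i j
    have h1 := hg (Pi.single i 1) (Pi.single j 1)
    rw [← h1]
    congr 1
    simp [Cfsg.Lie.altForm4, hM]
  have hsp' : ∀ i j : Fin 4, ((((bf (M 0 i) && bf (M 3 j)) ^^ (bf (M 1 i) && bf (M 2 j))) ^^
      (bf (M 2 i) && bf (M 1 j))) ^^ (bf (M 3 i) && bf (M 0 j))) =
      bf (Cfsg.Lie.altForm4 (Pi.single i 1 : Fin 4 → F) (Pi.single j 1)) := by
    intro i j
    rw [← hsp i j, bf_add hF, bf_add hF, bf_add hF, bf_mul hF, bf_mul hF, bf_mul hF, bf_mul hF]
  have h01 := hsp' 0 1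
  have h03 := hsp' 0 3
  have h23 := hsp' 2 3
  have a01 : Cfsg.Lie.altForm4 (Pi.single 0 1 : Fin 4 → F) (Pi.single 1 1) = 0 := by
    simp [Cfsg.Lie.altForm4]
  have a03 : Cfsg.Lie.altForm4 (Pi.single 0 1 : Fin 4 → F) (Pi.single 3 1) = 1 := by
    simp [Cfsg.Lie.altForm4]
  have a23 : Cfsg.Lie.altForm4 (Pi.single 2 1 : Fin 4 → F) (Pi.single 3 1) = 0 := by
    simp [Cfsg.Lie.altForm4]
  rw [a01, bf_zero] at h01
  rw [a03, bf_one] at h03
  rw [a23, bf_zero] at h23
  have key : bchk (phi M) = true := by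
    simp only [bchk, Bool.and_eq_true, beq_iff_eq]
    exact ⟨⟨⟨⟨⟨⟨⟨⟨⟨⟨⟨⟨⟨⟨⟨⟨⟨⟨hst 0 0, hst 0 1⟩, hst 0 2⟩, hst 0 3⟩, hst 1 0⟩, hst 1 1⟩, hst 1 2⟩, hst 1 3⟩, hst 2 0⟩, hst 2 1⟩, hst 2 2⟩, hst 2 3⟩, hst 3 0⟩, hst 3 1⟩, hst 3 2⟩, hst 3 3⟩, h01⟩, h03⟩, h23⟩
  exact chk_all _ _ _ _ _ _ _ _ _ _ _ _ _ _ _ _ key

/-- Elements of the group are among the listed ones. -/
theorem phi_mem (g : GL (Fin 4) F) (hg : g ∈ Cfsg.Lie.Sz F (2 ^ (0 + 1))) :
    phi (g : Matrix (Fin 4) (Fin 4) F) ∈ T20 := by
  have hpow : ∀ x : GL (Fin 4) F, phi (x : Matrix (Fin 4) (Fin 4) F) ∈ T20 → ∀ n : ℕ,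
      phi ((x ^ n : GL (Fin 4) F) : Matrix (Fin 4) (Fin 4) F) ∈ T20 := by
    intro x hx n
    induction n with
    | zero =>
      rw [pow_zero, Units.val_one, phi_one]
      exact chk_one
    | succ n ih =>
      rw [pow_succ, Units.val_mul, phi_mul hF]
      exact (chk_mul _ ih _ hx).1
  induction hg using Subgroup.closure_induction with
  | mem x hx => exact phi_of_gen hF x hx.1 hx.2
  | one =>
    rw [Units.val_one, phi_one]
    exact chk_one
  | mul x y _ _ hx hy =>
    rw [Units.val_mul, phi_mul hF]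
    exact (chk_mul _ hx _ hy).1
  | inv x _ hx =>
    have h1 : x⁻¹ = x ^ (orderOf x - 1) := by
      rw [inv_eq_iff_mul_eq_one, ← pow_succ', Nat.sub_add_cancel (orderOf_pos x), pow_orderOf_eq_one]
    rw [h1]
    exact hpow x hx _

/-- The order four element. -/
noncomputable def g4 : GL (Fin 4) F :=
  ⟨!![1, 1, 1, 1; 0, 1, 1, 0; 0, 0, 1, 1; 0, 0, 0, 1], !![1, 1, 0, 1; 0, 1, 1, 1; 0, 0, 1, 1; 0, 0, 0, 1],
    by
      ext i j
      fin_cases i <;> fin_cases j <;>
        simp [Matrix.mul_apply, Fin.sum_univ_four, one_add_one hF, two_eq hF] <;>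
        first | exact one_add_one hF | skip,
    by
      ext i j
      fin_cases i <;> fin_cases j <;>
        simp [Matrix.mul_apply, Fin.sum_univ_four, one_add_one hF, two_eq hF] <;>
        first | exact one_add_one hF | skip⟩

theorem g4_val : ((g4 hF : GL (Fin 4) F) : Matrix (Fin 4) (Fin 4) F) =
    !![1, 1, 1, 1; 0, 1, 1, 0; 0, 0, 1, 1; 0, 0, 0, 1] := rfl

theorem g4_mem : g4 hF ∈ Cfsg.Lie.Sz F (2 ^ (0 + 1)) := by
  apply Subgroup.subset_closure
  constructor
  · intro u v
    show Cfsg.Lie.altForm4 (((g4 hF : GL (Fin 4) F) : Matrix (Fin 4) (Fin 4) F).mulVec u)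
      (((g4 hF : GL (Fin 4) F) : Matrix (Fin 4) (Fin 4) F).mulVec v) = Cfsg.Lie.altForm4 u v
    rw [g4_val]
    simp [Cfsg.Lie.altForm4, Matrix.mulVec, dotProduct, Fin.sum_univ_four]
    linear_combination (u 1 * v 3 + u 2 * v 3 + u 3 * v 3 + u 2 * v 2 + u 3 * v 1 + u 3 * v 2) * two_eq hF
  · rw [g4_val]
    ext p r
    fin_cases p <;> fin_cases r <;> simp [Cfsg.Lie.star4, Cfsg.Lie.pairOf] <;>
      linear_combination (-1 : F) * two_eq hF

theorem phi_g4 : phi ((g4 hF : GL (Fin 4) F) : Matrix (Fin 4) (Fin 4) F) ∉ T10 := by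
  rw [g4_val]
  have h : phi (!![1, 1, 1, 1; 0, 1, 1, 0; 0, 0, 1, 1; 0, 0, 0, 1] : Matrix (Fin 4) (Fin 4) F) =
      ⟨true, true, true, true, false, true, true, false, false, false, true, true, false, false, false, true⟩ := by
    simp [phi, bf_zero, bf_one]
  rw [h]
  decide

/-- The sign character. -/
theorem exists_char : ∃ χ : ↥(Cfsg.Lie.Sz F (2 ^ (0 + 1))) →* ℤˣ, (∃ g, χ g ≠ 1) ∧
    ∀ g, g ^ 2 = 1 → χ g = 1 := by
  refine ⟨MonoidHom.mk' (fun g => if phi ((g : GL (Fin 4) F) : Matrix (Fin 4) (Fin 4) F) ∈ T10 then 1 else -1) ?_, ?_, ?_⟩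
  · intro g h
    have hg := phi_mem hF g g.2
    have hh := phi_mem hF h h.2
    have h1 := (chk_mul _ hg _ hh).2
    have h2 : phi (((g * h : ↥(Cfsg.Lie.Sz F (2 ^ (0 + 1)))) : GL (Fin 4) F) : Matrix (Fin 4) (Fin 4) F) =
        bmul (phi ((g : GL (Fin 4) F) : Matrix (Fin 4) (Fin 4) F)) (phi ((h : GL (Fin 4) F) : Matrix (Fin 4) (Fin 4) F)) := by
      rw [← phi_mul hF]
      rfl
    rw [h2]
    by_cases hg1 : phi ((g : GL (Fin 4) F) : Matrix (Fin 4) (Fin 4) F) ∈ T10 <;>
      by_cases hh1 : phi ((h : GL (Fin 4) F) : Matrix (Fin 4) (Fin 4) F) ∈ T10 <;>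
      simp [h1, hg1, hh1]
  · refine ⟨⟨g4 hF, g4_mem hF⟩, ?_⟩
    simp only [MonoidHom.mk'_apply]
    rw [if_neg (phi_g4 hF)]
    decide
  · intro g hg
    simp only [MonoidHom.mk'_apply]
    rw [if_pos]
    apply chk_sq _ (phi_mem hF g g.2)
    rw [← phi_mul hF, ← phi_one (F := F)]
    congr 1
    have h1 : g * g = 1 := by
      rw [← pow_two, hg]
    have h2 := congrArg (fun x : ↥(Cfsg.Lie.Sz F (2 ^ (0 + 1))) => ((x : GL (Fin 4) F) : Matrix (Fin 4) (Fin 4) F)) h1
    exact h2

end bridge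

theorem sz_zero {L : Type*} [Group L] [Finite L] {p : ℕ} [Fact p.Prime] (hp : p = 2) {Y : Subgroup L}
    (hU : Unp p Y) {F : Type} [Field F] [Fintype F] (hF : Fintype.card F = 2)
    (e : L ⧸ pCore p L ≃* ↥(Cfsg.Lie.Sz F (2 ^ (0 + 1)))) : False := by
  obtain ⟨χ, ⟨g, hg⟩, hχ⟩ := exists_char hF
  set f : L →* ℤˣ := χ.comp (mkP e 1) with hf
  have h1 : Y ≤ f.ker := by
    intro y hy
    rw [MonoidHom.mem_ker, hf, MonoidHom.comp_apply]
    apply hχ
    have h2 := mkP_pow hU e 1 (mkP e 1 y) ⟨y, hy, rfl⟩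
    generalize mkP e 1 y = u at h2
    rwa [hp] at h2
  have h2 : normalClosure (Y : Set L) ≤ f.ker := Subgroup.normalClosure_le_normal h1
  rw [hU.top] at h2
  obtain ⟨l, rfl⟩ := mkP_surj e 1 g
  exact hg (h2 (Subgroup.mem_top l))

end Cfsg.Agent.Lib.LocalY.FrakL5
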