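import Mathlib
import Cfsg.Prelude.Def_LocalStructure
import Cfsg.Agent.Lib.PSL2.SylowU
import Cfsg.Agent.Lib.Suzuki.Syl
import Cfsg.Agent.Lib.Suzuki.Iso
import Cfsg.Agent.Lib.Suzuki.Core
import Cfsg.Agent.Lib.LocalY.NoChar
import Cfsg.Agent.Lib.LocalY.FrakH

/-!
# The quotient `N_L(Y)/O_p(L)` for the members of `𝔏_G(Y)`

`Conf Y N V` packages the position of `Y`, `N = N_L(Y)` and a normal subgroup `V` of `N`
inside `L / O_p(L)`.
-/

set_option autoImplicit false
set_option linter.unusedSectionVars false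

namespace Cfsg.Agent.Lib.LocalY.FrakLSec

open Subgroup

section Conf

variable {A B : Type*} [Group A] [Group B]

/-- The configuration in the quotient. -/
structure Conf (Y N V : Subgroup A) : Prop where
  yn : Y ≤ N
  ny : ∀ n ∈ N, ∀ y ∈ Y, n * y * n⁻¹ ∈ Y
  max : ∀ X : Subgroup A, Y ≤ X → X ≠ ⊤ → X ≤ N
  vn : V ≤ N
  nv : ∀ n ∈ N, ∀ v ∈ V, n * v * n⁻¹ ∈ V

variable {Y N V : Subgroup A}

theorem Conf.map (h : Conf Y N V) (e : A ≃* B) :
    Conf (Y.map e.toMonoidHom) (N.map e.toMonoidHom) (V.map e.toMonoidHom) where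
  yn := Subgroup.map_mono h.yn
  ny := by
    rintro _ ⟨n, hn, rfl⟩ _ ⟨y, hy, rfl⟩
    exact ⟨n * y * n⁻¹, h.ny n hn y hy, by simp⟩
  max := by
    intro X hYX hX
    have h1 : X.comap e.toMonoidHom ≤ N := by
      apply h.max
      · intro y hy
        exact hYX ⟨y, hy, rfl⟩
      · intro ht
        apply hX
        rw [eq_top_iff]
        intro x _
        have h2 : e.symm x ∈ X.comap e.toMonoidHom := ht ▸ mem_top _
        simpa using h2
    intro x hx
    exact ⟨e.symm x, h1 (by simpa using hx), by simp⟩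
  vn := Subgroup.map_mono h.vn
  nv := by
    rintro _ ⟨n, hn, rfl⟩ _ ⟨y, hy, rfl⟩
    exact ⟨n * y * n⁻¹, h.nv n hn y hy, by simp⟩

theorem Conf.normalizer_le (h : Conf Y N V) (hne : normalizer (Y : Set A) ≠ ⊤) :
    normalizer (Y : Set A) ≤ N :=
  h.max _ le_normalizer hne

/-- A `p`-subgroup normal in `N` lies in any Sylow subgroup in `N`. -/
theorem Conf.le_sylow [Finite A] {p : ℕ} [Fact p.Prime] (h : Conf Y N V) (hVp : IsPGroup p V)
    (P : Sylow p A) (hPN : (P : Subgroup A) ≤ N) : V ≤ P := by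
  have hnorm : (P : Subgroup A) ≤ normalizer (V : Set A) := by
    intro x hx
    rw [mem_normalizer_iff]
    intro v
    constructor
    · intro hv
      exact h.nv x (hPN hx) v hv
    · intro hv
      have := h.nv x⁻¹ (inv_mem (hPN hx)) _ hv
      simpa [mul_assoc] using this
  have h1 : IsPGroup p ↥((P : Subgroup A) ⊔ V) := IsPGroup.to_sup_of_normal_right' P.2 hVp hnorm
  have h2 := P.3 h1 le_sup_left
  rw [← h2]
  exact le_sup_right

/-- Injectivity: to compare `V` and `Y`, conjugate them. -/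
theorem eq_of_map_eq (e : A ≃* B) {V Y : Subgroup A}
    (h : V.map e.toMonoidHom = Y.map e.toMonoidHom) : V = Y :=
  Subgroup.map_injective (f := e.toMonoidHom) e.injective h

theorem isPGroup_map {p : ℕ} (e : A ≃* B) {V : Subgroup A} (h : IsPGroup p V) :
    IsPGroup p (V.map e.toMonoidHom) := h.map _

theorem map_ne_bot (e : A ≃* B) {V : Subgroup A} (h : V ≠ ⊥) : V.map e.toMonoidHom ≠ ⊥ := by
  intro h2
  apply h
  apply Subgroup.map_injective (f := e.toMonoidHom) e.injective
  rw [h2, Subgroup.map_bot]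

theorem card_map (e : A ≃* B) (V : Subgroup A) : Nat.card (V.map e.toMonoidHom) = Nat.card V :=
  (Nat.card_congr (V.equivMapOfInjective e.toMonoidHom e.injective).toEquiv).symm

end Conf

section SL2

open Matrix Matrix.SpecialLinearGroup
open scoped MatrixGroups
open Cfsg.Agent.Lib.PSL2.Basic Cfsg.Agent.Lib.PSL2.Unipotent Cfsg.Agent.Lib.PSL2.SylowU

variable {F : Type*} [Field F] [Fintype F]

theorem exists_sq_sub_sq (c : F) : ∃ s r : F, c = s ^ 2 - r ^ 2 := by
  classical
  by_cases h2 : (2 : F) = 0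
  · have h3 : CharP F 2 := CharTwo.of_one_ne_zero_of_two_eq_zero one_ne_zero h2
    have h4 : ringChar F = 2 := ringChar.eq F 2
    obtain ⟨s, hs⟩ := FiniteField.isSquare_of_char_two h4 c
    exact ⟨s, 0, by rw [hs]; ring⟩
  · refine ⟨(c + 1) / 2, (c - 1) / 2, ?_⟩
    field_simp
    ring

theorem normalizer_U_ne_top : normalizer ((U F : Subgroup SL(2, F)) : Set SL(2, F)) ≠ ⊤ := by
  intro h
  have h1 : (w : SL(2, F)) ∈ normalizer ((U F : Subgroup SL(2, F)) : Set SL(2, F)) := h ▸ mem_top _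
  rw [mem_normalizer_iff] at h1
  obtain ⟨t, ht⟩ := (h1 (x 1)).mp ⟨1, rfl⟩
  have h5 : w * x (1 : F) = x t * w := by
    rw [← ht]
    group
  have h6 := congrArg (fun g : SL(2, F) => g.1 1 1) h5
  change (((w : SL(2, F)).1 * (x (1 : F)).1 : Matrix (Fin 2) (Fin 2) F)) 1 1 =
    (((x t).1 * (w : SL(2, F)).1 : Matrix (Fin 2) (Fin 2) F)) 1 1 at h6
  simp [w, x, sl2, Matrix.mul_apply, Fin.sum_univ_two] at h6

theorem d_mem_normalizer_U (a : F) (ha : a ≠ 0) :
    d a ha ∈ normalizer ((U F : Subgroup SL(2, F)) : Set SL(2, F)) := by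
  rw [mem_normalizer_iff]
  intro g
  constructor
  · rintro ⟨t, rfl⟩
    rw [d_x_d_inv]
    exact ⟨_, rfl⟩
  · rintro ⟨t, ht⟩
    have h1 : x (a⁻¹ ^ 2 * t) = g := by
      have h2 : d a ha * x (a⁻¹ ^ 2 * t) * (d a ha)⁻¹ = d a ha * g * (d a ha)⁻¹ := by
        rw [d_x_d_inv, ht]
        congr 1
        field_simp
      exact mul_left_cancel (mul_right_cancel h2)
    exact ⟨_, h1.symm⟩

variable (p : ℕ) [Fact p.Prime] [CharP F p]

theorem sl2_case_U {N V : Subgroup SL(2, F)} (h : Conf (U F) N V) (hVp : IsPGroup p V) (hV1 : V ≠ ⊥) :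
    V = U F := by
  have hNN := h.normalizer_le normalizer_U_ne_top
  have hVU : V ≤ U F := h.le_sylow hVp (sylowU F p) (h.yn)
  apply le_antisymm hVU
  obtain ⟨v, hv, hv1⟩ : ∃ v ∈ V, v ≠ 1 := by
    by_contra hcon
    push Not at hcon
    exact hV1 ((Subgroup.eq_bot_iff_forall _).mpr hcon)
  obtain ⟨a₀, rfl⟩ := hVU hv
  have ha₀ : a₀ ≠ 0 := by
    rintro rfl
    exact hv1 x_zero
  have hsq : ∀ s : F, x (s ^ 2 * a₀) ∈ V := by
    intro s
    by_cases hs : s = 0
    · subst hs
      simp only [ne_eq, OfNat.ofNat_ne_zero, not_false_eq_true, zero_pow, zero_mul, x_zero]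
      exact one_mem _
    · have h1 := h.nv _ (hNN (d_mem_normalizer_U s hs)) _ hv
      rwa [d_x_d_inv] at h1
  rintro _ ⟨e, rfl⟩
  obtain ⟨s, r, hsr⟩ := exists_sq_sub_sq (e / a₀)
  have he : e = s ^ 2 * a₀ + -(r ^ 2 * a₀) := by
    have : e = (e / a₀) * a₀ := by field_simp
    rw [this, hsr]
    ring
  rw [he, x_add, ← x_inv]
  exact mul_mem (hsq s) (inv_mem (hsq r))

theorem sl2_case {Y N V : Subgroup SL(2, F)} (h : Conf Y N V) (hYp : IsPGroup p Y)
    (hYc : Nat.card Y = Fintype.card F) (hVp : IsPGroup p V) (hV1 : V ≠ ⊥) : V = Y := by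
  obtain ⟨g, hg⟩ := exists_conj_mem_U_of_isPGroup p hYp
  have hY' : Y.map (MulAut.conj g).toMonoidHom = U F := by
    apply Subgroup.eq_of_le_of_card_ge
    · rintro _ ⟨y, hy, rfl⟩
      exact hg y hy
    · rw [card_map, hYc, card_U]
  have h' := h.map (MulAut.conj g)
  rw [hY'] at h'
  have := sl2_case_U p h' (isPGroup_map _ hVp) (map_ne_bot _ hV1)
  rw [← hY'] at this
  exact eq_of_map_eq _ this

end SL2

section Suzuki

open Cfsg.Agent.Lib.Suzuki.Basic Cfsg.Agent.Lib.Suzuki.Group Cfsg.Agent.Lib.Suzuki.Struct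
  Cfsg.Agent.Lib.Suzuki.Sub Cfsg.Agent.Lib.Suzuki.Syl

variable {F : Type*} [Field F] [Fintype F] {m : ℕ} (h : Hyp F m)

include h

theorem eq_zero_of_Lg_sq {a b : F} (hs : (Lg h a b) ^ 2 = 1) : a = 0 := by
  rw [sq, Lg_sq h, ← Lg_zero h] at hs
  have h1 := (Lg_inj h hs).2
  rcases mul_eq_zero.mp h1 with h2 | h2
  · exact h.pow_sg_eq_zero h2
  · exact h2

theorem Zsub_normalizer_ne_top : normalizer ((Zsub h : Subgroup (G F m)) : Set (G F m)) ≠ ⊤ := by
  intro ht
  have h1 : Tg h ∈ normalizer ((Zsub h : Subgroup (G F m)) : Set (G F m)) := ht ▸ mem_top _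
  rw [mem_normalizer_iff] at h1
  obtain ⟨b, hb⟩ := (h1 (Lg h 0 1)).mp ⟨1, rfl⟩
  have h2 : (Tg h * Lg h 0 1 * (Tg h)⁻¹) • (oA 0 0 : Om F m) = oA 0 0 := by
    rw [Tg_inv h, mul_smul, mul_smul, Tg_oA_zero h, Lg_oI h, Tg_oI h]
  rw [hb, Lg_oA h] at h2
  simp only [zero_add, mul_zero, add_zero] at h2
  have hb0 := (oA_inj h2).2
  rw [hb0, Lg_zero h] at hb
  have h3 : Lg h (0 : F) 1 = 1 := by
    have h4 : Tg h * Lg h 0 1 = Tg h := by
      have := congrArg (· * Tg h) hb
      simpa using this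
    exact mul_left_cancel (h4.trans (mul_one _).symm)
  rw [← Lg_zero h] at h3
  exact one_ne_zero (Lg_inj h h3).2

theorem Usub_le_normalizer : Usub h ≤ normalizer ((Zsub h : Subgroup (G F m)) : Set (G F m)) := by
  rintro _ ⟨a, b, rfl⟩
  rw [mem_normalizer_iff]
  intro g
  constructor
  · rintro ⟨c, rfl⟩
    rw [← Lg_zero_comm h c a b]
    exact ⟨c, by group⟩
  · rintro ⟨c, hc⟩
    have h2 : g = Lg h 0 c := by
      have h3 : Lg h a b * g * (Lg h a b)⁻¹ = Lg h a b * Lg h 0 c * (Lg h a b)⁻¹ := by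
        rw [hc, ← Lg_zero_comm h c a b]
        group
      exact mul_left_cancel (mul_right_cancel h3)
    exact ⟨c, h2⟩

theorem Dg_mem_normalizer (k : Fˣ) :
    Dg h k ∈ normalizer ((Zsub h : Subgroup (G F m)) : Set (G F m)) := by
  rw [mem_normalizer_iff]
  intro g
  constructor
  · rintro ⟨c, rfl⟩
    rw [Dg_conj_Lg h, mul_zero]
    exact ⟨_, rfl⟩
  · rintro ⟨c, hc⟩
    have hk : (k : F) ^ 2 ^ (m + 1) * (k : F) ≠ 0 := mul_ne_zero (pow_ne_zero _ k.ne_zero) k.ne_zero
    have h2 : g = Lg h 0 (((k : F) ^ 2 ^ (m + 1) * (k : F))⁻¹ * c) := by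
      have h3 : Dg h k * g * (Dg h k)⁻¹ =
          Dg h k * Lg h 0 (((k : F) ^ 2 ^ (m + 1) * (k : F))⁻¹ * c) * (Dg h k)⁻¹ := by
        rw [hc, Dg_conj_Lg h, mul_zero]
        congr 1
        field_simp
      exact mul_left_cancel (mul_right_cancel h3)
    exact ⟨_, h2⟩

theorem sz_case_Z {N V : Subgroup (G F m)} (hc : Conf (Zsub h) N V) (hVe : ∀ v ∈ V, v ^ 2 = 1)
    (hVp : IsPGroup 2 V) (hV1 : V ≠ ⊥) : V = Zsub h := by
  have hNN := hc.normalizer_le (Zsub_normalizer_ne_top h)
  have hUN : Usub h ≤ N := (Usub_le_normalizer h).trans hNN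
  have hVU : V ≤ Usub h := hc.le_sylow hVp (Usyl h) hUN
  have hVZ : V ≤ Zsub h := by
    intro v hv
    obtain ⟨a, b, rfl⟩ := hVU hv
    have := eq_zero_of_Lg_sq h (hVe _ hv)
    subst this
    exact ⟨b, rfl⟩
  apply le_antisymm hVZ
  obtain ⟨v, hv, hv1⟩ : ∃ v ∈ V, v ≠ 1 := by
    by_contra hcon
    push Not at hcon
    exact hV1 ((Subgroup.eq_bot_iff_forall _).mpr hcon)
  obtain ⟨b, rfl⟩ := hVZ hv
  have hb : b ≠ 0 := by
    rintro rfl
    exact hv1 (Lg_zero h)
  rintro _ ⟨e, rfl⟩
  by_cases he : e = 0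
  · subst he
    rw [Lg_zero h]
    exact one_mem _
  obtain ⟨k, hk⟩ := (pow_sg_mul_self_bij h).2 (e / b)
  simp only at hk
  have hk0 : k ≠ 0 := by
    rintro rfl
    rw [zero_pow_sg h, zero_mul] at hk
    exact div_ne_zero he hb hk.symm
  have h1 := hc.nv _ (hNN (Dg_mem_normalizer h (Units.mk0 k hk0))) _ hv
  rw [Dg_conj_Lg h] at h1
  simp only [Units.val_mk0, mul_zero, hk] at h1
  have h2 : e / b * b = e := by field_simp
  rwa [h2] at h1

theorem sz_case {Y N V : Subgroup (G F m)} (hc : Conf Y N V) (hYe : ∀ y ∈ Y, y ^ 2 = 1)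
    (hYp : IsPGroup 2 Y) (hYc : Nat.card Y = Fintype.card F) (hVe : ∀ v ∈ V, v ^ 2 = 1)
    (hVp : IsPGroup 2 V) (hV1 : V ≠ ⊥) : V = Y := by
  obtain ⟨P, hP⟩ := hYp.exists_le_sylow
  obtain ⟨g, hg⟩ := exists_conj h P
  have hY' : Y.map (MulAut.conj g⁻¹).toMonoidHom = Zsub h := by
    apply Subgroup.eq_of_le_of_card_ge
    · rintro _ ⟨y, hy, rfl⟩
      have h1 : y ∈ (P : Subgroup (G F m)) := hP hy
      rw [hg] at h1
      obtain ⟨u, hu, rfl⟩ := h1
      obtain ⟨a, b, rfl⟩ := hu
      have h2 := hYe _ hy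
      have h3 : (MulAut.conj g⁻¹).toMonoidHom ((MulAut.conj g).toMonoidHom (Lg h a b)) = Lg h a b := by
        simp only [MulEquiv.toMonoidHom_eq_coe, MonoidHom.coe_coe, MulAut.conj_apply]
        group
      rw [h3]
      have h4 : (Lg h a b) ^ 2 = 1 := by
        have h5 : (MulAut.conj g).toMonoidHom ((Lg h a b) ^ 2) = 1 := by rw [map_pow, h2]
        have h6 : (MulAut.conj g).toMonoidHom ((Lg h a b) ^ 2) = (MulAut.conj g).toMonoidHom 1 := by
          rw [h5, map_one]
        exact (MulAut.conj g).injective h6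
      have := eq_zero_of_Lg_sq h h4
      subst this
      exact ⟨b, rfl⟩
    · rw [card_map, hYc, card_Zsub]
  have h' := hc.map (MulAut.conj g⁻¹)
  rw [hY'] at h'
  have hVe' : ∀ v ∈ V.map (MulAut.conj g⁻¹).toMonoidHom, v ^ 2 = 1 := by
    rintro _ ⟨v, hv, rfl⟩
    rw [← map_pow, hVe v hv, map_one]
  have := sz_case_Z h h' hVe' (isPGroup_map _ hVp) (map_ne_bot _ hV1)
  rw [← hY'] at this
  exact eq_of_map_eq _ this

end Suzuki

section Dihedral

variable {d : ℕ} [hd : Fact d.Prime]

theorem two_mul_eq_zero (hd2 : d ≠ 2) {j : ZMod d} (h : 2 * j = 0) : j = 0 :=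
  (mul_eq_zero.mp h).resolve_left (by
    intro h0
    have h3 : ((2 : ℕ) : ZMod d) = 0 := by exact_mod_cast h0
    rw [ZMod.natCast_eq_zero_iff] at h3
    exact hd2 ((Nat.prime_dvd_prime_iff_eq hd.out Nat.prime_two).mp h3))

theorem two_ne_zero_zmod (hd2 : d ≠ 2) : (2 : ZMod d) ≠ 0 := by
  intro h0
  have h3 : ((2 : ℕ) : ZMod d) = 0 := by exact_mod_cast h0
  rw [ZMod.natCast_eq_zero_iff] at h3
  exact hd2 ((Nat.prime_dvd_prime_iff_eq hd.out Nat.prime_two).mp h3)

theorem rot_eq_zero (hd2 : d ≠ 2) {j : ZMod d} {k : ℕ}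
    (h : (DihedralGroup.r j : DihedralGroup d) ^ 2 ^ k = 1) : j = 0 := by
  have h1 : (DihedralGroup.r j : DihedralGroup d) ^ (((2 ^ k : ℕ) : ℤ)) = 1 := by
    rw [zpow_natCast]
    exact h
  rw [DihedralGroup.r_zpow, DihedralGroup.one_def] at h1
  have h2 := DihedralGroup.r.inj h1
  rcases mul_eq_zero.mp h2 with h3 | h3
  · exact h3
  · exfalso
    push_cast at h3
    exact pow_ne_zero k (two_ne_zero_zmod hd2) h3

theorem dih_case (hd2 : d ≠ 2) {Y N V : Subgroup (DihedralGroup d)} (hc : Conf Y N V)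
    (hYp : IsPGroup 2 Y) (hY1 : Y ≠ ⊥) (hV1 : V ≠ ⊥) : V = Y := by
  have hrot : ∀ j, DihedralGroup.r j ∈ Y → j = 0 := by
    intro j hj
    obtain ⟨k, hk⟩ := hYp ⟨_, hj⟩
    exact rot_eq_zero hd2 (k := k) (congrArg Subtype.val hk)
  obtain ⟨y, hy, hy1⟩ : ∃ y ∈ Y, y ≠ 1 := by
    by_contra hcon
    push Not at hcon
    exact hY1 ((Subgroup.eq_bot_iff_forall _).mpr hcon)
  obtain ⟨v, hv, hv1⟩ : ∃ v ∈ V, v ≠ 1 := by
    by_contra hcon
    push Not at hcon
    exact hV1 ((Subgroup.eq_bot_iff_forall _).mpr hcon)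
  cases y with
  | r j =>
      exact absurd (by rw [hrot j hy]; rfl) hy1
  | sr i =>
      have hN : ∀ n ∈ N, n = 1 ∨ n = DihedralGroup.sr i := by
        intro n hn
        have hyy := hc.ny n hn _ hy
        cases n with
        | r j =>
            left
            have h1 : DihedralGroup.r j * DihedralGroup.sr i * (DihedralGroup.r j)⁻¹ =
                DihedralGroup.sr (i - j + -j) := by
              rw [DihedralGroup.inv_r, DihedralGroup.r_mul_sr, DihedralGroup.sr_mul_r]
            rw [h1] at hyy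
            have h2 := mul_mem hy hyy
            rw [DihedralGroup.sr_mul_sr] at h2
            have h3 := hrot _ h2
            have h4 : 2 * j = 0 := by
              have : 2 * j = -(i - j + -j - i) := by ring
              rw [this, h3, neg_zero]
            rw [two_mul_eq_zero hd2 h4]
            rfl
        | sr k =>
            right
            have h1 : DihedralGroup.sr k * DihedralGroup.sr i * (DihedralGroup.sr k)⁻¹ =
                DihedralGroup.sr (k - (i - k)) := by
              rw [DihedralGroup.inv_sr, DihedralGroup.sr_mul_sr, DihedralGroup.r_mul_sr]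
            rw [h1] at hyy
            have h2 := mul_mem hy hyy
            rw [DihedralGroup.sr_mul_sr] at h2
            have h3 := hrot _ h2
            have h4 : 2 * (k - i) = 0 := by
              have : 2 * (k - i) = k - (i - k) - i := by ring
              rw [this, h3]
            have h5 := two_mul_eq_zero hd2 h4
            rw [sub_eq_zero.mp h5]
      have hvy : v = DihedralGroup.sr i := (hN v (hc.vn hv)).resolve_left hv1
      subst hvy
      apply le_antisymm
      · intro z hz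
        rcases hN z (hc.vn hz) with rfl | rfl
        · exact one_mem _
        · exact hy
      · intro z hz
        rcases hN z (hc.yn hz) with rfl | rfl
        · exact one_mem _
        · exact hv

end Dihedral

section SzTwo

open Cfsg.Lie

/-- Boolean `4 × 4` matrices. -/
abbrev BM := Fin 4 → Fin 4 → Bool

def allF4 (P : Fin 4 → Bool) : Bool := P 0 && (P 1 && (P 2 && P 3))

theorem allF4_iff {P : Fin 4 → Bool} : allF4 P = true ↔ ∀ i, P i = true := by
  constructor
  · intro h i
    simp only [allF4, Bool.and_eq_true] at h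
    obtain ⟨h0, h1, h2, h3⟩ := h
    fin_cases i
    · exact h0
    · exact h1
    · exact h2
    · exact h3
  · intro h
    simp only [allF4, Bool.and_eq_true]
    exact ⟨h 0, h 1, h 2, h 3⟩

def allB (P : Bool → Bool) : Bool := P false && P true

def allR (P : (Fin 4 → Bool) → Bool) : Bool :=
  allB fun a => allB fun b => allB fun c => allB fun d => P ![a, b, c, d]

theorem allR_spec {P : (Fin 4 → Bool) → Bool} (h : allR P = true) (r : Fin 4 → Bool) : P r = true := by
  have hB : ∀ {Q : Bool → Bool}, allB Q = true → ∀ b, Q b = true := by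
    intro Q hQ b
    simp only [allB, Bool.and_eq_true] at hQ
    cases b
    · exact hQ.1
    · exact hQ.2
  have h1 := hB (hB (hB (hB h (r 0)) (r 1)) (r 2)) (r 3)
  have h2 : ![r 0, r 1, r 2, r 3] = r := by
    funext i
    fin_cases i <;> rfl
  rwa [h2] at h1

def bMul (A B : BM) (i j : Fin 4) : Bool :=
  xor (xor (xor (A i 0 && B 0 j) (A i 1 && B 1 j)) (A i 2 && B 2 j)) (A i 3 && B 3 j)

def cRow (R S T : Fin 4 → Bool) : Bool :=
  allF4 fun r => R r ==
    xor (S (pairOf r).1 && T (pairOf r).2) (T (pairOf r).1 && S (pairOf r).2)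

def sqOK (E : BM) : Bool := allF4 fun i => allF4 fun j => bMul E E i j == decide (i = j)

def commOK (A B : BM) : Bool := allF4 fun i => allF4 fun j => bMul A B i j == bMul B A i j

def eqB (A B : BM) : Bool := allF4 fun i => allF4 fun j => A i j == B i j

def oneB : BM := fun i j => decide (i = j)

theorem eqB_spec {A B : BM} (h : eqB A B = true) : A = B := by
  funext i j
  have h1 := allF4_iff.mp (allF4_iff.mp h i) j
  simpa using h1

/-- The involutions of `Sz(2)` and the identity. -/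
def invList : List BM :=
  [oneB,
   ![![false, false, false, true], ![false, false, true, false],
     ![false, true, false, false], ![true, false, false, false]],
   ![![true, false, false, false], ![false, true, false, false],
     ![true, false, true, false], ![true, true, false, true]],
   ![![true, false, true, true], ![false, true, false, true],
     ![false, false, true, false], ![false, false, false, true]],
   ![![true, true, false, true], ![true, false, true, false],
     ![true, false, false, true], ![true, true, true, true]],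
   ![![true, true, true, true], ![true, false, false, true],
     ![false, true, false, true], ![true, false, true, true]]]

def key1 : Bool :=
  allR fun r0 => allR fun r1 => !(cRow r0 r0 r1) ||
    allR fun r2 => !(cRow r1 r0 r2) ||
      allR fun r3 => !(cRow r2 r1 r3 && cRow r3 r2 r3 && sqOK ![r0, r1, r2, r3]) ||
        invList.any (eqB ![r0, r1, r2, r3])

theorem key1_true : key1 = true := by decide +kernel

def key2 : Bool :=
  invList.all fun A => invList.all fun B =>
    !(commOK A B) || eqB A oneB || eqB B oneB || eqB A B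

theorem key2_true : key2 = true := by decide +kernel

theorem boolean_core {A B : BM}
    (hA : ∀ p r, A p r = xor (A (pairOf p).1 (pairOf r).1 && A (pairOf p).2 (pairOf r).2)
      (A (pairOf p).2 (pairOf r).1 && A (pairOf p).1 (pairOf r).2))
    (hB : ∀ p r, B p r = xor (B (pairOf p).1 (pairOf r).1 && B (pairOf p).2 (pairOf r).2)
      (B (pairOf p).2 (pairOf r).1 && B (pairOf p).1 (pairOf r).2))
    (hA2 : ∀ i j, bMul A A i j = decide (i = j)) (hB2 : ∀ i j, bMul B B i j = decide (i = j))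
    (hAB : ∀ i j, bMul A B i j = bMul B A i j) : A = oneB ∨ B = oneB ∨ A = B := by
  have hmem : ∀ E : BM, (∀ p r, E p r = xor (E (pairOf p).1 (pairOf r).1 && E (pairOf p).2 (pairOf r).2)
      (E (pairOf p).2 (pairOf r).1 && E (pairOf p).1 (pairOf r).2)) →
      (∀ i j, bMul E E i j = decide (i = j)) → E ∈ invList := by
    intro E hE hE2
    have h0 := allR_spec (allR_spec key1_true (E 0)) (E 1)
    have hc : ∀ p k l : Fin 4, pairOf p = (k, l) → cRow (E p) (E k) (E l) = true := by
      intro p k l hpkl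
      apply allF4_iff.mpr
      intro r
      have := hE p r
      rw [hpkl] at this
      simpa using this
    have hc0 := hc 0 0 1 rfl
    have hc1 := hc 1 0 2 rfl
    have hc2 := hc 2 1 3 rfl
    have hc3 := hc 3 2 3 rfl
    simp only [hc0, Bool.not_true, Bool.false_or] at h0
    have h1 := allR_spec h0 (E 2)
    simp only [hc1, Bool.not_true, Bool.false_or] at h1
    have h2 := allR_spec h1 (E 3)
    have hEE : ![E 0, E 1, E 2, E 3] = E := by
      funext i
      fin_cases i <;> rfl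
    rw [hEE] at h2
    have hsq : sqOK E = true := by
      apply allF4_iff.mpr
      intro i
      apply allF4_iff.mpr
      intro j
      rw [hE2 i j]
      simp
    simp only [hc2, hc3, hsq, Bool.and_self, Bool.not_true, Bool.false_or] at h2
    obtain ⟨X, hX, hXe⟩ := List.any_eq_true.mp h2
    rwa [eqB_spec hXe]
  have hAm := hmem A hA hA2
  have hBm := hmem B hB hB2
  have h1 := List.all_eq_true.mp (List.all_eq_true.mp key2_true A hAm) B hBm
  have hcomm : commOK A B = true := by
    apply allF4_iff.mpr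
    intro i
    apply allF4_iff.mpr
    intro j
    rw [hAB i j]
    simp
  simp only [hcomm, Bool.not_true, Bool.false_or, Bool.or_eq_true] at h1
  rcases h1 with (h2 | h2) | h2
  · exact Or.inl (eqB_spec h2)
  · exact Or.inr (Or.inl (eqB_spec h2))
  · exact Or.inr (Or.inr (eqB_spec h2))

end SzTwo

section SzTwoField

open Cfsg.Lie

variable {F : Type*} [Field F] [Fintype F]

open Classical in
/-- The identification of a field with two elements with the Booleans. -/
noncomputable def chi (x : F) : Bool := decide (x = 1)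

theorem field2_cases (hF : Fintype.card F = 2) (x : F) : x = 0 ∨ x = 1 := by
  have h1 : x ^ 2 = x := by
    rw [← hF]
    exact FiniteField.pow_card x
  have h2 : x * (x - 1) = 0 := by linear_combination h1
  rcases mul_eq_zero.mp h2 with h | h
  · exact Or.inl h
  · exact Or.inr (sub_eq_zero.mp h)

theorem field2_two (hF : Fintype.card F = 2) : (1 : F) + 1 = 0 := by
  rcases field2_cases hF ((1 : F) + 1) with h | h
  · exact h
  · exfalso
    have h1 : (1 : F) = 0 := by linear_combination h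
    exact one_ne_zero h1

theorem chi_zero : chi (0 : F) = false := by simp [chi]

theorem chi_one : chi (1 : F) = true := by simp [chi]

theorem chi_mul (hF : Fintype.card F = 2) (x y : F) : chi (x * y) = (chi x && chi y) := by
  rcases field2_cases hF x with rfl | rfl <;> rcases field2_cases hF y with rfl | rfl <;>
    simp [chi_zero, chi_one]

theorem chi_add (hF : Fintype.card F = 2) (x y : F) : chi (x + y) = xor (chi x) (chi y) := by
  rcases field2_cases hF x with rfl | rfl <;> rcases field2_cases hF y with rfl | rfl <;>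
    simp [chi_zero, chi_one, field2_two hF]

theorem chi_sub (hF : Fintype.card F = 2) (x y : F) : chi (x - y) = xor (chi x) (chi y) := by
  have h1 : x - y = x + y := by
    have h2 := field2_two hF
    linear_combination -y * h2
  rw [h1, chi_add hF]

theorem chi_inj (hF : Fintype.card F = 2) {x y : F} (h : chi x = chi y) : x = y := by
  rcases field2_cases hF x with rfl | rfl <;> rcases field2_cases hF y with rfl | rfl
  · rfl
  · simp [chi_zero, chi_one] at h
  · simp [chi_zero, chi_one] at h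
  · rfl

theorem comm_invol_sz2 (hF : Fintype.card F = 2) {a b : Matrix (Fin 4) (Fin 4) F}
    (ha : star4 a = a) (hb : star4 b = b) (ha2 : a * a = 1) (hb2 : b * b = 1) (hab : a * b = b * a) :
    a = 1 ∨ b = 1 ∨ a = b := by
  have hstar : ∀ m : Matrix (Fin 4) (Fin 4) F, star4 m = m → ∀ p r,
      chi (m p r) = xor (chi (m (pairOf p).1 (pairOf r).1) && chi (m (pairOf p).2 (pairOf r).2))
        (chi (m (pairOf p).2 (pairOf r).1) && chi (m (pairOf p).1 (pairOf r).2)) := by
    intro m hm p r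
    have h1 := congrFun (congrFun hm p) r
    rw [← h1]
    simp only [star4, Matrix.of_apply]
    rw [chi_sub hF, chi_mul hF, chi_mul hF]
  have hmul : ∀ (m n : Matrix (Fin 4) (Fin 4) F) (i j : Fin 4),
      bMul (fun i j => chi (m i j)) (fun i j => chi (n i j)) i j = chi ((m * n) i j) := by
    intro m n i j
    rw [Matrix.mul_apply, Fin.sum_univ_four, chi_add hF, chi_add hF, chi_add hF, chi_mul hF,
      chi_mul hF, chi_mul hF, chi_mul hF]
    rfl
  have hone : ∀ i j : Fin 4, chi ((1 : Matrix (Fin 4) (Fin 4) F) i j) = decide (i = j) := by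
    intro i j
    rw [Matrix.one_apply]
    by_cases h : i = j <;> simp [h, chi_zero, chi_one]
  have hfin := boolean_core (A := fun i j => chi (a i j)) (B := fun i j => chi (b i j))
    (hstar a ha) (hstar b hb) (fun i j => by rw [hmul, ha2, hone])
    (fun i j => by rw [hmul, hb2, hone]) (fun i j => by rw [hmul, hmul, hab])
  have hone' : ∀ c : Matrix (Fin 4) (Fin 4) F, (fun i j => chi (c i j)) = oneB → c = 1 := by
    intro c hc
    ext i j
    apply chi_inj hF
    rw [hone]
    exact congrFun (congrFun hc i) j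
  rcases hfin with h | h | h
  · exact Or.inl (hone' a h)
  · exact Or.inr (Or.inl (hone' b h))
  · refine Or.inr (Or.inr ?_)
    ext i j
    apply chi_inj hF
    exact congrFun (congrFun h i) j

theorem star_eq_self (hF : Fintype.card F = 2) (g : ↥(Cfsg.Lie.Sz F (2 ^ (0 + 1)))) :
    star4 (((g : GL (Fin 4) F)) : Matrix (Fin 4) (Fin 4) F) = ((g : GL (Fin 4) F)) := by
  have hpow : ∀ x : F, x ^ (2 ^ (0 + 1)) = x := by
    intro x
    have h1 : (2 ^ (0 + 1) : ℕ) = Fintype.card F := by rw [hF]; norm_num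
    rw [h1]
    exact FiniteField.pow_card x
  have h2 : (2 : F) = 0 := by
    have h3 := field2_two hF
    linear_combination h3
  have h := (Cfsg.Agent.Lib.Suzuki.Core.mem_of_mem_Sz h2
    (fun x y => by rw [hpow, hpow, hpow]) (by norm_num) g.2).2
  rw [h]
  ext i j
  exact hpow _

theorem sz2_case (hF : Fintype.card F = 2) {Y N V : Subgroup ↥(Cfsg.Lie.Sz F (2 ^ (0 + 1)))}
    (hc : Conf Y N V) (hYc : Nat.card Y = 2) (hVe : ∀ v ∈ V, v ^ 2 = 1) (hV1 : V ≠ ⊥) : V = Y := by
  obtain ⟨y, hy1, hyu⟩ := (Nat.card_eq_two_iff' (1 : Y)).mp hYc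
  have hyne : (y : ↥(Cfsg.Lie.Sz F (2 ^ (0 + 1)))) ≠ 1 := fun h => hy1 (Subtype.ext h)
  have hYall : ∀ z ∈ Y, z = 1 ∨ z = (y : ↥(Cfsg.Lie.Sz F (2 ^ (0 + 1)))) := by
    intro z hz
    by_cases h1 : z = 1
    · exact Or.inl h1
    · right
      have := hyu ⟨z, hz⟩ (fun h => h1 (congrArg Subtype.val h))
      exact congrArg Subtype.val this
  have hy2 : (y : ↥(Cfsg.Lie.Sz F (2 ^ (0 + 1)))) ^ 2 = 1 := by
    have h1 := pow_card_eq_one' (x := y)
    rw [hYc] at h1
    exact congrArg Subtype.val h1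
  have hcent : ∀ n ∈ N, n * y = y * n := by
    intro n hn
    have h1 := hc.ny n hn _ y.2
    rcases hYall _ h1 with h2 | h2
    · exfalso
      apply hyne
      have h3 : n * y = n := by
        have h4 := congrArg (· * n) h2
        simpa using h4
      exact mul_left_cancel (h3.trans (mul_one n).symm)
    · have h4 := congrArg (· * n) h2
      simpa using h4
  have hvy : ∀ v ∈ V, v = 1 ∨ v = y := by
    intro v hv
    have hm : ∀ g : ↥(Cfsg.Lie.Sz F (2 ^ (0 + 1))), g ^ 2 = 1 →
        (((g : GL (Fin 4) F)) : Matrix (Fin 4) (Fin 4) F) * ((g : GL (Fin 4) F)) = 1 := by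
      intro g hg
      rw [← Units.val_mul, ← sq]
      have h1 : (g : GL (Fin 4) F) ^ 2 = 1 := congrArg Subtype.val hg
      rw [h1, Units.val_one]
    have hcm : (((v : GL (Fin 4) F)) : Matrix (Fin 4) (Fin 4) F) * (((y : ↥(Cfsg.Lie.Sz F (2 ^ (0 + 1)))) : GL (Fin 4) F)) =
        (((y : ↥(Cfsg.Lie.Sz F (2 ^ (0 + 1)))) : GL (Fin 4) F)) * ((v : GL (Fin 4) F)) := by
      rw [← Units.val_mul, ← Units.val_mul]
      have h1 := congrArg (fun z : ↥(Cfsg.Lie.Sz F (2 ^ (0 + 1))) => ((z : GL (Fin 4) F))) (hcent v (hc.vn hv))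
      exact congrArg Units.val h1
    rcases comm_invol_sz2 hF (star_eq_self hF v) (star_eq_self hF y) (hm v (hVe v hv)) (hm _ hy2) hcm
      with h1 | h1 | h1
    · left
      exact Subtype.ext (Units.ext h1)
    · exfalso
      exact hyne (Subtype.ext (Units.ext h1))
    · right
      exact Subtype.ext (Units.ext h1)
  obtain ⟨v, hv, hv1⟩ : ∃ v ∈ V, v ≠ 1 := by
    by_contra hcon
    push Not at hcon
    exact hV1 ((Subgroup.eq_bot_iff_forall _).mpr hcon)
  have hvv : v = y := (hvy v hv).resolve_left hv1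
  apply le_antisymm
  · intro z hz
    rcases hvy z hz with rfl | rfl
    · exact one_mem _
    · exact y.2
  · intro z hz
    rcases hYall z hz with rfl | rfl
    · exact one_mem _
    · rw [← hvv]
      exact hv

end SzTwoField

section Main

open Cfsg

variable {G : Type*} [Group G] [Finite G] {p : ℕ} [Fact p.Prime]

theorem mem_pCore_iff_coe {L : Subgroup G} {x : L} : x ∈ pCore p ↥L ↔ (x : G) ∈ pCoreOf p L := by
  constructor
  · intro h
    exact ⟨x, h, rfl⟩
  · rintro ⟨y, hy, hyx⟩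
    have : y = x := Subtype.ext hyx
    rwa [← this]

/-- Within `L/O_p(L)` the abstract conclusion: any candidate coincides with the image of `Y`. -/
theorem core_cases {M L : Subgroup G} (hL : IsInFrakL p M L) {Y N V : Subgroup (↥L ⧸ pCore p ↥L)}
    (hc : Conf Y N V) (hYe : ∀ y ∈ Y, y ^ p = 1) (hY1 : Y ≠ ⊥)
    (hYc : Nat.card Y = (largestPReducedOf p M ⊓ pCoreOf p L).relIndex (largestPReducedOf p M))
    (hVe : ∀ v ∈ V, v ^ p = 1) (hV1 : V ≠ ⊥) : V = Y := by
  have hYp : IsPGroup p Y := fun y => ⟨1, Subtype.ext (by simpa using hYe y.1 y.2)⟩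
  have hVp : IsPGroup p V := fun y => ⟨1, Subtype.ext (by simpa using hVe y.1 y.2)⟩
  obtain ⟨-, -, -, -, -, -, hcase⟩ := hL
  rcases hcase with ⟨F, _, _, hq, ⟨e⟩⟩ | ⟨rfl, F, _, _, m, hF, hq, ⟨e⟩⟩ | ⟨rfl, r, hr, hr2, ⟨e⟩⟩
  · -- SL₂
    have hcard : Nat.card Y = Fintype.card F := by rw [hYc, hq]
    obtain ⟨n, hn⟩ := IsPGroup.iff_card.mp hYp
    obtain ⟨q, hq'⟩ := CharP.exists F
    obtain ⟨k, hqp, hk⟩ := FiniteField.card F q
    have hqe : q = p := by
      have hd : q ∣ p ^ n := by
        rw [← hn, hcard, hk]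
        exact dvd_pow_self _ k.ne_zero
      exact (Nat.prime_dvd_prime_iff_eq hqp Fact.out).mp (hqp.dvd_of_dvd_pow hd)
    subst hqe
    have := sl2_case q (hc.map e) (isPGroup_map _ hYp) (by rw [card_map, hcard]) (isPGroup_map _ hVp)
      (map_ne_bot _ hV1)
    exact eq_of_map_eq _ this
  · -- Suzuki
    rcases Nat.eq_zero_or_pos m with rfl | hm
    · have hF2 : Fintype.card F = 2 := by rw [hF]; norm_num
      have hYc2 : Nat.card Y = 2 := by rw [hYc, ← hq, hF2]
      have := sz2_case hF2 (hc.map e) (by rw [card_map]; exact hYc2)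
        (by
          rintro _ ⟨v, hv, rfl⟩
          rw [← map_pow, hVe v hv, map_one])
        (map_ne_bot _ hV1)
      exact eq_of_map_eq _ this
    · have hyp : Cfsg.Agent.Lib.Suzuki.Basic.Hyp F m := ⟨hm, hF⟩
      let e' := e.trans (Cfsg.Agent.Lib.Suzuki.Iso.suzEquiv hyp).symm
      have := sz_case hyp (hc.map e')
        (by
          rintro _ ⟨v, hv, rfl⟩
          rw [← map_pow, hYe v hv, map_one])
        (isPGroup_map _ hYp) (by rw [card_map, hYc, ← hq])
        (by
          rintro _ ⟨v, hv, rfl⟩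
          rw [← map_pow, hVe v hv, map_one])
        (isPGroup_map _ hVp) (map_ne_bot _ hV1)
      exact eq_of_map_eq _ this
  · -- dihedral
    have : Fact r.Prime := ⟨hr⟩
    have := dih_case hr2 (hc.map e) (isPGroup_map _ hYp) (map_ne_bot _ hY1) (map_ne_bot _ hV1)
    exact eq_of_map_eq _ this

open scoped commutatorElement in
theorem main_theorem (M L NL : Subgroup G) (hL : IsInFrakL p M L)
    (hNL : NL = L ⊓ normalizer ((largestPReducedOf p M : Subgroup G) : Set G))
    [hn : ((pCoreOf p L).subgroupOf NL).Normal] :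
    let Ybar : Subgroup (↥NL ⧸ (pCoreOf p L).subgroupOf NL) :=
      ((largestPReducedOf p M).subgroupOf NL).map (QuotientGroup.mk' ((pCoreOf p L).subgroupOf NL))
    Ybar ≠ ⊥ ∧ Ybar.Normal ∧ IsElementaryAbelian p Ybar ∧
      ∀ V : Subgroup (↥NL ⧸ (pCoreOf p L).subgroupOf NL), V.Normal → IsElementaryAbelian p V →
        V ≠ ⊥ → V = Ybar := by
  intro Ybar
  have hL' := hL
  obtain ⟨hYL, hAcl, hAN, hmin, hchar, ⟨hlt, hmax⟩, hcase⟩ := hL'
  set Y : Subgroup G := largestPReducedOf p M with hY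
  set A : Subgroup G := pCoreOf p L with hA
  -- `Y` is elementary abelian
  have hPR : IsPReducedNormal p (largestPReduced p ↥M) :=
    Cfsg.Agent.Lib.LocalY.NoChar.isPReducedNormal_largest'
  have hYe : ∀ y ∈ Y, y ^ p = 1 := by
    rintro _ ⟨y, hy, rfl⟩
    have := hPR.2.1.2 y hy
    rw [← map_pow, this, map_one]
  have hYc : ∀ a ∈ Y, ∀ b ∈ Y, a * b = b * a := by
    rintro _ ⟨a, ha, rfl⟩ _ ⟨b, hb, rfl⟩
    have h1 := hPR.2.1.1.1.1 ⟨a, ha⟩ ⟨b, hb⟩
    have h2 := congrArg (fun z : largestPReduced p ↥M => M.subtype (z : ↥M)) h1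
    simpa using h2
  have hNLL : NL ≤ L := hNL ▸ inf_le_left
  have hNLN : NL ≤ normalizer (Y : Set G) := hNL ▸ inf_le_right
  have hYN : Y ≤ normalizer (Y : Set G) := le_normalizer
  have hYNL : Y ≤ NL := hNL ▸ le_inf hYL hYN
  have hAL : A ≤ L := Cfsg.Agent.Lib.LocalY.FrakH.pCoreOf_le L
  have hANL : A ≤ NL := hNL ▸ le_inf hAL hAN
  -- `Y` is not inside `A`
  have hYA : ¬ Y ≤ A := by
    intro hle
    have h1 : normalClosure ((Y.subgroupOf L : Subgroup ↥L) : Set ↥L) ≤ pCore p ↥L := by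
      have : (pCore p ↥L).Normal := Cfsg.Agent.Lib.Basic.PCore.pCore_normal p _
      apply normalClosure_le_normal
      intro x hx
      exact mem_pCore_iff_coe.mpr (hle (mem_subgroupOf.mp hx))
    rw [hmin.1] at h1
    apply lt_irrefl L
    refine lt_of_le_of_lt (le_inf le_rfl ?_) hlt
    intro l hl
    apply hAN
    exact mem_pCore_iff_coe.mp (h1 (mem_top ⟨l, hl⟩))
  -- the maps
  let π : ↥L →* ↥L ⧸ pCore p ↥L := QuotientGroup.mk' (pCore p ↥L)
  have hπs : Function.Surjective π := QuotientGroup.mk'_surjective _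
  have hπ1 : ∀ x : L, π x = 1 ↔ (x : G) ∈ A := by
    intro x
    show (QuotientGroup.mk x : ↥L ⧸ pCore p ↥L) = 1 ↔ _
    rw [QuotientGroup.eq_one_iff]
    exact mem_pCore_iff_coe
  let κ : ↥NL ⧸ A.subgroupOf NL →* ↥L ⧸ pCore p ↥L :=
    QuotientGroup.lift (A.subgroupOf NL) (π.comp (Subgroup.inclusion hNLL)) (by
      intro a ha
      exact (hπ1 _).mpr (mem_subgroupOf.mp ha))
  have hκmk : ∀ n : NL, κ (QuotientGroup.mk n) = π (Subgroup.inclusion hNLL n) := fun n => rfl
  have hκinj : Function.Injective κ := by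
    rw [injective_iff_map_eq_one]
    intro x hx
    obtain ⟨n, rfl⟩ := QuotientGroup.mk_surjective x
    rw [hκmk, hπ1] at hx
    exact (QuotientGroup.eq_one_iff _).mpr (mem_subgroupOf.mpr hx)
  set Yh : Subgroup (↥L ⧸ pCore p ↥L) := (Y.subgroupOf L).map π with hYh
  set Nh : Subgroup (↥L ⧸ pCore p ↥L) := (NL.subgroupOf L).map π with hNh
  have hκY : Ybar.map κ = Yh := by
    apply le_antisymm
    · rintro _ ⟨_, ⟨y, hy, rfl⟩, rfl⟩
      exact ⟨Subgroup.inclusion hNLL y, mem_subgroupOf.mpr (mem_subgroupOf.mp hy), rfl⟩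
    · rintro _ ⟨y, hy, rfl⟩
      have hyY : (y : G) ∈ Y := mem_subgroupOf.mp hy
      exact ⟨QuotientGroup.mk ⟨y, hYNL hyY⟩, ⟨⟨y, hYNL hyY⟩, mem_subgroupOf.mpr hyY, rfl⟩, rfl⟩
  have hYh1 : Yh ≠ ⊥ := by
    intro h
    apply hYA
    intro y hy
    have h1 : π ⟨y, hYL hy⟩ ∈ Yh := ⟨⟨y, hYL hy⟩, mem_subgroupOf.mpr hy, rfl⟩
    rw [h, mem_bot] at h1
    exact (hπ1 _).mp h1
  have hYhe : ∀ y ∈ Yh, y ^ p = 1 := by
    rintro _ ⟨y, hy, rfl⟩
    rw [← map_pow]
    have h1 : y ^ p = 1 := Subtype.ext (hYe _ (mem_subgroupOf.mp hy))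
    rw [h1, map_one]
  have hcard : Nat.card Yh = (Y ⊓ A).relIndex Y := by
    let f : ↥Y →* ↥L ⧸ pCore p ↥L := π.comp (Subgroup.inclusion hYL)
    have hker : f.ker = (Y ⊓ A).subgroupOf Y := by
      ext x
      rw [MonoidHom.mem_ker, mem_subgroupOf]
      have h1 : f x = 1 ↔ (x : G) ∈ A := hπ1 _
      rw [h1]
      exact ⟨fun h => ⟨x.2, h⟩, fun h => h.2⟩
    have hrange : f.range = Yh := by
      rw [MonoidHom.range_comp, Subgroup.inclusion_range]
    rw [Subgroup.relIndex, ← hker, Subgroup.index_ker, hrange]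
  have hBar1 : Ybar ≠ ⊥ := by
    intro h
    apply hYh1
    rw [← hκY, h, Subgroup.map_bot]
  refine ⟨hBar1, ?_, ?_, ?_⟩
  · -- normal
    have h1 : (Y.subgroupOf NL).Normal := by
      constructor
      intro y hy g
      rw [mem_subgroupOf] at hy ⊢
      have h2 : (g : G) ∈ normalizer (Y : Set G) := hNLN g.2
      exact (mem_normalizer_iff.mp h2 _).mp hy
    exact h1.map _ (QuotientGroup.mk'_surjective _)
  · -- elementary abelian
    constructor
    · constructor
      constructor
      rintro ⟨_, a, ha, rfl⟩ ⟨_, b, hb, rfl⟩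
      apply Subtype.ext
      show (QuotientGroup.mk' _) a * (QuotientGroup.mk' _) b = (QuotientGroup.mk' _) b * (QuotientGroup.mk' _) a
      rw [← map_mul, ← map_mul]
      congr 1
      exact Subtype.ext (hYc _ (mem_subgroupOf.mp ha) _ (mem_subgroupOf.mp hb))
    · rintro _ ⟨a, ha, rfl⟩
      rw [← map_pow]
      have h1 : a ^ p = 1 := Subtype.ext (hYe _ (mem_subgroupOf.mp ha))
      rw [h1, map_one]
  · intro V hVn hVe hV1
    have hVh : Conf Yh Nh (V.map κ) := by
      refine ⟨?_, ?_, ?_, ?_, ?_⟩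
      · rintro _ ⟨y, hy, rfl⟩
        exact ⟨y, mem_subgroupOf.mpr (hYNL (mem_subgroupOf.mp hy)), rfl⟩
      · rintro _ ⟨n, hn, rfl⟩ _ ⟨y, hy, rfl⟩
        refine ⟨n * y * n⁻¹, ?_, by simp⟩
        show ((n * y * n⁻¹ : L) : G) ∈ Y
        have h2 : (n : G) ∈ normalizer (Y : Set G) := hNLN (mem_subgroupOf.mp hn)
        exact (mem_normalizer_iff.mp h2 _).mp (mem_subgroupOf.mp hy)
      · intro X hYX hX
        have hX1 : (X.comap π).map L.subtype ≤ NL := by
          refine (hmax _ ?_ ?_).trans (le_of_eq hNL.symm)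
          · intro y hy
            refine ⟨⟨y, hYL hy⟩, ?_, rfl⟩
            exact hYX ⟨⟨y, hYL hy⟩, mem_subgroupOf.mpr hy, rfl⟩
          · apply lt_of_le_of_ne (Subgroup.map_subtype_le _)
            intro heq
            apply hX
            rw [eq_top_iff]
            intro x _
            obtain ⟨l, rfl⟩ := hπs x
            have hl : (l : G) ∈ (X.comap π).map L.subtype := by
              rw [heq]
              exact l.2
            obtain ⟨l', hl', hll⟩ := hl
            have : l' = l := Subtype.ext hll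
            rw [← this]
            exact hl'
        intro x hx
        obtain ⟨l, rfl⟩ := hπs x
        exact ⟨l, mem_subgroupOf.mpr (hX1 ⟨l, hx, rfl⟩), rfl⟩
      · rintro _ ⟨v, hv, rfl⟩
        obtain ⟨n, rfl⟩ := QuotientGroup.mk_surjective v
        exact ⟨Subgroup.inclusion hNLL n, mem_subgroupOf.mpr n.2, rfl⟩
      · rintro _ ⟨n, hn, rfl⟩ _ ⟨v, hv, rfl⟩
        have hnNL : (n : G) ∈ NL := mem_subgroupOf.mp hn
        refine ⟨QuotientGroup.mk ⟨n, hnNL⟩ * v * (QuotientGroup.mk ⟨n, hnNL⟩)⁻¹,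
          hVn.conj_mem v hv _, ?_⟩
        rw [map_mul, map_mul, map_inv, hκmk]
        rfl
    have hV2 : ∀ v ∈ V.map κ, v ^ p = 1 := by
      rintro _ ⟨v, hv, rfl⟩
      rw [← map_pow, hVe.2 v hv, map_one]
    have hV3 : V.map κ ≠ ⊥ := by
      intro h
      apply hV1
      apply Subgroup.map_injective hκinj
      rw [h, Subgroup.map_bot]
    have hfin := core_cases hL hVh hYhe hYh1 hcard hV2 hV3
    apply Subgroup.map_injective hκinj
    rw [hfin, hκY]

end Main

end Cfsg.Agent.Lib.LocalY.FrakLSec
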