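import Mathlib
import Cfsg.Prelude.Def_LocalEven
import Cfsg.Agent.Lib.LocalY.Kieler
import Cfsg.Agent.Lib.Nilpotent.SylowJoin

/-!
# Kieler's Lemma for groups of local characteristic `p`
-/

set_option autoImplicit false

namespace Cfsg.Agent.Lib.LocalY.KielerLocal

open Cfsg Subgroup Cfsg.Agent.Lib.Nilpotent.Subnormal Cfsg.Agent.Lib.Components.CharP
open Cfsg.Agent.Lib.LocalY.Kieler Cfsg.Agent.Lib.LocalY.Norm

variable {G : Type*} [Group G] [Finite G] {p : ℕ} [Fact p.Prime]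

/-- `Ω₁(Z(R))`. -/
abbrev Om (p : ℕ) (R : Subgroup G) : Subgroup G :=
  omegaOne p (R ⊓ centralizer (R : Set G))

/-- `K` has characteristic `p`, relative form. -/
def Chr (p : ℕ) (K : Subgroup G) : Prop :=
  K ⊓ centralizer ((pCoreOf p K : Subgroup G) : Set G) ≤ pCoreOf p K

theorem chr_inf_normalizer (hH : IsOfLocalCharacteristic p G) {Q X : Subgroup G}
    (hQ : IsPGroup p Q) (hQ1 : Q ≠ ⊥) (hX : X.IsSubnormal) :
    Chr p (X ⊓ normalizer (Q : Set G)) := by
  apply inf_centralizer_pCoreOf_le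
  have h1 := hH.2 Q hQ hQ1
  have h2 : IsPGroup p (generalizedFittingSubgroup ↥(normalizer (Q : Set G))) :=
    (isPGroup_Fstar_iff_centralizer_le p).mpr h1
  have h3 := Cfsg.Agent.Lib.Components.CharP2.isPGroup_Fstar_of_isSubnormal
    (hX.subgroupOf (K := normalizer (Q : Set G))) h2
  have e : ↥(X.subgroupOf (normalizer (Q : Set G))) ≃* ↥(X ⊓ normalizer (Q : Set G)) :=
    { toFun := fun x => ⟨x.1.1, x.2, x.1.2⟩
      invFun := fun x => ⟨⟨x.1, x.2.2⟩, x.2.1⟩
      left_inv := fun x => rfl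
      right_inv := fun x => rfl
      map_mul' := fun x y => rfl }
  exact (isPGroup_Fstar_iff_centralizer_le p).mp (isPGroup_Fstar_of_equiv e h3)

omit [Finite G] [Fact p.Prime] in
theorem om_le (R : Subgroup G) : Om p R ≤ R := by
  refine (Subgroup.closure_le _).mpr ?_
  rintro x ⟨hx, -⟩
  exact hx.1

omit [Finite G] [Fact p.Prime] in
theorem mem_om_of {R : Subgroup G} {x : G} (hx : x ∈ R) (hc : ∀ r ∈ R, r * x = x * r)
    (hp : x ^ p = 1) : x ∈ Om p R := by
  apply Subgroup.subset_closure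
  refine ⟨⟨hx, ?_⟩, hp⟩
  show x ∈ centralizer (R : Set G)
  rw [mem_centralizer_iff]
  exact hc

theorem om_ne_bot {R : Subgroup G} (hR : IsPGroup p R) (hne : R ≠ ⊥) : Om p R ≠ ⊥ := by
  obtain ⟨z, hzR, hzo, hzc⟩ := exists_central_orderOf p hR hne
  intro h
  have hz : z ∈ Om p R := mem_om_of hzR (fun r hr => hzc r hr)
    (by rw [← hzo]; exact pow_orderOf_eq_one z)
  rw [h, Subgroup.mem_bot] at hz
  rw [hz, orderOf_one] at hzo
  exact (Fact.out : p.Prime).ne_one hzo.symm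

omit [Finite G] [Fact p.Prime] in
/-- An element normalizing `S` normalizes `Ω₁(Z(S))`. -/
theorem conj_mem_om {S : Subgroup G} {g : G} (hg : ∀ s ∈ S, g * s * g⁻¹ ∈ S)
    (hg' : ∀ s ∈ S, g⁻¹ * s * g ∈ S) : ∀ u ∈ Om p S, g * u * g⁻¹ ∈ Om p S := by
  apply conj_mem_closure
  rintro x ⟨⟨hxS, hxC⟩, hxp⟩
  apply Subgroup.subset_closure
  refine ⟨⟨hg x hxS, ?_⟩, ?_⟩
  · show g * x * g⁻¹ ∈ centralizer (S : Set G)
    rw [mem_centralizer_iff]
    intro s hs
    have h1 := mem_centralizer_iff.mp hxC _ (hg' s hs)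
    calc s * (g * x * g⁻¹) = g * ((g⁻¹ * s * g) * x) * g⁻¹ := by group
      _ = g * (x * (g⁻¹ * s * g)) * g⁻¹ := by rw [h1]
      _ = g * x * g⁻¹ * s := by group
  · rw [conj_pow, hxp]
    simp

/-- The normal step. -/
theorem step_normal (hH : IsOfLocalCharacteristic p G) {X₁ X₂ R : Subgroup G}
    (h12 : NormalIn X₁ X₂) (h1 : X₁.IsSubnormal) (h2 : X₂.IsSubnormal) (hRp : IsPGroup p R)
    (hRX : R ≤ X₂) (hRi : ¬ p ∣ R.relIndex X₂) (hne : R ⊓ X₁ ≠ ⊥) :
    X₁ ⊓ centralizer ((Om p R : Subgroup G) : Set G) =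
      X₁ ⊓ centralizer ((Om p (R ⊓ X₁) : Subgroup G) : Set G) := by
  have hRne : R ≠ ⊥ := by
    rintro rfl
    exact hne (by simp)
  have hSp : IsPGroup p ↥(R ⊓ X₁) := hRp.to_le inf_le_left
  -- a general application of `kieler_step`
  have key : ∀ Q : Subgroup G, IsPGroup p Q → Q ≠ ⊥ → R ≤ normalizer (Q : Set G) →
      X₁ ⊓ normalizer (Q : Set G) ⊓ centralizer ((Om p R : Subgroup G) : Set G) =
      X₁ ⊓ normalizer (Q : Set G) ⊓ centralizer ((Om p (R ⊓ X₁) : Subgroup G) : Set G) := by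
    intro Q hQ hQ1 hRN
    set N := normalizer (Q : Set G) with hN
    have hKc := chr_inf_normalizer hH hQ hQ1 h2
    have hLc := chr_inf_normalizer hH hQ hQ1 h1
    have hLK : X₁ ⊓ N ≤ X₂ ⊓ N := inf_le_inf_right _ h12.1
    have hn : ((X₁ ⊓ N).subgroupOf (X₂ ⊓ N)).Normal := by
      rw [← normalIn_iff_subgroupOf hLK]
      refine ⟨hLK, ?_⟩
      rintro b ⟨hb2, hbN⟩ a ⟨ha1, haN⟩
      exact ⟨h12.2 b hb2 a ha1, N.mul_mem (N.mul_mem hbN haN) (N.inv_mem hbN)⟩
    have hTK : R ≤ X₂ ⊓ N := le_inf hRX hRN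
    have hTi : ¬ p ∣ R.relIndex (X₂ ⊓ N) := by
      intro hd
      apply hRi
      refine hd.trans ?_
      rw [← Subgroup.relIndex_mul_relIndex R (X₂ ⊓ N) X₂ hTK inf_le_left]
      exact dvd_mul_right _ _
    have hinf : R ⊓ (X₁ ⊓ N) = R ⊓ X₁ := by
      rw [inf_comm X₁ N, ← inf_assoc, inf_eq_left.mpr hRN]
    have h3 := kieler_step hLK hn hRp hTK hTi hKc hLc
    rw [hinf] at h3
    exact h3
  have hZ1 : Om p (R ⊓ X₁) ≠ ⊥ := om_ne_bot hSp hne
  have hZ2 : Om p R ≠ ⊥ := om_ne_bot hRp hRne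
  have hZ1p : IsPGroup p (Om p (R ⊓ X₁)) := hSp.to_le (om_le _)
  have hZ2p : IsPGroup p (Om p R) := hRp.to_le (om_le _)
  have hRN2 : R ≤ normalizer ((Om p R : Subgroup G) : Set G) := by
    intro r hr
    rw [mem_normalizer_iff]
    exact conj_mem_iff (T := R) (Y := Om p R) (fun t ht y hy => conj_mem_om
      (fun s hs => R.mul_mem (R.mul_mem ht hs) (R.inv_mem ht))
      (fun s hs => R.mul_mem (R.mul_mem (R.inv_mem ht) hs) ht) y hy) hr
  have hRN1 : R ≤ normalizer ((Om p (R ⊓ X₁) : Subgroup G) : Set G) := by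
    intro r hr
    rw [mem_normalizer_iff]
    have hnorm : ∀ t ∈ R, ∀ s ∈ R ⊓ X₁, t * s * t⁻¹ ∈ R ⊓ X₁ := fun t ht s hs =>
      ⟨R.mul_mem (R.mul_mem ht hs.1) (R.inv_mem ht), h12.2 t (hRX ht) s hs.2⟩
    exact conj_mem_iff (T := R) (Y := Om p (R ⊓ X₁)) (fun t ht y hy => conj_mem_om
      (fun s hs => hnorm t ht s hs)
      (fun s hs => by
        have := hnorm t⁻¹ (R.inv_mem ht) s hs
        rwa [inv_inv] at this) y hy) hr
  have hnorm_of_cent : ∀ (Q : Subgroup G) (x : G), x ∈ centralizer (Q : Set G) →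
      x ∈ normalizer (Q : Set G) := by
    intro Q x hx
    rw [mem_normalizer_iff]
    intro h
    constructor
    · intro hh
      have h3 := mem_centralizer_iff.mp hx h hh
      have h4 : x * h * x⁻¹ = h := by
        rw [← h3]
        group
      rwa [h4]
    · intro hh
      have h3 : ∀ y, y ∈ (Q : Set G) → y * x = x * y := fun y hy => mem_centralizer_iff.mp hx y hy
      have h5 : x * h * x⁻¹ ∈ (Q : Set G) := hh
      have h6 := h3 _ h5
      have h7 : x * h * x⁻¹ = h := by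
        have h8 : x * h * x⁻¹ * x = x * (x * h * x⁻¹) := h6
        have h9 : x * h = x * (x * h * x⁻¹) := by
          calc x * h = x * h * x⁻¹ * x := by group
            _ = _ := h8
        have h10 := mul_left_cancel h9
        exact h10.symm
      rwa [h7] at hh
  apply le_antisymm
  · rintro x ⟨hx1, hxC⟩
    have hxN : x ∈ normalizer ((Om p R : Subgroup G) : Set G) := hnorm_of_cent _ _ hxC
    have h3 : x ∈ X₁ ⊓ normalizer ((Om p R : Subgroup G) : Set G) ⊓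
        centralizer ((Om p R : Subgroup G) : Set G) := ⟨⟨hx1, hxN⟩, hxC⟩
    rw [key (Om p R) hZ2p hZ2 hRN2] at h3
    exact ⟨hx1, h3.2⟩
  · rintro x ⟨hx1, hxC⟩
    have hxN : x ∈ normalizer ((Om p (R ⊓ X₁) : Subgroup G) : Set G) := hnorm_of_cent _ _ hxC
    have h3 : x ∈ X₁ ⊓ normalizer ((Om p (R ⊓ X₁) : Subgroup G) : Set G) ⊓
        centralizer ((Om p (R ⊓ X₁) : Subgroup G) : Set G) := ⟨⟨hx1, hxN⟩, hxC⟩
    rw [← key (Om p (R ⊓ X₁)) hZ1p hZ1 hRN1] at h3
    exact ⟨hx1, h3.2⟩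

/-- **Kieler's Lemma for groups of local characteristic `p`**, relative to a subnormal
subgroup `Y`. -/
theorem kieler_local (hH : IsOfLocalCharacteristic p G) {X Y R : Subgroup G}
    (hXY : SN X Y) (hY : Y.IsSubnormal) (hRp : IsPGroup p R) (hRY : R ≤ Y)
    (hRi : ¬ p ∣ R.relIndex Y) (hne : R ⊓ X ≠ ⊥) :
    X ⊓ centralizer ((Om p R : Subgroup G) : Set G) =
      X ⊓ centralizer ((Om p (R ⊓ X) : Subgroup G) : Set G) := by
  revert hne
  induction hXY using Relation.ReflTransGen.head_induction_on with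
  | refl =>
    intro _
    rw [inf_eq_left.mpr hRY]
  | head hstep hrest ih =>
    rename_i X X'
    intro hne
    have hle : X ≤ X' := hstep.1
    have hne' : R ⊓ X' ≠ ⊥ := by
      intro h
      apply hne
      rw [eq_bot_iff, ← h]
      exact inf_le_inf_left _ hle
    have ih' := ih hne'
    have hX' : X'.IsSubnormal := (SN.trans hrest (sn_top_of_isSubnormal hY)).isSubnormal_top
    have hX : X.IsSubnormal := (SN.trans hstep.sn (sn_top_of_isSubnormal hX')).isSubnormal_top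
    have hi' : ¬ p ∣ (R ⊓ X').relIndex X' := by
      rw [Subgroup.inf_relIndex_right]
      exact fun hd => hRi (hd.trans (Cfsg.Agent.Lib.Nilpotent.SylowJoin.relIndex_dvd_of_sn R hrest))
    have hinf : R ⊓ X' ⊓ X = R ⊓ X := by
      rw [inf_assoc, inf_eq_right.mpr hle]
    have h3 := step_normal hH hstep hX hX' (hRp.to_le inf_le_left) inf_le_right hi'
      (by rw [hinf]; exact hne)
    rw [hinf] at h3
    rw [← h3]
    apply le_antisymm
    · rintro x ⟨hx1, hxC⟩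
      have h4 : x ∈ X' ⊓ centralizer ((Om p R : Subgroup G) : Set G) := ⟨hle hx1, hxC⟩
      rw [ih'] at h4
      exact ⟨hx1, h4.2⟩
    · rintro x ⟨hx1, hxC⟩
      have h4 : x ∈ X' ⊓ centralizer ((Om p (R ⊓ X') : Subgroup G) : Set G) := ⟨hle hx1, hxC⟩
      rw [← ih'] at h4
      exact ⟨hx1, h4.2⟩

/-- A subnormal subgroup containing a Sylow subgroup contains all `p`-elements. -/
theorem mem_of_sn_of_sylow {E Y R : Subgroup G} (hEY : SN E Y) (hRE : R ≤ E) (hRp : IsPGroup p R)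
    (hRi : ¬ p ∣ R.relIndex Y) {x : G} (hxY : x ∈ Y) {k : ℕ} (hxk : x ^ p ^ k = 1) : x ∈ E := by
  induction hEY using Relation.ReflTransGen.head_induction_on with
  | refl => exact hxY
  | head hstep hrest ih =>
    rename_i E E'
    have hRE' : R ≤ E' := hRE.trans hstep.1
    have hxE' := ih hRE'
    have hi' : ¬ p ∣ R.relIndex E' :=
      fun hd => hRi (hd.trans (Cfsg.Agent.Lib.Nilpotent.SylowJoin.relIndex_dvd_of_sn R hrest))
    have h1 : IsPGroup p ↥(R.subgroupOf E') := hRp.comap_subtype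
    let S : Sylow p ↥E' := h1.toSylow (by
      change ¬ p ∣ (R.subgroupOf E').index
      exact hi')
    have hy : (⟨x, hxE'⟩ : ↥E') ^ p ^ k = 1 := Subtype.ext hxk
    have hx1 : IsPGroup p ↥(zpowers (⟨x, hxE'⟩ : ↥E')) := by
      rintro ⟨_, n, rfl⟩
      refine ⟨k, Subtype.ext ?_⟩
      show ((⟨x, hxE'⟩ : ↥E') ^ n) ^ p ^ k = 1
      rw [← zpow_natCast, ← zpow_mul, mul_comm, zpow_mul, zpow_natCast, hy, one_zpow]
    obtain ⟨Q, hQ⟩ := hx1.exists_le_sylow
    obtain ⟨g, hg⟩ := MulAction.exists_smul_eq ↥E' Q S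
    have h2 : (⟨x, hxE'⟩ : ↥E') ∈ (Q : Subgroup ↥E') := hQ (mem_zpowers _)
    have h3 : g * (⟨x, hxE'⟩ : ↥E') * g⁻¹ ∈ (S : Subgroup ↥E') := by
      rw [← hg]
      rw [Sylow.coe_subgroup_smul]
      exact Subgroup.smul_mem_pointwise_smul _ (MulAut.conj g) (Q : Subgroup ↥E') h2
    have h4 : (g : G) * x * (g : G)⁻¹ ∈ R := h3
    have h5 := hstep.2 _ (E'.inv_mem g.2) _ (hRE h4)
    have h6 : ((g : G)⁻¹ * ((g : G) * x * (g : G)⁻¹) * (g : G)⁻¹⁻¹) = x := by group
    rwa [h6] at h5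

end Cfsg.Agent.Lib.LocalY.KielerLocal
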