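import Mathlib
import Cfsg.Prelude.Def_LocalStructure
import Cfsg.Prelude.Def_Local
import Cfsg.Agent.Lib.Basic.PCore
import Cfsg.Agent.Lib.Transfer.Basic
import Cfsg.Agent.Lib.Components.Quasisimple
import Cfsg.Agent.Lib.Components.FStar
import Cfsg.Agent.Lib.Components.Layer
import Cfsg.Agent.Lib.Fischer.Struct
import Cfsg.Agent.Lib.LocalY.Basic
import Cfsg.Agent.Lib.LocalY.NoChar
import Cfsg.Agent.Lib.LocalY.FrakM
import Cfsg.Agent.Lib.LocalY.FrakH

/-!
# Quasisimple sections over a large subgroup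

Abstract lemmas about a normal quasisimple subgroup `K` of a finite group `A` with `O_p(A) = 1`
and `A / K` a `p`-group.
-/

set_option autoImplicit false
set_option linter.unusedSectionVars false

namespace Cfsg.Agent.Lib.LocalY.QuasiSection

open Cfsg Subgroup
open Cfsg.Agent.Lib.Basic.PCore

section Abstract

variable {A : Type*} [Group A] [Finite A] {p : ℕ} [Fact p.Prime]

theorem isNilpotent_of_pow_mem_center (h : ∀ a : A, ∃ n : ℕ, a ^ p ^ n ∈ center A) :
    Group.IsNilpotent A := by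
  have hq : IsPGroup p (A ⧸ center A) := by
    intro x
    obtain ⟨a, rfl⟩ := QuotientGroup.mk_surjective x
    obtain ⟨n, hn⟩ := h a
    exact ⟨n, by rw [← QuotientGroup.mk_pow]; exact (QuotientGroup.eq_one_iff _).mpr hn⟩
  have := hq.isNilpotent
  exact Group.of_quotient_center_nilpotent (G := A) this

/-- A nilpotent group generated by `p`-elements is a `p`-group, form with `pCore`. -/
theorem isPGroup_of_central_pow {S : Set A} (hgen : closure S = ⊤)
    (hS : ∀ s ∈ S, ∃ k : ℕ, orderOf s = p ^ k) (h : ∀ a : A, ∃ n : ℕ, a ^ p ^ n ∈ center A) :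
    IsPGroup p A := by
  have hnil := isNilpotent_of_pow_mem_center h
  have hnil2 : Group.IsNilpotent (⊤ : Subgroup A) := by
    exact Group.nilpotent_of_mulEquiv Subgroup.topEquiv.symm
  have hle : closure S ≤ pCore p A := by
    rw [closure_le]
    intro s hs
    obtain ⟨k, hk⟩ := hS s hs
    exact mem_pCore_of_normal_nilpotent (N := ⊤) inferInstance hnil2 (mem_top s) Fact.out hk
  rw [hgen] at hle
  have hp := pCore_isPGroup (G := A) p
  intro x
  obtain ⟨k, hk⟩ := hp ⟨x, hle (mem_top x)⟩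
  exact ⟨k, by simpa [Subtype.ext_iff] using hk⟩

theorem eq_one_of_mem_centralizer (hcore : pCore p A = ⊥) {K : Subgroup A} [K.Normal]
    (hpow : ∀ a : A, ∃ n : ℕ, a ^ p ^ n ∈ K) {r : A} (hr : r ∈ centralizer (K : Set A)) {k : ℕ}
    (hk : orderOf r = p ^ k) : r = 1 := by
  have hDn : (centralizer (K : Set A)).Normal := inferInstance
  have hnil : Group.IsNilpotent (centralizer (K : Set A)) := by
    apply isNilpotent_of_pow_mem_center (p := p)
    rintro ⟨d, hd⟩
    obtain ⟨n, hn⟩ := hpow d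
    refine ⟨n, ?_⟩
    rw [mem_center_iff]
    rintro ⟨e, he⟩
    apply Subtype.ext
    exact (mem_centralizer_iff.mp he _ hn).symm
  have := mem_pCore_of_normal_nilpotent hDn hnil hr Fact.out hk
  rwa [hcore, mem_bot] at this

open scoped commutatorElement in
/-- A normal subgroup containing a non-trivial `p`-element contains `K`. -/
theorem le_of_mem_of_normal (hcore : pCore p A = ⊥) {K : Subgroup A} [hK : K.Normal]
    (hq : IsQuasisimple K) (hpow : ∀ a : A, ∃ n : ℕ, a ^ p ^ n ∈ K) {N : Subgroup A} [hN : N.Normal]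
    {x : A} (hx : x ∈ N) (hx1 : x ≠ 1) {k : ℕ} (hk : orderOf x = p ^ k) : K ≤ N := by
  rcases Cfsg.Agent.Lib.Fischer.Struct.commutator_top_or_bot (N := N) hK hq with h | h
  · exact h.trans (commutator_le_right K N)
  · exfalso
    apply hx1
    apply eq_one_of_mem_centralizer hcore hpow (K := K) _ hk
    rw [mem_centralizer_iff]
    intro y hy
    have h2 : ⁅y, x⁆ = 1 := by
      have := commutator_mem_commutator (SetLike.mem_coe.mp hy) hx
      rwa [h, mem_bot] at this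
    exact (commutatorElement_eq_one_iff_commute.mp h2).eq

open scoped commutatorElement in
/-- A non-trivial `p`-subgroup acts without fixed quotient on `K`. -/
theorem commutator_eq_of_isPGroup (hcore : pCore p A = ⊥) {K : Subgroup A} [hK : K.Normal]
    (hq : IsQuasisimple K) (hpow : ∀ a : A, ∃ n : ℕ, a ^ p ^ n ∈ K) {Y : Subgroup A}
    (hY : IsPGroup p Y) (hY1 : Y ≠ ⊥) : ⁅K, Y⁆ = K := by
  apply le_antisymm (commutator_le_left K Y)
  rcases Cfsg.Agent.Lib.Fischer.Struct.commutator_top_or_bot (N := Y) hK hq with h | h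
  · exact h
  · exfalso
    obtain ⟨y, hy, hy1⟩ : ∃ y ∈ Y, y ≠ 1 := by
      by_contra hcon
      push Not at hcon
      exact hY1 ((Subgroup.eq_bot_iff_forall _).mpr hcon)
    obtain ⟨k, hk⟩ := hY ⟨y, hy⟩
    obtain ⟨i, hord⟩ : ∃ i, orderOf y = p ^ i := by
      have hp : p.Prime := Fact.out
      have hdvd : orderOf (⟨y, hy⟩ : Y) ∣ p ^ k := orderOf_dvd_of_pow_eq_one hk
      obtain ⟨i, -, hi⟩ := (Nat.dvd_prime_pow hp).mp hdvd
      exact ⟨i, by rw [← Subgroup.orderOf_mk y hy, hi]⟩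
    apply hy1
    apply eq_one_of_mem_centralizer hcore hpow (K := K) _ hord
    rw [mem_centralizer_iff]
    intro z hz
    have h2 : ⁅z, y⁆ = 1 := by
      have := commutator_mem_commutator (SetLike.mem_coe.mp hz) hy
      rwa [h, mem_bot] at this
    exact (commutatorElement_eq_one_iff_commute.mp h2).eq

open scoped commutatorElement in
/-- A central extension of a quasisimple group by a perfect group is quasisimple. -/
theorem isQuasisimple_of_surjective_central {X Y : Type*} [Group X] [Group Y] {f : X →* Y}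
    (hf : Function.Surjective f) (hY : IsQuasisimple Y) (hX : Group.IsPerfect X)
    (hk : f.ker ≤ center X) : IsQuasisimple X := by
  have hnt : Nontrivial X := by
    have := Cfsg.Agent.Lib.Components.Quasisimple.nontrivial_of_isQuasisimple hY
    exact hf.nontrivial
  apply Cfsg.Agent.Lib.Components.FStar.isQuasisimple_of_normal hX
  intro M hM
  have hMn : (M.map f).Normal := hM.map f hf
  rcases Cfsg.Agent.Lib.Components.Quasisimple.eq_top_or_le_center_of_normal hY hMn with h | h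
  · right
    rw [eq_top_iff, ← hX.commutator_eq_top, _root_.commutator_def, Subgroup.commutator_le]
    intro a _ b _
    obtain ⟨m, hm, hfm⟩ : ∃ m ∈ M, f m = f a := by
      have : f a ∈ M.map f := h ▸ mem_top _
      exact this
    obtain ⟨n, hn, hfn⟩ : ∃ n ∈ M, f n = f b := by
      have : f b ∈ M.map f := h ▸ mem_top _
      exact this
    have hza : m⁻¹ * a ∈ center X := hk (by
      rw [MonoidHom.mem_ker, map_mul, map_inv, hfm]; simp)
    have hzb : n⁻¹ * b ∈ center X := hk (by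
      rw [MonoidHom.mem_ker, map_mul, map_inv, hfn]; simp)
    have hab : ⁅a, b⁆ = ⁅m, n⁆ := by
      have := Cfsg.Agent.Lib.Components.Quasisimple.commutator_mul_central (h₁ := m) (h₂ := n) hza hzb
      rwa [mul_inv_cancel_left, mul_inv_cancel_left] at this
    rw [hab, commutatorElement_def]
    have h5 := mul_mem hm (hM.conj_mem m⁻¹ (inv_mem hm) n)
    simpa [mul_assoc] using h5
  · left
    have h1 : ⁅⁅(⊤ : Subgroup X), M⁆, (⊤ : Subgroup X)⁆ = ⊥ := by
      rw [commutator_eq_bot_iff_le_centralizer]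
      intro c hc
      rw [mem_centralizer_iff]
      intro b _
      have hcc : c ∈ center X := by
        apply hk
        rw [MonoidHom.mem_ker]
        have : ⁅(⊤ : Subgroup X), M⁆ ≤ f.ker := by
          rw [Subgroup.commutator_le]
          intro a _ m hm
          rw [MonoidHom.mem_ker, map_commutatorElement, commutatorElement_eq_one_iff_commute]
          exact (mem_center_iff.mp (h ⟨m, hm, rfl⟩) (f a))
        exact this hc
      exact mem_center_iff.mp hcc b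
    have h2 := Cfsg.Agent.Lib.Components.Layer.commutator_eq_bot_of_perfect (L := ⊤) (N := M)
      (by rw [← _root_.commutator_def]; rw [hX.commutator_eq_top]) h1
    intro m hm
    rw [mem_center_iff]
    intro b
    have h3 : ⁅b, m⁆ = 1 := by
      have := commutator_mem_commutator (mem_top b) hm
      rwa [h2, mem_bot] at this
    exact commutatorElement_eq_one_iff_commute.mp h3 |>.eq

end Abstract

section Residual

variable {G : Type*} [Group G] [Finite G] {p : ℕ} [Fact p.Prime]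

/-- The residual of a subgroup, as generated by its `p′`-elements. -/
theorem map_pResidual_eq_closure (W : Subgroup G) :
    (pResidual p ↥W).map W.subtype = closure {x : G | x ∈ W ∧ (orderOf x).Coprime p} := by
  rw [pResidual, MonoidHom.map_closure]
  congr 1
  ext x
  constructor
  · rintro ⟨y, hy, rfl⟩
    refine ⟨y.2, ?_⟩
    have : orderOf (y : G) = orderOf y := Subgroup.orderOf_coe y
    rw [Subgroup.coe_subtype, this]
    exact hy
  · rintro ⟨hx, hc⟩
    refine ⟨⟨x, hx⟩, ?_, rfl⟩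
    show (orderOf (⟨x, hx⟩ : W)).Coprime p
    rw [Subgroup.orderOf_mk]
    exact hc

theorem res_le (W : Subgroup G) : (pResidual p ↥W).map W.subtype ≤ W := Subgroup.map_subtype_le _

theorem mem_res {W : Subgroup G} {x : G} (hx : x ∈ W) (hc : (orderOf x).Coprime p) :
    x ∈ (pResidual p ↥W).map W.subtype := by
  rw [map_pResidual_eq_closure]
  exact subset_closure ⟨hx, hc⟩

theorem res_le_of {W T : Subgroup G} (h : ∀ x ∈ W, (orderOf x).Coprime p → x ∈ T) :
    (pResidual p ↥W).map W.subtype ≤ T := by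
  rw [map_pResidual_eq_closure, closure_le]
  exact fun x hx => h x hx.1 hx.2

theorem conj_mem_res {W : Subgroup G} {a : G} (ha : ∀ w ∈ W, a * w * a⁻¹ ∈ W) {x : G}
    (hx : x ∈ (pResidual p ↥W).map W.subtype) : a * x * a⁻¹ ∈ (pResidual p ↥W).map W.subtype := by
  have hle : (pResidual p ↥W).map W.subtype ≤
      ((pResidual p ↥W).map W.subtype).comap (MulAut.conj a).toMonoidHom := by
    apply res_le_of
    intro y hy hc
    refine mem_res (ha y hy) ?_
    show (orderOf (a * y * a⁻¹)).Coprime p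
    rw [Cfsg.Agent.Lib.Transfer.Basic.orderOf_conj_eq]
    exact hc
  exact hle hx

theorem res_res (W : Subgroup G) :
    (pResidual p ↥((pResidual p ↥W).map W.subtype)).map ((pResidual p ↥W).map W.subtype).subtype =
      (pResidual p ↥W).map W.subtype := by
  apply le_antisymm (res_le _)
  apply res_le_of
  intro x hx hc
  exact mem_res (mem_res hx hc) hc

/-- `X/X′` of a group generated by `p′`-elements has exponent prime to `p`. -/
theorem exists_pow_mem_commutator (X : Type*) [Group X] [Finite X] (hX : pResidual p X = ⊤) :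
    ∃ r : ℕ, r.Coprime p ∧ ∀ x : X, x ^ r ∈ commutator X := by
  have hp : p.Prime := Fact.out
  have hcard : Nat.card X ≠ 0 := Nat.card_pos.ne'
  refine ⟨Nat.card X / p ^ (Nat.card X).factorization p,
    (Nat.coprime_ordCompl hp hcard).symm, ?_⟩
  set r := Nat.card X / p ^ (Nat.card X).factorization p with hr
  have hmul : p ^ (Nat.card X).factorization p * r = Nat.card X :=
    Nat.ordProj_mul_ordCompl_eq_self _ _
  let f : X →* Abelianization X := (powMonoidHom r).comp Abelianization.of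
  have hle : pResidual p X ≤ f.ker := by
    rw [pResidual, closure_le]
    intro x hx
    have hdvd : orderOf x ∣ p ^ (Nat.card X).factorization p * r := by
      rw [hmul]
      exact orderOf_dvd_natCard x
    have hdvd2 : orderOf x ∣ r :=
      Nat.Coprime.dvd_of_dvd_mul_left (Nat.Coprime.pow_right _ hx) hdvd
    have h1 : x ^ r = 1 := orderOf_dvd_iff_pow_eq_one.mp hdvd2
    show f x = 1
    simp only [f, MonoidHom.comp_apply, powMonoidHom_apply]
    rw [← map_pow, h1, map_one]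
  intro x
  have hx : x ∈ f.ker := hle (hX ▸ mem_top x)
  rw [← Abelianization.ker_of, MonoidHom.mem_ker, map_pow]
  exact hx

theorem exists_orderOf_eq_pow {X : Type*} [Group X] {x : X} {k : ℕ} (hx : x ^ p ^ k = 1) :
    ∃ i : ℕ, orderOf x = p ^ i := by
  obtain ⟨i, -, hi⟩ := (Nat.dvd_prime_pow (Fact.out : p.Prime)).mp (orderOf_dvd_of_pow_eq_one hx)
  exact ⟨i, hi⟩

end Residual

section Perfect

variable {G : Type*} [Group G] [Finite G] {p : ℕ} [Fact p.Prime]

open scoped commutatorElement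

/-- Step B, in the ambient group. -/
theorem commutator_res_eq {W C : Subgroup G}
    (hWgen : ∀ T : Subgroup G, (∀ s ∈ W, (∃ k : ℕ, s ^ p ^ k = 1) → s ∈ T) → W ≤ T)
    (hcomm : ∀ c ∈ (pResidual p ↥W).map W.subtype ⊓ C, ∀ w ∈ W, ⁅w, c⁆ ∈ pCoreOf p W)
    (hfact : ∀ j ∈ (pResidual p ↥W).map W.subtype, ∃ b ∈ ⁅(pResidual p ↥W).map W.subtype,
      (pResidual p ↥W).map W.subtype⁆, ∃ c ∈ (pResidual p ↥W).map W.subtype ⊓ C, j = b * c) :
    ⁅(pResidual p ↥W).map W.subtype, (pResidual p ↥W).map W.subtype⁆ =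
      (pResidual p ↥W).map W.subtype := by
  set J : Subgroup G := (pResidual p ↥W).map W.subtype with hJ
  set B : Subgroup G := ⁅J, J⁆ with hB
  have hJW : J ≤ W := res_le W
  have hBJ : B ≤ J := commutator_le_self J
  have hJn : ∀ w ∈ W, ∀ j ∈ J, w * j * w⁻¹ ∈ J := fun w hw j hj =>
    conj_mem_res (fun v hv => W.mul_mem (W.mul_mem hw hv) (W.inv_mem hw)) hj
  have hBn : ∀ w ∈ W, ∀ b ∈ B, w * b * w⁻¹ ∈ B := by
    intro w hw b hb
    have hle : B ≤ B.comap (MulAut.conj w).toMonoidHom := by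
      show ⁅J, J⁆ ≤ _
      rw [Subgroup.commutator_le]
      intro x hx y hy
      show w * ⁅x, y⁆ * w⁻¹ ∈ B
      have : w * ⁅x, y⁆ * w⁻¹ = ⁅w * x * w⁻¹, w * y * w⁻¹⁆ := by
        simp only [commutatorElement_def]
        group
      rw [this]
      exact commutator_mem_commutator (hJn w hw x hx) (hJn w hw y hy)
    exact hle hb
  -- residual of `J` is everything
  have hres : pResidual p ↥J = ⊤ := by
    have h1 : (pResidual p ↥J).map J.subtype = J := res_res W
    rw [eq_top_iff]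
    rintro ⟨x, hx⟩ -
    rw [← h1] at hx
    obtain ⟨y, hy, hxy⟩ := hx
    have : y = ⟨x, by rw [← hxy]; exact y.2⟩ := Subtype.ext hxy
    rw [this] at hy
    exact hy
  obtain ⟨r, hr, hpow⟩ := exists_pow_mem_commutator (p := p) ↥J hres
  have hpow' : ∀ j ∈ J, j ^ r ∈ B := by
    intro j hj
    have h1 := hpow ⟨j, hj⟩
    have h2 : ((⟨j, hj⟩ : J) ^ r : J).1 ∈ (commutator ↥J).map J.subtype := ⟨_, h1, rfl⟩
    rw [map_subtype_commutator] at h2
    simpa using h2
  have hpel : ∀ z ∈ J, ∀ k : ℕ, z ^ p ^ k = 1 → z ∈ B := by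
    intro z hz k hk
    refine Cfsg.Agent.Lib.LocalY.Basic.mem_of_pow_mem_of_coprime (hpow' z hz) (n := p ^ k)
      (by rw [hk]; exact one_mem _) (Nat.Coprime.pow_right k hr)
  have hJc : ∀ j ∈ J, ∀ w ∈ W, ⁅j, w⁆ ∈ B := by
    intro j hj w hw
    obtain ⟨b, hb, c, hc, rfl⟩ := hfact j hj
    have hcJ : c ∈ J := hc.1
    have h1 : ⁅c, w⁆ ∈ B := by
      have h2 := hcomm c hc w hw
      have h3 : ⁅c, w⁆ = ⁅w, c⁆⁻¹ := by
        rw [commutatorElement_inv]
      have hpc : ⁅c, w⁆ ∈ pCoreOf p W := by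
        rw [h3]; exact inv_mem h2
      have hcJ2 : ⁅c, w⁆ ∈ J := by
        rw [commutatorElement_def, show c * w * c⁻¹ * w⁻¹ = c * (w * c⁻¹ * w⁻¹) by group]
        exact J.mul_mem hcJ (hJn w hw c⁻¹ (J.inv_mem hcJ))
      obtain ⟨k, hk⟩ := Cfsg.Agent.Lib.LocalY.FrakH.isPGroup_pCoreOf (p := p) W ⟨_, hpc⟩
      refine hpel _ hcJ2 k ?_
      have := congrArg Subtype.val hk
      simpa using this
    have h4 : ⁅b * c, w⁆ = b * ⁅c, w⁆ * b⁻¹ * ⁅b, w⁆ := by
      simp only [commutatorElement_def]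
      group
    rw [h4]
    refine B.mul_mem (hBn b (hJW (hBJ hb)) _ h1) ?_
    rw [commutatorElement_def, show b * w * b⁻¹ * w⁻¹ = b * (w * b⁻¹ * w⁻¹) by group]
    exact B.mul_mem hb (hBn w hw b⁻¹ (B.inv_mem hb))
  -- the quotient
  have hBW : B ≤ W := hBJ.trans hJW
  have hNorm : (B.subgroupOf W).Normal := by
    constructor
    intro x hx g
    rw [mem_subgroupOf] at hx ⊢
    exact hBn g g.2 x hx
  have hmemB : ∀ x : W, (QuotientGroup.mk x : ↥W ⧸ B.subgroupOf W) = 1 ↔ (x : G) ∈ B := by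
    intro x
    rw [QuotientGroup.eq_one_iff, mem_subgroupOf]
  let π : ↥W →* ↥W ⧸ B.subgroupOf W := QuotientGroup.mk' (B.subgroupOf W)
  have hπ : ∀ x : W, π x = 1 ↔ (x : G) ∈ B := hmemB
  have hcent : ∀ a : ↥W ⧸ B.subgroupOf W, ∃ n : ℕ, a ^ p ^ n ∈ center (↥W ⧸ B.subgroupOf W) := by
    intro a
    obtain ⟨w, rfl⟩ := QuotientGroup.mk'_surjective (B.subgroupOf W) a
    obtain ⟨n, hn⟩ := Cfsg.Agent.Lib.LocalY.NoChar.exists_pow_coprime (p := p) (w : G)
    refine ⟨n, ?_⟩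
    rw [mem_center_iff]
    intro v
    obtain ⟨v, rfl⟩ := QuotientGroup.mk'_surjective (B.subgroupOf W) v
    have hmem : ((w : G) ^ p ^ n) ∈ J := mem_res (W.pow_mem w.2 _) hn
    have h1 := hJc _ hmem v v.2
    have h2 : π ⁅w ^ p ^ n, v⁆ = 1 := (hπ _).mpr h1
    rw [map_commutatorElement, commutatorElement_eq_one_iff_commute, map_pow] at h2
    exact h2.symm.eq
  have hXp : IsPGroup p (↥W ⧸ B.subgroupOf W) := by
    have hnil := isNilpotent_of_pow_mem_center hcent
    have hnil2 : Group.IsNilpotent (⊤ : Subgroup (↥W ⧸ B.subgroupOf W)) :=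
      Group.nilpotent_of_mulEquiv Subgroup.topEquiv.symm
    have hle : W ≤ ((pCore p (↥W ⧸ B.subgroupOf W)).comap π).map W.subtype := by
      apply hWgen
      intro s hs ⟨k, hk⟩
      refine ⟨⟨s, hs⟩, ?_, rfl⟩
      show π ⟨s, hs⟩ ∈ pCore p (↥W ⧸ B.subgroupOf W)
      have h1 : (π ⟨s, hs⟩) ^ p ^ k = 1 := by
        rw [← map_pow]
        have : (⟨s, hs⟩ : W) ^ p ^ k = 1 := Subtype.ext hk
        rw [this, map_one]
      obtain ⟨i, hi⟩ := exists_orderOf_eq_pow h1
      exact mem_pCore_of_normal_nilpotent (N := ⊤) inferInstance hnil2 (mem_top _) Fact.out hi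
    intro a
    obtain ⟨w, rfl⟩ := QuotientGroup.mk'_surjective (B.subgroupOf W) a
    obtain ⟨y, hy, hyw⟩ := hle w.2
    have hyw' : y = w := Subtype.ext hyw
    subst hyw'
    replace hy : π y ∈ pCore p (↥W ⧸ B.subgroupOf W) := hy
    obtain ⟨k, hk⟩ := pCore_isPGroup (G := ↥W ⧸ B.subgroupOf W) p ⟨_, hy⟩
    exact ⟨k, congrArg Subtype.val hk⟩
  apply le_antisymm hBJ
  apply res_le_of
  intro x hx hc
  obtain ⟨k, hk⟩ := hXp (π ⟨x, hx⟩)
  have h1 : x ^ p ^ k ∈ B := by
    have h2 : π ((⟨x, hx⟩ : W) ^ p ^ k) = 1 := by rw [map_pow]; exact hk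
    have h3 := (hπ _).mp h2
    simpa using h3
  exact Cfsg.Agent.Lib.LocalY.Basic.mem_of_pow_mem_of_coprime h1 (n := orderOf x)
    (by rw [pow_orderOf_eq_one]; exact one_mem _) (Nat.Coprime.pow_left k hc.symm)

end Perfect

section Central

variable {G : Type*} [Group G] [Finite G] {p : ℕ} [Fact p.Prime]

open scoped commutatorElement

theorem comm_mem_pCoreOf_res {W C J : Subgroup G} (hJW : J ≤ W)
    (hJn : ∀ w ∈ W, ∀ j ∈ J, w * j * w⁻¹ ∈ J)
    (hcomm : ∀ c ∈ J ⊓ C, ∀ w ∈ W, ⁅w, c⁆ ∈ pCoreOf p W) :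
    ∀ c ∈ J ⊓ C, ∀ j ∈ J, ⁅c, j⁆ ∈ pCoreOf p J := by
  have hle : J ⊓ pCoreOf p W ≤ pCoreOf p J := by
    apply Cfsg.Agent.Lib.LocalY.FrakH.le_pCoreOf inf_le_left
    · exact (Cfsg.Agent.Lib.LocalY.FrakH.isPGroup_pCoreOf W).to_le inf_le_right
    · intro l hl u hu
      exact ⟨J.mul_mem (J.mul_mem hl hu.1) (J.inv_mem hl),
        Cfsg.Agent.Lib.LocalY.Kieler.conj_mem_pCoreOf (hJW hl) hu.2⟩
  intro c hc j hj
  apply hle
  rw [mem_inf]
  refine ⟨?_, ?_⟩
  · rw [commutatorElement_def]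
    exact J.mul_mem (J.mul_mem (J.mul_mem hc.1 hj) (J.inv_mem hc.1)) (J.inv_mem hj)
  · have h3 : ⁅c, j⁆ = ⁅j, c⁆⁻¹ := by rw [commutatorElement_inv]
    rw [h3]
    exact inv_mem (hcomm c hc j (hJW hj))

/-- Step F, in the ambient group. -/
theorem res_le_of_factor {W C M J : Subgroup G} (hJ : J = (pResidual p ↥W).map W.subtype)
    (hperf : ⁅J, J⁆ = J)
    (hcent : ∀ c ∈ J ⊓ C, ∀ j ∈ J, ⁅c, j⁆ ∈ pCoreOf p J) (hMJ : M ≤ J)
    (hMn : ∀ j ∈ J, ∀ m ∈ M, j * m * j⁻¹ ∈ M)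
    (hfact : ∀ j ∈ J, ∃ m ∈ M, ∃ c ∈ J ⊓ C, j = m * c) : J ≤ M := by
  have hJle : ⁅J, J⁆ ≤ pCoreOf p J ⊔ M := by
    rw [Subgroup.commutator_le]
    intro j₁ hj₁ j₂ hj₂
    obtain ⟨m, hm, c, hc, rfl⟩ := hfact j₁ hj₁
    have h4 : ⁅m * c, j₂⁆ = m * ⁅c, j₂⁆ * m⁻¹ * ⁅m, j₂⁆ := by
      simp only [commutatorElement_def]
      group
    rw [h4]
    refine mul_mem (mem_sup_left
      (Cfsg.Agent.Lib.LocalY.Kieler.conj_mem_pCoreOf (hMJ hm) (hcent c hc j₂ hj₂))) (mem_sup_right ?_)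
    rw [commutatorElement_def, show m * j₂ * m⁻¹ * j₂⁻¹ = m * (j₂ * m⁻¹ * j₂⁻¹) by group]
    exact M.mul_mem hm (hMn j₂ hj₂ _ (M.inv_mem hm))
  rw [hperf] at hJle
  have hON : pCoreOf p J ≤ normalizer (M : Set G) := by
    intro o ho
    exact Cfsg.Agent.Lib.LocalY.FrakM.mem_normalizer_of_forall hMn
      (Cfsg.Agent.Lib.LocalY.FrakH.pCoreOf_le J ho)
  conv_lhs => rw [hJ]
  apply res_le_of
  intro x hx hc
  have hxJ : x ∈ J := by
    rw [hJ]
    exact mem_res hx hc
  obtain ⟨o, ho, m, hm, rfl⟩ :=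
    Cfsg.Agent.Lib.LocalY.FrakM.exists_mul_of_mem_sup hON (hJle hxJ)
  obtain ⟨k, hk⟩ := Cfsg.Agent.Lib.LocalY.FrakH.isPGroup_pCoreOf (p := p) J ⟨o, ho⟩
  have hk' : o ^ p ^ k = 1 := congrArg Subtype.val hk
  obtain ⟨c', hc', h⟩ := Cfsg.Agent.Lib.LocalY.FrakM.mul_pow_mem (hON ho) hm (p ^ k)
  refine Cfsg.Agent.Lib.LocalY.Basic.mem_of_pow_mem_of_coprime (m := p ^ k) (n := orderOf (o * m))
    ?_ (by rw [pow_orderOf_eq_one]; exact one_mem _) (Nat.Coprime.pow_left k hc.symm)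
  rw [h, hk', one_mul]
  exact hc'

theorem isQuasisimple_quotient_of_ker {X Y : Type*} [Group X] [Group Y] (f : X →* Y) {M : Subgroup X}
    [hM : M.Normal] (hker : f.ker = M) {K : Subgroup Y} (hK : f.range = K) (hq : IsQuasisimple K) :
    IsQuasisimple (X ⧸ M) := by
  subst hK
  subst hker
  exact Cfsg.Agent.Lib.Components.Quasisimple.isQuasisimple_of_mulEquiv
    (QuotientGroup.quotientKerEquivRange f).symm hq

end Central

section Main

variable {G : Type*} [Group G] [Finite G] {p : ℕ} [Fact p.Prime]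

open scoped commutatorElement

theorem main_section {E C W : Subgroup G} [hn : (C.subgroupOf E).Normal]
    (hWE : W ≤ E) (hWn : ∀ e ∈ E, ∀ w ∈ W, e * w * e⁻¹ ∈ W)
    (hWgen : ∀ T : Subgroup G, (∀ s ∈ W, (∃ k : ℕ, s ^ p ^ k = 1) → s ∈ T) → W ≤ T)
    (hcomm : ⁅W, C⁆ ≤ pCoreOf p W)
    {q : G} (hqW : q ∈ W) (hqp : ∃ k : ℕ, q ^ p ^ k = 1) (hqC : q ∉ C)
    (hred : pCore p (↥E ⧸ C.subgroupOf E) = ⊥)
    (hqs : IsQuasisimple ↥((pResidual p ↥E ⊔ C.subgroupOf E).map
      (QuotientGroup.mk' (C.subgroupOf E))))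
    {J : Subgroup G} (hJdef : J = (pResidual p ↥W).map W.subtype) [hn2 : (C.subgroupOf J).Normal] :
    (pResidual p ↥E).map E.subtype ⊔ (E ⊓ C) = J ⊔ (E ⊓ C) ∧ ⁅J, J⁆ = J ∧
      (pResidual p ↥J).map J.subtype = J ∧
      IsQuasisimple (↥J ⧸ C.subgroupOf J) ∧ IsQuasisimple (↥J ⧸ pCore p ↥J) ∧
      ∀ Y : Subgroup G, Y ≤ E → IsPGroup p ↥Y → ¬ Y ≤ C → ⁅J, Y⁆ = J := by
  have hJW : J ≤ W := hJdef ▸ res_le W
  have hJE : J ≤ E := hJW.trans hWE
  have hmemJ : ∀ x ∈ W, (orderOf x).Coprime p → x ∈ J := fun x hx hc => hJdef ▸ mem_res hx hc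
  have hJnE : ∀ e ∈ E, ∀ j ∈ J, e * j * e⁻¹ ∈ J := by
    intro e he j hj
    rw [hJdef] at hj ⊢
    exact conj_mem_res (fun v hv => hWn e he v hv) hj
  have hJnW : ∀ w ∈ W, ∀ j ∈ J, w * j * w⁻¹ ∈ J := fun w hw => hJnE w (hWE hw)
  let φ : ↥E →* ↥E ⧸ C.subgroupOf E := QuotientGroup.mk' (C.subgroupOf E)
  have hφsurj : Function.Surjective φ := QuotientGroup.mk'_surjective _
  have hφ1 : ∀ x : E, φ x = 1 ↔ (x : G) ∈ C := by
    intro x
    show (QuotientGroup.mk x : ↥E ⧸ C.subgroupOf E) = 1 ↔ _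
    rw [QuotientGroup.eq_one_iff, mem_subgroupOf]
  have hφeq : ∀ x y : E, φ x = φ y → (x : G)⁻¹ * y ∈ C := by
    intro x y h
    have : φ (x⁻¹ * y) = 1 := by rw [map_mul, map_inv, h]; simp
    exact (hφ1 _).mp this
  set K : Subgroup (↥E ⧸ C.subgroupOf E) := (pResidual p ↥E ⊔ C.subgroupOf E).map φ with hKdef
  have hKn : K.Normal := Subgroup.Normal.map inferInstance φ hφsurj
  have hresK : ∀ x : E, (orderOf x).Coprime p → φ x ∈ K :=
    fun x hx => ⟨x, mem_sup_left (subset_closure hx), rfl⟩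
  have hpowK : ∀ a : ↥E ⧸ C.subgroupOf E, ∃ n : ℕ, a ^ p ^ n ∈ K := by
    intro a
    obtain ⟨x, rfl⟩ := hφsurj a
    obtain ⟨n, hn⟩ := Cfsg.Agent.Lib.LocalY.NoChar.exists_pow_coprime (p := p) x
    exact ⟨n, by rw [← map_pow]; exact hresK _ hn⟩
  have hWNorm : (W.subgroupOf E).Normal :=
    ⟨fun x hx g => by rw [mem_subgroupOf] at hx ⊢; exact hWn g g.2 x hx⟩
  have hWbN : ((W.subgroupOf E).map φ).Normal := hWNorm.map φ hφsurj
  have hKW : K ≤ (W.subgroupOf E).map φ := by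
    obtain ⟨k, hk⟩ := hqp
    have hqE := hWE hqW
    have h1 : (φ ⟨q, hqE⟩) ^ p ^ k = 1 := by
      rw [← map_pow]
      have : (⟨q, hqE⟩ : E) ^ p ^ k = 1 := Subtype.ext hk
      rw [this, map_one]
    obtain ⟨i, hi⟩ := exists_orderOf_eq_pow h1
    exact le_of_mem_of_normal hred hqs hpowK (x := φ ⟨q, hqE⟩)
      ⟨⟨q, hqE⟩, mem_subgroupOf.mpr hqW, rfl⟩ (fun h => hqC ((hφ1 _).mp h)) hi
  have hA : ∀ x ∈ E, (orderOf x).Coprime p → ∃ b ∈ J, ∃ c ∈ E ⊓ C, x = b * c := by
    intro x hx hc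
    have hxc : (orderOf (⟨x, hx⟩ : E)).Coprime p := by rw [Subgroup.orderOf_mk]; exact hc
    obtain ⟨w₀, hw₀, hw₀x⟩ := hKW (hresK _ hxc)
    have hwW : (w₀ : G) ∈ W := mem_subgroupOf.mp hw₀
    have hcC : (w₀ : G)⁻¹ * x ∈ C := hφeq w₀ ⟨x, hx⟩ hw₀x
    have hwr : (w₀ : G) ^ orderOf x ∈ C := by
      have h1 : φ (w₀ ^ orderOf x) = 1 := by
        rw [map_pow, hw₀x, ← map_pow]
        have : (⟨x, hx⟩ : E) ^ orderOf x = 1 := Subtype.ext (pow_orderOf_eq_one x)
        rw [this, map_one]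
      exact (hφ1 _).mp h1
    obtain ⟨a, b, hab, hcomm', ha, hb, ⟨k, hk⟩, hbc⟩ :=
      Cfsg.Agent.Lib.Transfer.Basic.exists_pPart_decomp (p := p) (w₀ : G)
    have hzW : zpowers (w₀ : G) ≤ W := by
      rw [zpowers_le]
      exact hwW
    have haC : a ∈ C := by
      obtain ⟨i, rfl⟩ := ha
      refine Cfsg.Agent.Lib.LocalY.Basic.mem_of_pow_mem_of_coprime (m := orderOf x) (n := p ^ k)
        ?_ ?_ (Nat.Coprime.pow_right k hc)
      · have : (fun z : ℤ => (w₀ : G) ^ z) i ^ orderOf x = ((w₀ : G) ^ orderOf x) ^ i := by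
          simp only
          rw [← zpow_natCast, ← zpow_natCast, ← zpow_mul, ← zpow_mul, mul_comm]
        rw [this]
        exact C.zpow_mem hwr i
      · rw [← hk, pow_orderOf_eq_one]
        exact one_mem _
    have hbJ : b ∈ J := hmemJ b (hzW hb) hbc
    refine ⟨b, hbJ, a * ((w₀ : G)⁻¹ * x),
      ⟨E.mul_mem (hWE (hzW ha)) (E.mul_mem (E.inv_mem (hWE hwW)) hx), C.mul_mem haC hcC⟩, ?_⟩
    have h5 : b * a = w₀ := by rw [← hab]; exact hcomm'.eq.symm
    rw [← mul_assoc, h5]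
    group
  have hJres : J ≤ (pResidual p ↥E).map E.subtype := by
    rw [hJdef]
    exact res_le_of (fun x hx hc => mem_res (hWE hx) hc)
  have hconjA : (pResidual p ↥E).map E.subtype ⊔ (E ⊓ C) = J ⊔ (E ⊓ C) := by
    apply le_antisymm
    · apply sup_le _ le_sup_right
      apply res_le_of
      intro x hx hc
      obtain ⟨b, hb, c, hc', rfl⟩ := hA x hx hc
      exact mul_mem_sup hb hc'
    · exact sup_le_sup_right hJres _
  have hKJ : K = (J.subgroupOf E).map φ := by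
    apply le_antisymm
    · rw [hKdef, map_le_iff_le_comap]
      apply sup_le
      · rw [pResidual, closure_le]
        intro x hx
        have hx' : (orderOf (x : G)).Coprime p := by rw [Subgroup.orderOf_coe]; exact hx
        obtain ⟨b, hb, c, hc', hxb⟩ := hA x x.2 hx'
        refine ⟨⟨b, hJE hb⟩, mem_subgroupOf.mpr hb, ?_⟩
        have h1 : φ (⟨b, hJE hb⟩⁻¹ * x) = 1 := by
          rw [hφ1]
          show b⁻¹ * (x : G) ∈ C
          rw [hxb]
          simpa using hc'.2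
        rw [map_mul, map_inv] at h1
        exact (inv_mul_eq_one.mp h1)
      · intro c hc
        show φ c ∈ (J.subgroupOf E).map φ
        rw [(hφ1 c).mpr (mem_subgroupOf.mp hc)]
        exact one_mem _
    · rw [map_le_iff_le_comap]
      intro j hj
      obtain ⟨y, hy, hyj⟩ := hJres (mem_subgroupOf.mp hj)
      have : y = j := Subtype.ext hyj
      exact ⟨j, mem_sup_left (this ▸ hy), rfl⟩
  have hlift : ∀ T : Subgroup E, T.map φ = K → ∀ j ∈ J, ∃ z ∈ T, (z : G)⁻¹ * j ∈ C := by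
    intro T hT j hj
    have h1 : φ ⟨j, hJE hj⟩ ∈ K := hKJ ▸ ⟨⟨j, hJE hj⟩, mem_subgroupOf.mpr hj, rfl⟩
    rw [← hT] at h1
    obtain ⟨z, hz, hzj⟩ := h1
    exact ⟨z, hz, hφeq _ _ hzj⟩
  have hcoe : ∀ Y : Subgroup G, ∀ z ∈ ⁅J.subgroupOf E, Y.subgroupOf E⁆, (z : G) ∈ ⁅J, Y⁆ := by
    intro Y z hz
    have hle : ⁅J.subgroupOf E, Y.subgroupOf E⁆ ≤ (⁅J, Y⁆).subgroupOf E := by
      rw [Subgroup.commutator_le]
      intro a ha b hb
      rw [mem_subgroupOf]
      exact commutator_mem_commutator (mem_subgroupOf.mp ha) (mem_subgroupOf.mp hb)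
    exact mem_subgroupOf.mp (hle hz)
  have hperfK : ⁅K, K⁆ = K := Subgroup.isPerfect_iff.mp hqs.1
  have hfact : ∀ j ∈ J, ∃ b ∈ ⁅J, J⁆, ∃ c ∈ J ⊓ C, j = b * c := by
    intro j hj
    have hT : (⁅J.subgroupOf E, J.subgroupOf E⁆).map φ = K := by
      rw [map_commutator, ← hKJ, hperfK]
    obtain ⟨z, hz, hzj⟩ := hlift _ hT j hj
    have hz' := hcoe J z hz
    exact ⟨z, hz', (z : G)⁻¹ * j, ⟨J.mul_mem (J.inv_mem (commutator_le_self J hz')) hj, hzj⟩,
      by group⟩
  have hcommJ : ∀ c ∈ J ⊓ C, ∀ w ∈ W, ⁅w, c⁆ ∈ pCoreOf p W :=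
    fun c hc w hw => hcomm (commutator_mem_commutator hw hc.2)
  have hperf : ⁅J, J⁆ = J := by
    subst hJdef
    exact commutator_res_eq hWgen hcommJ hfact
  have hcent := comm_mem_pCoreOf_res hJW hJnW hcommJ
  have hC : (pResidual p ↥J).map J.subtype = J := by
    subst hJdef
    exact res_res W
  -- the map from `J`
  let ψ : ↥J →* ↥E ⧸ C.subgroupOf E := φ.comp (Subgroup.inclusion hJE)
  have hψker : ψ.ker = C.subgroupOf J := by
    ext x
    rw [MonoidHom.mem_ker, mem_subgroupOf]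
    exact hφ1 _
  have hψrange : ψ.range = K := by
    rw [hKJ, MonoidHom.range_comp]
    congr 1
    ext x
    constructor
    · rintro ⟨y, rfl⟩
      exact mem_subgroupOf.mpr y.2
    · intro hx
      exact ⟨⟨x, mem_subgroupOf.mp hx⟩, rfl⟩
  have hD : IsQuasisimple (↥J ⧸ C.subgroupOf J) :=
    isQuasisimple_quotient_of_ker ψ hψker hψrange hqs
  have hOC : pCoreOf p J ≤ C := by
    have hcj : ∀ e ∈ E, ∀ o ∈ pCoreOf p J, e * o * e⁻¹ ∈ pCoreOf p J := by
      intro e he o ho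
      have hcjJ : (J.map (MulAut.conj e).toMonoidHom) = J := by
        apply le_antisymm
        · rintro _ ⟨j, hj, rfl⟩
          exact hJnE e he j hj
        · intro j hj
          refine ⟨e⁻¹ * j * e, ?_, by simp [mul_assoc]⟩
          simpa using hJnE e⁻¹ (E.inv_mem he) j hj
      have h1 : (pCoreOf p J).map (MulAut.conj e).toMonoidHom ≤
          pCoreOf p (J.map (MulAut.conj e).toMonoidHom) :=
        Cfsg.Agent.Lib.LocalY.FrakH.pCoreOf_cj_le (p := p) e J
      rw [hcjJ] at h1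
      exact h1 ⟨o, ho, rfl⟩
    have hON : ((pCoreOf p J).subgroupOf E).Normal :=
      ⟨fun x hx g => by rw [mem_subgroupOf] at hx ⊢; exact hcj g g.2 x hx⟩
    have hRN := hON.map φ hφsurj
    have hRp : IsPGroup p ↥(((pCoreOf p J).subgroupOf E).map φ) := by
      rintro ⟨x, y, hy, rfl⟩
      obtain ⟨k, hk⟩ := Cfsg.Agent.Lib.LocalY.FrakH.isPGroup_pCoreOf (p := p) J
        ⟨_, mem_subgroupOf.mp hy⟩
      refine ⟨k, Subtype.ext ?_⟩
      have hk' : (y : G) ^ p ^ k = 1 := congrArg Subtype.val hk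
      have hk2 : y ^ p ^ k = 1 := Subtype.ext hk'
      show φ y ^ p ^ k = 1
      rw [← map_pow, hk2, map_one]
    have hle := le_pCore hRN hRp
    rw [hred] at hle
    intro o ho
    have hoE := hJE (Cfsg.Agent.Lib.LocalY.FrakH.pCoreOf_le J ho)
    have h1 : φ ⟨o, hoE⟩ ∈ ((pCoreOf p J).subgroupOf E).map φ :=
      ⟨⟨o, hoE⟩, mem_subgroupOf.mpr ho, rfl⟩
    have h2 := hle h1
    rw [mem_bot] at h2
    exact (hφ1 _).mp h2
  have hE : IsQuasisimple (↥J ⧸ pCore p ↥J) := by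
    have hOker : pCore p ↥J ≤ ψ.ker := by
      intro o ho
      rw [hψker, mem_subgroupOf]
      exact hOC ⟨o, ho, rfl⟩
    let ψ' : ↥J ⧸ pCore p ↥J →* ↥E ⧸ C.subgroupOf E := QuotientGroup.lift _ ψ hOker
    have hr : ∀ x, ψ' x ∈ K := by
      intro x
      obtain ⟨j, rfl⟩ := QuotientGroup.mk_surjective x
      show ψ j ∈ K
      rw [← hψrange]
      exact ⟨j, rfl⟩
    let f : ↥J ⧸ pCore p ↥J →* ↥K := ψ'.codRestrict K hr
    have hfs : Function.Surjective f := by
      rintro ⟨k, hk⟩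
      rw [← hψrange] at hk
      obtain ⟨j, hj⟩ := hk
      exact ⟨QuotientGroup.mk j, Subtype.ext hj⟩
    have hperfJ : Group.IsPerfect ↥J := Subgroup.isPerfect_iff.mpr hperf
    have hperfX : Group.IsPerfect (↥J ⧸ pCore p ↥J) :=
      Group.IsPerfect.ofSurjective (QuotientGroup.mk'_surjective _)
    apply isQuasisimple_of_surjective_central hfs hqs hperfX
    intro x hx
    obtain ⟨j, rfl⟩ := QuotientGroup.mk_surjective x
    have hj : ψ j = 1 := by
      have h1 : f (QuotientGroup.mk j) = 1 := hx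
      exact congrArg Subtype.val h1
    have hjC : (j : G) ∈ C := (hφ1 _).mp hj
    rw [mem_center_iff]
    intro y
    obtain ⟨l, rfl⟩ := QuotientGroup.mk_surjective y
    obtain ⟨o, ho, hol⟩ := hcent j ⟨j.2, hjC⟩ l l.2
    have h2 : o = ⁅j, l⁆ := Subtype.ext hol
    subst h2
    have h3 : (QuotientGroup.mk' (pCore p ↥J)) ⁅j, l⁆ = 1 := (QuotientGroup.eq_one_iff _).mpr ho
    rw [map_commutatorElement, commutatorElement_eq_one_iff_commute] at h3
    exact h3.symm.eq
  have hF : ∀ Y : Subgroup G, Y ≤ E → IsPGroup p ↥Y → ¬ Y ≤ C → ⁅J, Y⁆ = J := by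
    intro Y hYE hYp hYC
    obtain ⟨y, hy, hyC⟩ := SetLike.not_le_iff_exists.mp hYC
    have hYbp : IsPGroup p ↥((Y.subgroupOf E).map φ) := by
      rintro ⟨x, z, hz, rfl⟩
      obtain ⟨k, hk⟩ := hYp ⟨_, mem_subgroupOf.mp hz⟩
      refine ⟨k, Subtype.ext ?_⟩
      have hk' : (z : G) ^ p ^ k = 1 := congrArg Subtype.val hk
      have hk2 : z ^ p ^ k = 1 := Subtype.ext hk'
      show φ z ^ p ^ k = 1
      rw [← map_pow, hk2, map_one]
    have hYb1 : (Y.subgroupOf E).map φ ≠ ⊥ := by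
      intro h
      have h1 : φ ⟨y, hYE hy⟩ ∈ (Y.subgroupOf E).map φ := ⟨⟨y, hYE hy⟩, mem_subgroupOf.mpr hy, rfl⟩
      rw [h, mem_bot] at h1
      exact hyC ((hφ1 _).mp h1)
    have hc := commutator_eq_of_isPGroup hred hqs hpowK hYbp hYb1
    have hT : (⁅J.subgroupOf E, Y.subgroupOf E⁆).map φ = K := by
      rw [map_commutator, ← hKJ, hc]
    have hTJ : ⁅J, Y⁆ ≤ J := by
      rw [Subgroup.commutator_le]
      intro a ha b hb
      rw [commutatorElement_def, show a * b * a⁻¹ * b⁻¹ = a * (b * a⁻¹ * b⁻¹) by group]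
      exact J.mul_mem ha (hJnE b (hYE hb) _ (J.inv_mem ha))
    apply le_antisymm hTJ
    apply res_le_of_factor hJdef hperf hcent hTJ
      (fun j hj m hm => Cfsg.Agent.Lib.Fischer.Struct.conj_mem_commutator hj hm)
    intro j hj
    obtain ⟨z, hz, hzj⟩ := hlift _ hT j hj
    have hz' := hcoe Y z hz
    exact ⟨z, hz', (z : G)⁻¹ * j, ⟨J.mul_mem (J.inv_mem (hTJ hz')) hj, hzj⟩, by group⟩
  exact ⟨hconjA, hperf, hC, hD, hE, hF⟩

end Main

end Cfsg.Agent.Lib.LocalY.QuasiSection
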